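import Groth.Agent.DerExt61.Rank
import Mathlib

/-!
# Generators of completed differentials near a prime and unramified Noether normalisations
-/

set_option autoImplicit false

noncomputable section

universe u

open IsLocalRing TensorProduct

namespace Groth.Agent.DerExt61.Unram

open Rank

theorem span_eq_top_iff {A : Type u} [CommRing A] {M : Type u} [AddCommGroup M] [Module A M] (p : Ideal A)
    [p.IsPrime] {ι : Type*} (y : ι → M) :
    Submodule.span (Localization.AtPrime p)
        (Set.range fun i => LocalizedModule.mkLinearMap p.primeCompl M (y i)) = ⊤ ↔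
      ∀ z : M, ∃ t ∉ p, t • z ∈ Submodule.span A (Set.range y) := by
  constructor
  · intro h z
    have key : ∀ w ∈ Submodule.span (Localization.AtPrime p)
        (Set.range fun i => LocalizedModule.mkLinearMap p.primeCompl M (y i)),
        ∃ t ∉ p, ∃ z ∈ Submodule.span A (Set.range y), t • w = LocalizedModule.mkLinearMap p.primeCompl M z := by
      intro w hw
      induction hw using Submodule.span_induction with
      | mem w hw =>
        obtain ⟨i, rfl⟩ := hw
        exact ⟨1, p.primeCompl.one_mem, y i, Submodule.subset_span ⟨i, rfl⟩, one_smul _ _⟩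
      | zero => exact ⟨1, p.primeCompl.one_mem, 0, zero_mem _, by simp⟩
      | add a b _ _ ha hb =>
        obtain ⟨t, ht, z, hz, e⟩ := ha
        obtain ⟨t', ht', z', hz', e'⟩ := hb
        refine ⟨t * t', p.primeCompl.mul_mem ht ht', t' • z + t • z', add_mem (Submodule.smul_mem _ _ hz) (Submodule.smul_mem _ _ hz'), ?_⟩
        rw [smul_add, map_add, map_smul, map_smul, mul_smul, mul_comm, ← e, ← e', smul_comm t t' a]
        rw [mul_smul, smul_comm t' t b]
      | smul c a _ ha =>
        obtain ⟨t, ht, z, hz, e⟩ := ha
        obtain ⟨r, s, rfl⟩ := IsLocalization.exists_mk'_eq p.primeCompl c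
        refine ⟨s * t, p.primeCompl.mul_mem s.2 ht, r • z, Submodule.smul_mem _ _ hz, ?_⟩
        rw [map_smul, ← e, mul_smul, smul_comm t, ← smul_assoc (s : A), Algebra.smul_def (s : A)]
        rw [IsLocalization.mk'_spec', algebraMap_smul]
    obtain ⟨t, ht, z', hz', e⟩ := key (LocalizedModule.mkLinearMap p.primeCompl M z) (by rw [h]; trivial)
    rw [← map_smul] at e
    obtain ⟨c, hc⟩ := IsLocalizedModule.exists_of_eq (S := p.primeCompl)
      (f := LocalizedModule.mkLinearMap p.primeCompl M) e
    refine ⟨c * t, p.primeCompl.mul_mem c.2 ht, ?_⟩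
    rw [mul_smul, show (c : A) • t • z = c • z' from hc]
    exact Submodule.smul_mem _ _ hz'
  · intro h
    rw [eq_top_iff]
    intro w hw'
    clear hw'
    induction w using LocalizedModule.induction_on with
    | h z c =>
      obtain ⟨t, ht, htz⟩ := h z
      have h1 : LocalizedModule.mkLinearMap p.primeCompl M (t • z) ∈ Submodule.span (Localization.AtPrime p)
          (Set.range fun i => LocalizedModule.mkLinearMap p.primeCompl M (y i)) := by
        refine Submodule.span_le_restrictScalars A (Localization.AtPrime p) _ ?_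
        rw [Set.range_comp' (LocalizedModule.mkLinearMap p.primeCompl M), Submodule.span_image]
        exact ⟨_, htz, rfl⟩
      have : LocalizedModule.mk z c = Localization.mk (1 : A) (c * ⟨t, ht⟩) •
          LocalizedModule.mkLinearMap p.primeCompl M (t • z) := by
        rw [LocalizedModule.mkLinearMap_apply, LocalizedModule.mk_smul_mk, one_smul, mul_one,
          show t • z = (⟨t, ht⟩ : p.primeCompl) • z from rfl]
        exact (LocalizedModule.mk_cancel_common_right c ⟨t, ht⟩ z).symm
      rw [this]
      exact Submodule.smul_mem _ _ h1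

theorem exists_gens_of_localized {A : Type u} [CommRing A] {M : Type u} [AddCommGroup M] [Module A M]
    (p : Ideal A) [p.IsPrime] {ι : Type*} (s : ι → LocalizedModule p.primeCompl M)
    (hs : Submodule.span (Localization.AtPrime p) (Set.range s) = ⊤) :
    ∃ y : ι → M, ∀ z : M, ∃ t ∉ p, t • z ∈ Submodule.span A (Set.range y) := by
  have hex : ∀ i, ∃ (y : M) (c : p.primeCompl), LocalizedModule.mk y c = s i := fun i => by
    induction s i using LocalizedModule.induction_on with
    | h y c => exact ⟨y, c, rfl⟩
  choose y c hy using hex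
  refine ⟨y, (span_eq_top_iff p y).mp ?_⟩
  rw [eq_top_iff, ← hs, Submodule.span_le]
  rintro _ ⟨i, rfl⟩
  have : s i = Localization.mk (1 : A) (c i) • LocalizedModule.mkLinearMap p.primeCompl M (y i) := by
    rw [LocalizedModule.mkLinearMap_apply, LocalizedModule.mk_smul_mk, one_smul, mul_one, hy]
  rw [this]
  exact Submodule.smul_mem _ _ (Submodule.subset_span ⟨i, rfl⟩)

variable {k A : Type u} [Field k] [CommRing A] [IsLocalRing A] [IsNoetherianRing A] [Algebra k A]
  [IsAdicComplete (maximalIdeal A) A] [Module.Finite k (ResidueField A)]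

/-- The completed differential. -/
abbrev dh (k A : Type u) [Field k] [CommRing A] [IsLocalRing A] [Algebra k A] (a : A) :
    AdicCompletion (maximalIdeal A) (KaehlerDifferential k A) :=
  AdicCompletion.of (maximalIdeal A) _ (KaehlerDifferential.D k A a)

theorem span_range_dh : Submodule.span A (Set.range (dh k A)) = ⊤ := by
  rw [eq_top_iff]
  intro z hz'
  clear hz'
  obtain ⟨η, rfl⟩ := (finite_and_surjective (k := k) (A := A)).2 z
  have hη : η ∈ Submodule.span A (Set.range (KaehlerDifferential.D k A)) := by
    rw [KaehlerDifferential.span_range_derivation]; trivial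
  induction hη using Submodule.span_induction with
  | mem z hz =>
    obtain ⟨a, rfl⟩ := hz
    exact Submodule.subset_span ⟨a, rfl⟩
  | zero => simp
  | add y z _ _ hy hz => rw [map_add]; exact add_mem hy hz
  | smul r z _ ihz => rw [map_smul]; exact Submodule.smul_mem _ r ihz

/-- Units adjusting given elements outside `p` so that their differentials generate near `p`. -/
theorem exists_units (p : Ideal A) [p.IsPrime] {m : ℕ} (x : Fin m → A) (hx : ∀ i, x i ∉ p)
    (y : Fin m → AdicCompletion (maximalIdeal A) (KaehlerDifferential k A))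
    (hy : ∀ z, ∃ t ∉ p, t • z ∈ Submodule.span A (Set.range y)) :
    ∃ u : Fin m → Aˣ, ∀ z, ∃ t ∉ p, t • z ∈ Submodule.span A (Set.range fun i => dh k A (u i * x i)) := by
  classical
  set K := p.ResidueField
  have hfin : Module.Finite A (AdicCompletion (maximalIdeal A) (KaehlerDifferential k A)) := finite_completedKaehler
  let π : (AdicCompletion (maximalIdeal A) (KaehlerDifferential k A)) →ₗ[A] K ⊗[A] (AdicCompletion (maximalIdeal A) (KaehlerDifferential k A)) := TensorProduct.mk A K (AdicCompletion (maximalIdeal A) (KaehlerDifferential k A)) 1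
  have hdim : Module.finrank K (K ⊗[A] (AdicCompletion (maximalIdeal A) (KaehlerDifferential k A))) ≤ m := by
    have htop : Submodule.span K (Set.range (π ∘ y)) = ⊤ := by
      rw [eq_top_iff, ← span_one_tmul_eq_top (AdicCompletion (maximalIdeal A) (KaehlerDifferential k A)) p, Submodule.span_le]
      rintro _ ⟨z, rfl⟩
      obtain ⟨t, ht, htz⟩ := hy z
      have h1 : π (t • z) ∈ Submodule.span K (Set.range (π ∘ y)) := by
        refine Submodule.span_le_restrictScalars A K _ ?_
        rw [Set.range_comp, Submodule.span_image]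
        exact ⟨_, htz, rfl⟩
      rw [map_smul, ← algebraMap_smul K t] at h1
      have htK : algebraMap A K t ≠ 0 := fun h => ht (p.algebraMap_residueField_eq_zero.mp h)
      exact (Submodule.smul_mem_iff _ htK).mp h1
    have h2 := finrank_range_le_card (R := K) (π ∘ y)
    unfold Set.finrank at h2
    rw [htop, finrank_top, Fintype.card_fin] at h2
    exact h2
  have hd : ∀ (u : A) (v : A), π (dh k A (u * v)) =
      algebraMap A K u • π (dh k A v) + algebraMap A K v • π (dh k A u) := by
    intro u v
    simp only [dh, Derivation.leibniz, map_add, map_smul, algebraMap_smul]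
  have hchoose : ∀ (S : Submodule K (K ⊗[A] (AdicCompletion (maximalIdeal A) (KaehlerDifferential k A)))), S ≠ ⊤ → ∀ v : A, v ∉ p → ∃ u : Aˣ, π (dh k A (u * v)) ∉ S := by
    intro S hS v hv
    by_contra hcon
    push Not at hcon
    apply hS
    have hvK : algebraMap A K v ≠ 0 := fun h => hv (p.algebraMap_residueField_eq_zero.mp h)
    have hdv : π (dh k A v) ∈ S := by
      have h := hcon 1
      rwa [Units.val_one, one_mul] at h
    have hu : ∀ u : Aˣ, π (dh k A u) ∈ S := by
      intro u
      have h := hcon u
      rw [hd] at h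
      have := (Submodule.add_mem_iff_right S (S.smul_mem _ hdv)).mp h
      exact (S.smul_mem_iff hvK).mp this
    have hall : ∀ a, π (dh k A a) ∈ S := by
      intro a
      rcases IsLocalRing.isUnit_or_isUnit_one_sub_self a with h | h
      · exact hu h.unit
      · have e : π (dh k A a) = - π (dh k A (1 - a)) := by
          simp only [dh]
          rw [map_sub, Derivation.map_one_eq_zero, zero_sub, map_neg, map_neg, neg_neg]
        rw [e]
        exact neg_mem (hu h.unit)
    have hM : ∀ z, π z ∈ S := by
      intro z
      have hz : z ∈ Submodule.span A (Set.range (dh k A)) := by rw [span_range_dh]; trivial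
      induction hz using Submodule.span_induction with
      | mem z hz => obtain ⟨a, rfl⟩ := hz; exact hall a
      | zero => rw [map_zero]; exact zero_mem _
      | add y z _ _ hy hz => rw [map_add]; exact add_mem hy hz
      | smul r z _ ihz => rw [map_smul]; exact Submodule.smul_of_tower_mem _ r ihz
    rw [eq_top_iff, ← span_one_tmul_eq_top (AdicCompletion (maximalIdeal A) (KaehlerDifferential k A)) p, Submodule.span_le]
    rintro _ ⟨z, rfl⟩
    exact hM z
  have key : ∀ j, ∀ hj : j ≤ m, ∃ u : Fin j → Aˣ, min j (Module.finrank K (K ⊗[A] (AdicCompletion (maximalIdeal A) (KaehlerDifferential k A)))) ≤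
      Module.finrank K (Submodule.span K (Set.range fun i => π (dh k A (u i * x (Fin.castLE hj i))))) := by
    intro j
    induction j with
    | zero => exact fun _ => ⟨Fin.elim0, by simp⟩
    | succ j ih =>
      intro hj
      obtain ⟨u, hu⟩ := ih (by omega)
      set S := Submodule.span K (Set.range fun i => π (dh k A (u i * x (Fin.castLE (by omega : j ≤ m) i)))) with hS
      by_cases htop : S = ⊤
      · refine ⟨Fin.snoc u 1, le_trans (min_le_right _ _) ?_⟩
        have hle : S ≤ Submodule.span K (Set.range fun i =>
            π (dh k A ((Fin.snoc u 1 : Fin (j + 1) → Aˣ) i * x (Fin.castLE hj i)))) := by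
          refine Submodule.span_mono ?_
          rintro _ ⟨i, rfl⟩
          exact ⟨i.castSucc, by simp only [Fin.snoc_castSucc]; rfl⟩
        rw [htop] at hle
        rw [top_le_iff.mp hle, finrank_top]
      · obtain ⟨v, hv⟩ := hchoose S htop (x ⟨j, by omega⟩) (hx _)
        refine ⟨Fin.snoc u v, ?_⟩
        set S' := Submodule.span K (Set.range fun i =>
            π (dh k A ((Fin.snoc u v : Fin (j + 1) → Aˣ) i * x (Fin.castLE hj i))))
        have hlt : S < S' := by
          refine lt_of_le_of_ne (Submodule.span_mono ?_) fun e => hv ?_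
          · rintro _ ⟨i, rfl⟩
            exact ⟨i.castSucc, by simp only [Fin.snoc_castSucc]; rfl⟩
          · rw [e]
            exact Submodule.subset_span ⟨Fin.last j, by simp only [Fin.snoc_last]; rfl⟩
        have := Submodule.finrank_lt_finrank_of_lt hlt
        omega
  obtain ⟨u, hu⟩ := key m le_rfl
  refine ⟨u, exists_smul_mem_of_span p _ ?_⟩
  rw [min_eq_right hdim] at hu
  exact Submodule.eq_top_of_finrank_eq (le_antisymm (Submodule.finrank_le _) hu)

section Presentation

variable {r : ℕ} [Algebra (MvPowerSeries (Fin r) k) A] [IsScalarTower k (MvPowerSeries (Fin r) k) A]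
  [IsLocalHom (algebraMap (MvPowerSeries (Fin r) k) A)]

omit [IsNoetherianRing A] [IsAdicComplete (maximalIdeal A) A] [Module.Finite k (ResidueField A)] in
theorem sub_mem_pow (c : MvPowerSeries (Fin r) k) (n : ℕ) :
    KaehlerDifferential.D k A (algebraMap _ A c) - ∑ i, algebraMap _ A (MvPowerSeries.pderiv k i c) •
      KaehlerDifferential.D k A (algebraMap (MvPowerSeries (Fin r) k) A (MvPowerSeries.X i)) ∈
      (maximalIdeal A ^ n • ⊤ : Submodule A (KaehlerDifferential k A)) := by
  classical
  let P := MvPowerSeries (Fin r) k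
  let δ : P → KaehlerDifferential k A := fun c => KaehlerDifferential.D k A (algebraMap P A c) -
    ∑ i, algebraMap P A (MvPowerSeries.pderiv k i c) • KaehlerDifferential.D k A (algebraMap P A (MvPowerSeries.X i))
  have hadd : ∀ x y, δ (x + y) = δ x + δ y := fun x y => by
    simp only [δ, map_add, add_smul, Finset.sum_add_distrib]; abel
  have hmul : ∀ x y, δ (x * y) = algebraMap P A x • δ y + algebraMap P A y • δ x := fun x y => by
    simp only [δ, map_mul, Derivation.leibniz, smul_eq_mul, map_add, add_smul, mul_smul, Finset.sum_add_distrib,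
      smul_sub, Finset.smul_sum]
    abel
  have hX : ∀ i, δ (MvPowerSeries.X i) = 0 := fun i => by
    simp [δ, MvPowerSeries.pderiv_X, Pi.single_apply, apply_ite, ite_smul]
  have hC : ∀ l : k, δ (algebraMap k P l) = 0 := fun l => by
    have hp : ∀ i, MvPowerSeries.pderiv k i (algebraMap k P l) = 0 := fun i => by
      rw [MvPowerSeries.algebraMap_apply, Algebra.algebraMap_self, RingHom.id_apply, MvPowerSeries.pderiv_C]
    simp only [δ, hp, ← IsScalarTower.algebraMap_apply k P A, Derivation.map_algebraMap, map_zero, zero_smul,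
      Finset.sum_const_zero, sub_zero]
  have hsum : ∀ (s : Finset (Fin r)) (f : Fin r → P), δ (∑ i ∈ s, f i) = ∑ i ∈ s, δ (f i) := fun s f =>
    map_sum (AddMonoidHom.mk' δ hadd) f s
  show δ c ∈ _
  induction n generalizing c with
  | zero => rw [pow_zero, Ideal.one_eq_top, Submodule.top_smul]; trivial
  | succ n ih =>
    have h0 : MvPowerSeries.constantCoeff (c - algebraMap k P (MvPowerSeries.constantCoeff c)) = 0 := by
      rw [map_sub, MvPowerSeries.algebraMap_apply, MvPowerSeries.constantCoeff_C]
      simp
    obtain ⟨f, hf⟩ := Ideal.mem_span_range_iff_exists_fun.mp (Nagata.Normalization.mem_span_X h0)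
    have hc : c = algebraMap k P (MvPowerSeries.constantCoeff c) + ∑ i, f i * MvPowerSeries.X i := by
      rw [hf]; ring
    rw [hc, hadd, hC, zero_add, hsum]
    refine sum_mem fun i _ => ?_
    rw [hmul, hX, smul_zero, zero_add, pow_succ', ← smul_eq_mul, Submodule.smul_assoc]
    refine Submodule.smul_mem_smul ?_ (ih (f i))
    rw [mem_maximalIdeal]
    intro hu
    have h2 : IsUnit (MvPowerSeries.X i : P) := (isUnit_map_iff (algebraMap P A) _).mp hu
    rw [MvPowerSeries.isUnit_iff_constantCoeff, MvPowerSeries.constantCoeff_X] at h2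
    exact not_isUnit_zero h2

omit [IsNoetherianRing A] [IsAdicComplete (maximalIdeal A) A] [Module.Finite k (ResidueField A)] in
theorem dh_algebraMap_mem (c : MvPowerSeries (Fin r) k) :
    dh k A (algebraMap _ A c) ∈ Submodule.span A
      (Set.range fun i : Fin r => dh k A (algebraMap (MvPowerSeries (Fin r) k) A (MvPowerSeries.X i))) := by
  have e : dh k A (algebraMap _ A c) = ∑ i, algebraMap _ A (MvPowerSeries.pderiv k i c) •
      dh k A (algebraMap (MvPowerSeries (Fin r) k) A (MvPowerSeries.X i)) := by
    simp only [dh, ← map_smul, ← map_sum]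
    rw [← sub_eq_zero, ← map_sub]
    refine AdicCompletion.ext fun n => ?_
    rw [AdicCompletion.val_zero_apply]
    exact (Submodule.Quotient.mk_eq_zero _).mpr (sub_mem_pow c n)
  rw [e]
  exact sum_mem fun i _ => Submodule.smul_mem _ _ (Submodule.subset_span ⟨i, rfl⟩)

/-- The images of the variables generate near `p` exactly when the algebra is unramified at `p`. -/
theorem isUnramifiedAt_iff [Module.Finite (MvPowerSeries (Fin r) k) A] (p : Ideal A) [p.IsPrime] :
    Algebra.IsUnramifiedAt (MvPowerSeries (Fin r) k) p ↔
      ∀ z, ∃ t ∉ p, t • z ∈ Submodule.span A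
        (Set.range fun i : Fin r => dh k A (algebraMap (MvPowerSeries (Fin r) k) A (MvPowerSeries.X i))) := by
  set P := MvPowerSeries (Fin r) k
  set m := maximalIdeal A
  set N := Submodule.span A (Set.range fun i : Fin r => dh k A (algebraMap P A (MvPowerSeries.X i)))
  have hmem : Algebra.IsUnramifiedAt P p ↔
      ∀ ω : KaehlerDifferential P A, ∃ t ∉ p, t • ω = 0 := by
    rw [← Module.notMem_support_iff' (p := (⟨p, ‹_›⟩ : PrimeSpectrum A))]
    rw [← Set.mem_compl_iff, ← Algebra.unramifiedLocus_eq_compl_support]
    rfl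
  rw [hmem]
  constructor
  · intro h z
    obtain ⟨η, rfl⟩ := (finite_and_surjective (k := k) (A := A)).2 z
    obtain ⟨t, ht, htz⟩ := h (KaehlerDifferential.map k P A A η)
    refine ⟨t, ht, ?_⟩
    rw [← map_smul] at htz ⊢
    obtain ⟨w, hw⟩ : t • η ∈ LinearMap.range (KaehlerDifferential.mapBaseChange k P A) := by
      rw [KaehlerDifferential.range_mapBaseChange]; exact htz
    rw [← hw]
    clear hw
    induction w using TensorProduct.induction_on with
    | zero => simp
    | add a b ha hb => rw [map_add, map_add]; exact add_mem ha hb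
    | tmul a ω =>
      rw [KaehlerDifferential.mapBaseChange_tmul, map_smul]
      refine Submodule.smul_mem _ _ ?_
      have hω : ω ∈ Submodule.span P (Set.range (KaehlerDifferential.D k P)) := by
        rw [KaehlerDifferential.span_range_derivation]; trivial
      induction hω using Submodule.span_induction with
      | mem z hz =>
        obtain ⟨c, rfl⟩ := hz
        rw [KaehlerDifferential.map_D]
        exact dh_algebraMap_mem c
      | zero => simp
      | add y z _ _ hy hz => rw [map_add, map_add]; exact add_mem hy hz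
      | smul b y _ hy =>
        rw [map_smul, ← algebraMap_smul A b, map_smul]
        exact Submodule.smul_mem _ _ hy
  · intro h ω
    have : Module.Finite A (KaehlerDifferential P A) := inferInstance
    have : IsAdicComplete m (KaehlerDifferential P A) := Adic.isAdicComplete_of_finite m
    let Φ : AdicCompletion m (KaehlerDifferential k A) →ₗ[A] KaehlerDifferential P A :=
      (AdicCompletion.ofLinearEquiv m _).symm.toLinearMap ∘ₗ
        (AdicCompletion.map m (KaehlerDifferential.map k P A A)).restrictScalars A
    have hΦ : ∀ η, Φ (AdicCompletion.of m _ η) = KaehlerDifferential.map k P A A η := fun η => by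
      show (AdicCompletion.ofLinearEquiv m _).symm (AdicCompletion.map m _ (AdicCompletion.of m _ η)) = _
      rw [AdicCompletion.map_of, AdicCompletion.ofLinearEquiv_symm_of]
    obtain ⟨η, rfl⟩ := KaehlerDifferential.map_surjective k P A ω
    obtain ⟨t, ht, htz⟩ := h (AdicCompletion.of m _ η)
    refine ⟨t, ht, ?_⟩
    have hN : N ≤ LinearMap.ker Φ := by
      rw [Submodule.span_le]
      rintro _ ⟨i, rfl⟩
      show Φ _ = 0
      rw [hΦ, KaehlerDifferential.map_D]
      exact Derivation.map_algebraMap _ _
    have := hN htz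
    rw [LinearMap.mem_ker, ← map_smul, hΦ, map_smul] at this
    exact this

end Presentation

/-- Existence of finite local maps from power series with prescribed images of the variables. -/
theorem exists_finite_powerSeries {m : ℕ} (x : Fin m → A) (hxm : ∀ i, x i ∈ maximalIdeal A)
    (hart : IsArtinianRing (A ⧸ Ideal.span (Set.range x))) :
    ∃ (_ : Algebra (MvPowerSeries (Fin m) k) A) (_ : IsScalarTower k (MvPowerSeries (Fin m) k) A),
      IsLocalHom (algebraMap (MvPowerSeries (Fin m) k) A) ∧ Module.Finite (MvPowerSeries (Fin m) k) A ∧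
        ∀ i, algebraMap (MvPowerSeries (Fin m) k) A (MvPowerSeries.X i) = x i := by
  classical
  obtain ⟨f, hfC, hfX⟩ := Nagata.CohenLift.exists_eval k (algebraMap k A) x hxm
  let P := MvPowerSeries (Fin m) k
  have hmX : maximalIdeal P = Ideal.span (Set.range MvPowerSeries.X) := PSLoc.maximalIdeal_eq k
  set J := Ideal.span (Set.range x) with hJdef
  have hJ : (maximalIdeal P).map f = J := by
    rw [hmX, Ideal.map_span, ← Set.range_comp, hJdef]
    exact congrArg (fun h => Ideal.span (Set.range h)) (funext hfX)
  have hJm : J ≤ maximalIdeal A := Ideal.span_le.mpr (by rintro _ ⟨i, rfl⟩; exact hxm i)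
  let _ : Algebra P A := f.toAlgebra
  have : IsScalarTower k P A := IsScalarTower.of_algebraMap_eq fun c => (hfC c).symm
  have : IsAdicComplete (maximalIdeal P) P := by rw [hmX]; infer_instance
  have hfin : Module.Finite P A := by
    have : IsHausdorff (maximalIdeal P) A := by
      rw [← IsHausdorff.map_algebraMap_iff (S := A)]
      exact IsHausdorff.of_le_jacobson _ _ ((hJ.le.trans hJm).trans (maximalIdeal_le_jacobson _))
    refine Adic.finite_of_finite_quot (I := maximalIdeal P) ?_
    have : Nontrivial (A ⧸ J) :=
      Ideal.Quotient.nontrivial_iff.mpr fun h => (maximalIdeal.isMaximal A).ne_top (top_le_iff.mp (h ▸ hJm))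
    have : IsLocalRing (A ⧸ J) := IsLocalRing.of_surjective' (Ideal.Quotient.mk J) Ideal.Quotient.mk_surjective
    obtain ⟨k', hk⟩ : ∃ k', maximalIdeal (A ⧸ J) ^ k' = ⊥ := by
      obtain ⟨k', hk⟩ := IsArtinianRing.isNilpotent_jacobson_bot (R := A ⧸ J)
      exact ⟨k', by rwa [← IsLocalRing.jacobson_eq_maximalIdeal ⊥ bot_ne_top]⟩
    obtain ⟨L, t, ht⟩ := Module.Finite.exists_fin (R := k) (M := ResidueField A)
    choose v hv using fun l => residue_surjective (t l)
    have hQ : Module.Finite P (A ⧸ J) := by
      refine AdicFS.CompleteNoether.finite_of_residue_finite (fun l => Ideal.Quotient.mk J (v l)) (fun q => ?_) hk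
      obtain ⟨r, rfl⟩ := Ideal.Quotient.mk_surjective q
      obtain ⟨a, ha⟩ := (Submodule.mem_span_range_iff_exists_fun k).mp (ht.ge (Submodule.mem_top (x := residue A r)))
      refine ⟨fun l => algebraMap k P (a l), ?_⟩
      have hmem : r - ∑ l, a l • v l ∈ maximalIdeal A := by
        rw [← residue_eq_zero_iff, map_sub, map_sum, sub_eq_zero, ← ha]
        refine Finset.sum_congr rfl fun l _ => ?_
        rw [Algebra.smul_def, Algebra.smul_def, map_mul, hv]
        rfl
      simp only [algebraMap_smul]
      have e : Ideal.Quotient.mk J r - ∑ l, a l • Ideal.Quotient.mk J (v l) = Ideal.Quotient.mk J (r - ∑ l, a l • v l) := by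
        rw [map_sub, map_sum]; rfl
      rw [e, mem_maximalIdeal]
      intro hu
      obtain ⟨z, hz⟩ := hu.exists_right_inv
      obtain ⟨z, rfl⟩ := Ideal.Quotient.mk_surjective z
      rw [← map_mul, ← map_one (Ideal.Quotient.mk J), Ideal.Quotient.eq] at hz
      have := sub_mem (Ideal.mul_mem_right z _ hmem) (hJm hz)
      rw [sub_sub_cancel] at this
      exact (maximalIdeal.isMaximal A).ne_top ((Ideal.eq_top_iff_one _).mpr this)
    have heq : (maximalIdeal P • ⊤ : Submodule P A) = J.restrictScalars P := by
      rw [Ideal.smul_top_eq_map]; exact congrArg _ hJ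
    exact Module.Finite.equiv ((Submodule.Quotient.restrictScalarsEquiv P J).symm.trans
      (Submodule.quotEquivOfEq _ _ heq.symm))
  refine ⟨‹_›, ‹_›, ⟨fun a ha => ?_⟩, hfin, hfX⟩
  by_contra hna
  have h1 : f a ∈ maximalIdeal A := hJm (hJ ▸ Ideal.mem_map_of_mem f ((mem_maximalIdeal a).mpr hna))
  exact (mem_maximalIdeal _).mp h1 ha

/-- Generated by `m` elements near `p` gives a finite presentation by power series unramified at `p`. -/
theorem exists_unramified (p : Ideal A) [p.IsPrime] (hp : p ≠ maximalIdeal A) {n m : ℕ}
    (hn : ringKrullDim A = (n : WithBot ℕ∞)) (q : Ideal A) [q.IsPrime] (hqp : q ≤ p)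
    (hq : ringKrullDim (A ⧸ q) = (n : WithBot ℕ∞))
    (y : Fin m → AdicCompletion (maximalIdeal A) (KaehlerDifferential k A))
    (hy : ∀ z, ∃ t ∉ p, t • z ∈ Submodule.span A (Set.range y)) :
    ∃ (_ : Algebra (MvPowerSeries (Fin m) k) A) (_ : IsScalarTower k (MvPowerSeries (Fin m) k) A),
      IsLocalHom (algebraMap (MvPowerSeries (Fin m) k) A) ∧ Module.Finite (MvPowerSeries (Fin m) k) A ∧
        Algebra.IsUnramifiedAt (MvPowerSeries (Fin m) k) p := by
  classical
  have hnm : n ≤ m := le_of_gens p q hqp hq y hy
  obtain ⟨n', b, hbm, hdim, hart⟩ := Nagata.Normalization.exists_sop A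
  obtain rfl : n' = n := by
    rw [hn] at hdim
    exact_mod_cast hdim.symm
  obtain ⟨i₀, hi₀⟩ : ∃ i, b i ∉ p := by
    by_contra hcon
    push Not at hcon
    have hle : Ideal.span (Set.range b) ≤ p := Ideal.span_le.mpr (by rintro _ ⟨i, rfl⟩; exact hcon i)
    have : (p.map (Ideal.Quotient.mk (Ideal.span (Set.range b)))).IsPrime :=
      Ideal.map_isPrime_of_surjective Ideal.Quotient.mk_surjective (by rwa [Ideal.mk_ker])
    have hmax : (p.map (Ideal.Quotient.mk (Ideal.span (Set.range b)))).IsMaximal :=
      IsArtinianRing.isMaximal_of_isPrime _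
    have h1 := Ideal.comap_isMaximal_of_surjective (Ideal.Quotient.mk (Ideal.span (Set.range b)))
      Ideal.Quotient.mk_surjective (K := p.map (Ideal.Quotient.mk (Ideal.span (Set.range b))))
    rw [Ideal.comap_map_of_surjective' _ Ideal.Quotient.mk_surjective, Ideal.mk_ker, sup_eq_left.mpr hle] at h1
    exact hp (IsLocalRing.eq_maximalIdeal h1)
  let b' : Fin n' → A := fun i => if b i ∈ p then b i + b i₀ else b i
  let x : Fin m → A := fun j => if hj : (j : ℕ) < n' then b' ⟨j, hj⟩ else b i₀
  have hb'p : ∀ i, b' i ∉ p := fun i h => by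
    by_cases hi : b i ∈ p
    · simp only [b', if_pos hi] at h
      exact hi₀ ((Submodule.add_mem_iff_right p hi).mp h)
    · simp only [b', if_neg hi] at h
      exact hi h
  have hb'i₀ : b' i₀ = b i₀ := if_neg hi₀
  have hspanb : Ideal.span (Set.range x) = Ideal.span (Set.range b) := by
    refine le_antisymm (Ideal.span_le.mpr ?_) (Ideal.span_le.mpr ?_)
    · rintro _ ⟨j, rfl⟩
      simp only [x]
      split
      · simp only [b']
        split
        · exact add_mem (Ideal.subset_span ⟨_, rfl⟩) (Ideal.subset_span ⟨_, rfl⟩)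
        · exact Ideal.subset_span ⟨_, rfl⟩
      · exact Ideal.subset_span ⟨_, rfl⟩
    · rintro _ ⟨i, rfl⟩
      have hx : ∀ i : Fin n', b' i ∈ Ideal.span (Set.range x) := fun i => by
        refine Ideal.subset_span ⟨Fin.castLE hnm i, ?_⟩
        simp [x, i.2]
      by_cases hi : b i ∈ p
      · have := sub_mem (hx i) (hx i₀)
        simp only [b', if_pos hi, if_neg hi₀, add_sub_cancel_right] at this
        exact this
      · have := hx i
        simp only [b', if_neg hi] at this
        exact this
  have hxp : ∀ j, x j ∉ p := fun j => by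
    simp only [x]
    split
    · exact hb'p _
    · exact hi₀
  have hxm : ∀ j, x j ∈ maximalIdeal A := fun j => by
    simp only [x]
    split
    · simp only [b']
      split
      · exact add_mem (hbm _) (hbm _)
      · exact hbm _
    · exact hbm _
  obtain ⟨u, hu⟩ := exists_units p x hxp y hy
  have hspanu : Ideal.span (Set.range fun j => (u j : A) * x j) = Ideal.span (Set.range b) := by
    rw [← hspanb]
    refine le_antisymm (Ideal.span_le.mpr ?_) (Ideal.span_le.mpr ?_)
    · rintro _ ⟨j, rfl⟩
      exact Ideal.mul_mem_left _ _ (Ideal.subset_span ⟨j, rfl⟩)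
    · rintro _ ⟨j, rfl⟩
      have : x j = ((u j)⁻¹ : Aˣ) * ((u j : A) * x j) := by rw [← mul_assoc, Units.inv_mul, one_mul]
      rw [this]
      exact Ideal.mul_mem_left _ _ (Ideal.subset_span ⟨j, rfl⟩)
  obtain ⟨a, ha, hloc, hfin, hX⟩ := exists_finite_powerSeries (k := k) (fun j => (u j : A) * x j)
    (fun j => Ideal.mul_mem_left _ _ (hxm j)) (by rw [hspanu]; exact hart)
  refine ⟨a, ha, hloc, hfin, (isUnramifiedAt_iff p).mpr ?_⟩
  simp only [hX]
  exact hu

end Groth.Agent.DerExt61.Unram
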