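import Groth.Agent.S5993
import Groth.Agent.DerExt61.Unram
import Groth.Agent.Adic.ComplLift
import Groth.Agent.AdicFS.Completed
import Groth.Agent.RegLoc.CompleteTrans

/-!
# Differentials of the completed tensor product with a field extension
-/

set_option autoImplicit false
set_option linter.style.haveILetI false

noncomputable section

universe u

open IsLocalRing TensorProduct

namespace Groth.Agent.DerExt61.CompTensor

attribute [local instance] Algebra.TensorProduct.rightAlgebra

/-- The completed tensor product `A ⊗̂ k'`. -/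
abbrev C (k A k' : Type u) [Field k] [CommRing A] [IsLocalRing A] [Algebra k A] [Field k'] [Algebra k k'] : Type u :=
  AdicCompletion ((maximalIdeal A).map (algebraMap A (A ⊗[k] k'))) (A ⊗[k] k')

variable {k A k' : Type u} [Field k] [CommRing A] [IsLocalRing A] [IsNoetherianRing A] [Algebra k A]
  [IsAdicComplete (maximalIdeal A) A] [Module.Finite k (ResidueField A)] [Field k'] [Algebra k k']

instance : IsNoetherianRing (C k A k') := (S5993.result k A k' _ rfl).1

instance : Finite (MaximalSpectrum (C k A k')) := (S5993.result k A k' _ rfl).2.1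

instance : IsAdicComplete ((maximalIdeal A).map (algebraMap A (C k A k'))) (C k A k') :=
  (S5993.result k A k' _ rfl).2.2.1

/-- The quotient by the maximal ideal of `A` is Artinian. -/
theorem isArtinianRing_quotient :
    IsArtinianRing (C k A k' ⧸ (maximalIdeal A).map (algebraMap A (C k A k'))) := by
  set m := maximalIdeal A
  set I := m.map (algebraMap A (A ⊗[k] k'))
  have hfg : I.FG := Ideal.FG.map (IsNoetherian.noetherian m) _
  obtain ⟨e, he⟩ := S5993.equot k A k' m I rfl 1
  haveI : Module.Finite k (A ⧸ m) := ‹Module.Finite k (ResidueField A)›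
  haveI : Module.Finite k (A ⧸ m ^ 1) :=
    Module.Finite.of_surjective (Ideal.quotientEquivAlgOfEq k (pow_one m).symm).toLinearMap
      (Ideal.quotientEquivAlgOfEq k (pow_one m).symm).surjective
  haveI : IsArtinianRing (k' ⊗[k] (A ⧸ m ^ 1)) := IsArtinianRing.of_finite k' _
  haveI : IsArtinianRing ((A ⊗[k] k') ⧸ I ^ 1) :=
    ((Algebra.TensorProduct.comm k k' (A ⧸ m ^ 1)).trans e).toRingEquiv.isArtinianRing
  have hJ : (I.map (algebraMap (A ⊗[k] k') (C k A k'))) ^ 1 = m.map (algebraMap A (C k A k')) := by
    show ((m.map (algebraMap A (A ⊗[k] k'))).map _) ^ 1 = _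
    rw [pow_one, Ideal.map_map, ← IsScalarTower.algebraMap_eq]
  exact (((RingHom.quotientKerEquivOfSurjective (AdicCompletion.surjective_evalₐ I 1)).symm.trans
    (Ideal.quotEquivOfEq (S11958.ker_evalₐ I hfg 1))).trans (Ideal.quotEquivOfEq hJ)).isArtinianRing

section factor

variable (M : Ideal (C k A k')) [M.IsMaximal]

instance isAdicComplete_localization :
    IsAdicComplete (maximalIdeal (Localization.AtPrime M)) (Localization.AtPrime M) :=
  ((S5993.result k A k' _ rfl).2.2.2 ⟨M, ‹_›⟩).1

instance faithfullyFlat_localization : Module.FaithfullyFlat A (Localization.AtPrime M) :=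
  ((S5993.result k A k' _ rfl).2.2.2 ⟨M, ‹_›⟩).2.1

omit [IsNoetherianRing A] [IsAdicComplete (maximalIdeal A) A] [Module.Finite k (ResidueField A)] in
theorem algebraMap_C (c : k') :
    algebraMap k' (C k A k') c = algebraMap (A ⊗[k] k') (C k A k') ((1 : A) ⊗ₜ[k] c) := rfl

theorem le_maximal : (maximalIdeal A).map (algebraMap A (C k A k')) ≤ M :=
  (IsAdicComplete.le_jacobson_bot _).trans (sInf_le ⟨bot_le, ‹_›⟩)

theorem map_le_maximalIdeal :
    (maximalIdeal A).map (algebraMap A (Localization.AtPrime M)) ≤ maximalIdeal (Localization.AtPrime M) := by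
  rw [IsScalarTower.algebraMap_eq A (C k A k') (Localization.AtPrime M), ← Ideal.map_map,
    ← IsLocalization.AtPrime.map_eq_maximalIdeal M (Localization.AtPrime M)]
  exact Ideal.map_mono (le_maximal M)

instance : IsLocalHom (algebraMap A (Localization.AtPrime M)) :=
  ((local_hom_TFAE (algebraMap A (Localization.AtPrime M))).out 0 2).mpr (map_le_maximalIdeal M)

theorem surjective_algebraMap : Function.Surjective (algebraMap (C k A k') (Localization.AtPrime M)) := by
  haveI := isArtinianRing_quotient (k := k) (A := A) (k' := k')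
  exact SemiLocal.surjective_localization ((maximalIdeal A).map (algebraMap A (C k A k'))) M

instance finite_residueField : Module.Finite k' (ResidueField (Localization.AtPrime M)) := by
  have h := ((S5993.result k A k' _ rfl).2.2.2 ⟨M, ‹_›⟩).2.2.2
  let g : C k A k' ⧸ M →+* ResidueField (Localization.AtPrime M) :=
    Ideal.Quotient.lift M ((IsLocalRing.residue _).comp (algebraMap (C k A k') (Localization.AtPrime M))) fun x hx => by
      rw [RingHom.comp_apply, residue_eq_zero_iff]
      rw [← IsLocalization.AtPrime.map_eq_maximalIdeal M (Localization.AtPrime M)]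
      exact Ideal.mem_map_of_mem _ hx
  have hg : Function.Surjective g :=
    Ideal.Quotient.lift_surjective_of_surjective _ _ (residue_surjective.comp (surjective_algebraMap M))
  rw [← RingHom.finite_algebraMap]
  convert (RingHom.Finite.of_surjective g hg).comp h using 1
  exact RingHom.ext fun c => rfl

end factor

section derivation

set_option maxHeartbeats 1600000 in
open TrivSqZeroExt in
/-- Derivations of `A` into finite modules extend to the factors of the completed base change. -/
theorem exists_derivation_extending (M : Ideal (C k A k')) [M.IsMaximal] {N : Type u} [AddCommGroup N]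
    [Module (Localization.AtPrime M) N] [Module A N] [Module k N] [Module k' N]
    [IsScalarTower A (Localization.AtPrime M) N] [IsScalarTower k A N] [IsScalarTower k (Localization.AtPrime M) N]
    [IsScalarTower k' (Localization.AtPrime M) N] [Module.Finite (Localization.AtPrime M) N]
    (d : Derivation k A N) :
    ∃ D : Derivation k' (Localization.AtPrime M) N,
      ∀ a : A, D (algebraMap A (Localization.AtPrime M) a) = d a := by
  classical
  set B := Localization.AtPrime M
  letI : Module Bᵐᵒᵖ N := Module.compHom _ ((RingHom.id B).fromOpposite mul_comm)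
  haveI : IsCentralScalar B N := ⟨fun _ _ => rfl⟩
  haveI : IsScalarTower k Bᵐᵒᵖ N := ⟨fun a c n => smul_assoc a c.unop n⟩
  let φA : A →ₐ[k] TrivSqZeroExt B N := AdicFS.Completed.mkHom (C := B) d
  let φK : k' →ₐ[k] TrivSqZeroExt B N :=
    { (inlHom B N).comp (algebraMap k' B) with
      commutes' := fun c => by
        show inl (algebraMap k' B (algebraMap k k' c)) = _
        rw [← IsScalarTower.algebraMap_apply, algebraMap_eq_inl'] }
  let φ : A ⊗[k] k' →ₐ[k] TrivSqZeroExt B N :=
    Algebra.TensorProduct.lift φA φK fun _ _ => Commute.all _ _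
  letI : Algebra A (TrivSqZeroExt B N) := φA.toRingHom.toAlgebra
  let h : A ⊗[k] k' →ₐ[A] TrivSqZeroExt B N :=
    { φ.toRingHom with
      commutes' := fun a => by
        show φ (a ⊗ₜ[k] (1 : k')) = φA a
        rw [show φ (a ⊗ₜ[k] (1 : k')) = φA a * φK 1 from Algebra.TensorProduct.lift_tmul .., map_one, mul_one] }
  -- completeness of the square zero extension
  let K2 : Ideal (TrivSqZeroExt B N) := ((maximalIdeal A).map (algebraMap A B)).map (inlHom B N)
  let K1 : Ideal (TrivSqZeroExt B N) := (maximalIdeal A).map (algebraMap A (TrivSqZeroExt B N))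
  haveI hK2 : IsAdicComplete K2 (TrivSqZeroExt B N) := by
    haveI : Module.Finite B (TrivSqZeroExt B N) := inferInstanceAs (Module.Finite B (B × N))
    haveI : IsAdicComplete ((maximalIdeal A).map (algebraMap A B)) B :=
      RegLoc.CompleteTrans.isAdicComplete_of_le (map_le_maximalIdeal M)
    exact (IsAdicComplete.map_algebraMap_iff _ _).mpr (Adic.isAdicComplete_of_finite _)
  have hsplit : ∀ a : A, φA a = inl (algebraMap A B a) + inr (d a) := fun a => rfl
  have hK1L : K1 ≤ K2 ⊔ RingHom.ker (fstHom B B N).toRingHom := by
    refine Ideal.map_le_iff_le_comap.mpr fun a ha => ?_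
    show φA a ∈ K2 ⊔ RingHom.ker (fstHom B B N).toRingHom
    rw [hsplit]
    exact Submodule.add_mem_sup (Ideal.mem_map_of_mem _ (Ideal.mem_map_of_mem _ ha))
      (RingHom.mem_ker.mpr (by simp))
  have h12 : K1 ^ 2 ≤ K2 := by
    refine (Ideal.pow_right_mono hK1L 2).trans ?_
    rw [pow_two, Ideal.mul_sup, Ideal.sup_mul, Ideal.sup_mul]
    refine sup_le (sup_le ?_ ?_) (sup_le ?_ ?_) <;>
      first | exact Ideal.mul_le_right | exact Ideal.mul_le_left | skip
    rw [Ideal.mul_le]
    intro x hx y hy
    have hx' : x.fst = 0 := hx
    have hy' : y.fst = 0 := hy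
    rw [show x * y = 0 from TrivSqZeroExt.ext (by simp [hx']) (by simp [hx', hy'])]
    exact zero_mem _
  have h21 : K2 ^ 2 ≤ K1 := by
    have hinr : ∀ a ∈ maximalIdeal A, ∀ n : N, (inr (a • n) : TrivSqZeroExt B N) ∈ K1 := fun a ha n => by
      have : (inr (a • n) : TrivSqZeroExt B N) = φA a * inr n := by
        rw [hsplit]
        exact TrivSqZeroExt.ext (by simp) (by simp [algebraMap_smul])
      rw [this]
      exact Ideal.mul_mem_right _ _ (Ideal.mem_map_of_mem _ ha)
    rw [show K2 = (maximalIdeal A).map ((inlHom B N).comp (algebraMap A B)) from Ideal.map_map _ _,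
      ← Ideal.map_pow, Ideal.map_le_iff_le_comap, pow_two, Ideal.mul_le]
    intro a ha b hb
    show (inl (algebraMap A B (a * b)) : TrivSqZeroExt B N) ∈ K1
    have : (inl (algebraMap A B (a * b)) : TrivSqZeroExt B N) = φA a * φA b - (inr (a • d b) + inr (b • d a)) := by
      rw [← map_mul, hsplit, d.leibniz, inr_add, add_sub_cancel_right]
    rw [this]
    exact sub_mem (Ideal.mul_mem_right _ _ (Ideal.mem_map_of_mem _ ha)) (add_mem (hinr a ha _) (hinr b hb _))
  haveI : IsAdicComplete ((maximalIdeal A).map (algebraMap A (TrivSqZeroExt B N))) (TrivSqZeroExt B N) :=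
    CAlg48.AdicPow.isAdicComplete_of_pow_le (I := K2) (c := 2) (d := 2) two_pos two_pos h21 h12
  let θ : C k A k' →ₐ[A] TrivSqZeroExt B N := Adic.complLift (maximalIdeal A) h
  have hθ : ∀ t : A ⊗[k] k', θ (algebraMap (A ⊗[k] k') (C k A k') t) = φ t := fun t =>
    Adic.complLift_of (maximalIdeal A) h t
  haveI : IsHausdorff ((maximalIdeal A).map (algebraMap A B)) B :=
    IsHausdorff.of_le_jacobson _ _ ((map_le_maximalIdeal M).trans (maximalIdeal_le_jacobson _))
  have hfst : ∀ c, (θ c).fst = algebraMap (C k A k') B c := by
    let f1 : C k A k' →ₐ[A] B :=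
      { (fstHom B B N).toRingHom.comp θ.toRingHom with
        commutes' := fun a => by
          show (θ (algebraMap A (C k A k') a)).fst = _
          rw [θ.commutes]
          show (φA a).fst = _
          rw [hsplit]; simp }
    have he : f1 = IsScalarTower.toAlgHom A (C k A k') B := by
      refine Adic.complExt (maximalIdeal A) (IsNoetherian.noetherian _) _ _ fun t => ?_
      show (θ (algebraMap (A ⊗[k] k') (C k A k') t)).fst = algebraMap (C k A k') B (algebraMap (A ⊗[k] k') (C k A k') t)
      rw [hθ]
      induction t using TensorProduct.induction_on with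
      | zero => simp
      | add x y hx hy => simp only [map_add, fst_add, hx, hy]
      | tmul a c =>
        rw [show φ (a ⊗ₜ[k] c) = φA a * φK c from Algebra.TensorProduct.lift_tmul ..,
          show a ⊗ₜ[k] c = a ⊗ₜ[k] (1 : k') * (1 : A) ⊗ₜ[k] c by rw [Algebra.TensorProduct.tmul_mul_tmul, mul_one, one_mul],
          map_mul, map_mul, fst_mul, hsplit]
        simp only [fst_add, fst_inl, fst_inr, add_zero]
        rfl
    exact fun c => AlgHom.congr_fun he c
  have hk' : ∀ c : k', θ (algebraMap k' (C k A k') c) = inl (algebraMap k' B c) := fun c => by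
    rw [algebraMap_C, hθ, show φ ((1 : A) ⊗ₜ[k] c) = φA 1 * φK c from Algebra.TensorProduct.lift_tmul ..,
      map_one, one_mul]
    rfl
  have hmul : ∀ x y, (θ (x * y)).snd =
      algebraMap (C k A k') B x • (θ y).snd + algebraMap (C k A k') B y • (θ x).snd := fun x y => by
    rw [map_mul, snd_mul, hfst, hfst, op_smul_eq_smul]
  have hker : ∀ x, algebraMap (C k A k') B x = 0 → (θ x).snd = 0 := fun x hx => by
    obtain ⟨s, hs⟩ := (IsLocalization.map_eq_zero_iff M.primeCompl B x).mp hx
    have h0 := hmul (s : C k A k') x
    rw [hs, map_zero, snd_zero, hx, zero_smul, add_zero] at h0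
    exact (IsLocalization.map_units B s).smul_eq_zero.mp h0.symm
  choose g hg using surjective_algebraMap M
  have hD : ∀ x, (θ (g (algebraMap (C k A k') B x))).snd = (θ x).snd := fun x => by
    have := hker (g (algebraMap (C k A k') B x) - x) (by rw [map_sub, hg, sub_self])
    rwa [map_sub, snd_sub, sub_eq_zero] at this
  let D : Derivation k' B N := Derivation.mk'
    { toFun := fun b => (θ (g b)).snd
      map_add' := fun x y => by
        have := hD (g x + g y)
        rw [map_add, hg, hg, map_add, snd_add] at this
        exact this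
      map_smul' := fun c x => by
        have h1 := hD (algebraMap k' (C k A k') c * g x)
        rw [map_mul, hg, hmul, hk', snd_inl, smul_zero, add_zero, ← IsScalarTower.algebraMap_apply,
          ← Algebra.smul_def, algebraMap_smul] at h1
        exact h1 }
    (fun x y => by
      have h1 := hD (g x * g y)
      rw [map_mul, hg, hg, hmul, hg, hg] at h1
      exact h1)
  refine ⟨D, fun a => ?_⟩
  show (θ (g (algebraMap A B a))).snd = _
  rw [IsScalarTower.algebraMap_apply A (C k A k') B, hD, θ.commutes]
  show (φA a).snd = _
  rw [hsplit]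
  simp

/-- The derivation of the base change induced by the completed differential. -/
theorem exists_derivation (M : Ideal (C k A k')) [M.IsMaximal] :
    ∃ D : Derivation k' (Localization.AtPrime M)
        (Localization.AtPrime M ⊗[A] AdicCompletion (maximalIdeal A) (KaehlerDifferential k A)),
      ∀ a : A, D (algebraMap A (Localization.AtPrime M) a) = 1 ⊗ₜ[A] Unram.dh k A a := by
  haveI : Module.Finite A (AdicCompletion (maximalIdeal A) (KaehlerDifferential k A)) :=
    Rank.finite_completedKaehler (k := k) (A := A)
  exact exists_derivation_extending M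
    (((TensorProduct.mk A (Localization.AtPrime M) _ 1) ∘ₗ
      AdicCompletion.of (maximalIdeal A) (KaehlerDifferential k A)).compDer (KaehlerDifferential.D k A))

end derivation

/-- A derivation extending the completed differential bounds the fibre rank over `A`. -/
theorem finrank_le_of_derivation {B : Type u} [CommRing B] [IsLocalRing B] [IsNoetherianRing B]
    [IsAdicComplete (maximalIdeal B) B] [Algebra k' B] [Algebra A B]
    (D : Derivation k' B (B ⊗[A] AdicCompletion (maximalIdeal A) (KaehlerDifferential k A)))
    (hD : ∀ a, D (algebraMap A B a) = 1 ⊗ₜ[A] Unram.dh k A a)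
    (p : Ideal A) [p.IsPrime] (P : Ideal B) [P.IsPrime] (hP : P.comap (algebraMap A B) = p)
    {n : ℕ} (y : Fin n → AdicCompletion (maximalIdeal B) (KaehlerDifferential k' B))
    (hy : ∀ z, ∃ t ∉ P, t • z ∈ Submodule.span B (Set.range y)) :
    Module.finrank p.ResidueField
      (p.ResidueField ⊗[A] AdicCompletion (maximalIdeal A) (KaehlerDifferential k A)) ≤ n := by
  classical
  set Ω' := AdicCompletion (maximalIdeal A) (KaehlerDifferential k A)
  haveI : Module.Finite A Ω' := Rank.finite_completedKaehler (k := k) (A := A)
  obtain ⟨G, hG⟩ := Rank.exists_functional (k := k') (A := B) D ⊤ Module.Finite.fg_top fun _ => trivial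
  set L := P.ResidueField
  let π : B ⊗[A] Ω' →ₗ[B] L ⊗[A] Ω' :=
    TensorProduct.AlgebraTensorModule.map (Algebra.linearMap B L) (LinearMap.id : Ω' →ₗ[A] Ω')
  have hW : Submodule.span L (Set.range fun i => π (G (y i))) = ⊤ := by
    have key : ∀ a : A, (1 : L) ⊗ₜ[A] Unram.dh k A a ∈ Submodule.span L (Set.range fun i => π (G (y i))) := by
      intro a
      have e : π (G (AdicCompletion.of (maximalIdeal B) _ (KaehlerDifferential.D k' B (algebraMap A B a)))) =
          (1 : L) ⊗ₜ[A] Unram.dh k A a := by
        rw [hG, hD]
        simp [π]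
      rw [← e]
      obtain ⟨t, ht, htz⟩ := hy (AdicCompletion.of (maximalIdeal B) _ (KaehlerDifferential.D k' B (algebraMap A B a)))
      have h1 : π (G (t • AdicCompletion.of (maximalIdeal B) _ (KaehlerDifferential.D k' B (algebraMap A B a)))) ∈
          Submodule.span L (Set.range fun i => π (G (y i))) := by
        refine Submodule.span_le_restrictScalars B L _ ?_
        rw [show (fun i => π (G (y i))) = (π ∘ₗ G) ∘ y from rfl, Set.range_comp, Submodule.span_image]
        exact ⟨_, htz, rfl⟩
      rw [map_smul, map_smul, ← algebraMap_smul L t] at h1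
      exact (Submodule.smul_mem_iff _ (fun h => ht (P.algebraMap_residueField_eq_zero.mp h))).mp h1
    rw [eq_top_iff]
    intro w hw
    clear hw
    induction w using TensorProduct.induction_on with
    | zero => exact zero_mem _
    | add u v hu hv => exact add_mem hu hv
    | tmul l z =>
      rw [show l ⊗ₜ[A] z = l • ((1 : L) ⊗ₜ[A] z) by rw [TensorProduct.smul_tmul', smul_eq_mul, mul_one]]
      refine Submodule.smul_mem _ _ ?_
      have hz : z ∈ Submodule.span A (Set.range (Unram.dh k A)) := by rw [Unram.span_range_dh]; trivial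
      induction hz using Submodule.span_induction with
      | mem z hz => obtain ⟨a, rfl⟩ := hz; exact key a
      | zero => rw [TensorProduct.tmul_zero]; exact zero_mem _
      | add u v _ _ hu hv => rw [TensorProduct.tmul_add]; exact add_mem hu hv
      | smul r u _ hu => rw [TensorProduct.tmul_smul]; exact Submodule.smul_of_tower_mem _ r hu
  have h2 : Module.finrank L (L ⊗[A] Ω') ≤ n := by
    have h3 := finrank_range_le_card (R := L) (fun i => π (G (y i)))
    unfold Set.finrank at h3
    rwa [hW, finrank_top, Fintype.card_fin] at h3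
  let φ : p.ResidueField →ₐ[A] L := Ideal.ResidueField.mapₐ p P (Algebra.ofId A B) hP.symm
  letI := φ.toRingHom.toAlgebra
  haveI : IsScalarTower A p.ResidueField L := IsScalarTower.of_algebraMap_eq fun a => (φ.commutes a).symm
  calc Module.finrank p.ResidueField (p.ResidueField ⊗[A] Ω')
      = Module.finrank L (L ⊗[p.ResidueField] (p.ResidueField ⊗[A] Ω')) := (Module.finrank_baseChange).symm
    _ = Module.finrank L (L ⊗[A] Ω') :=
        (TensorProduct.AlgebraTensorModule.cancelBaseChange A p.ResidueField L L Ω').finrank_eq
    _ ≤ n := h2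

/-- Generators of the differentials of a factor at a prime bound the fibre rank over `A`. -/
theorem finrank_le (M : Ideal (C k A k')) [M.IsMaximal] (p : Ideal A) [p.IsPrime]
    (P : Ideal (Localization.AtPrime M)) [P.IsPrime] (hP : P.comap (algebraMap A (Localization.AtPrime M)) = p)
    {n : ℕ} (y : Fin n → AdicCompletion (maximalIdeal (Localization.AtPrime M)) (KaehlerDifferential k' (Localization.AtPrime M)))
    (hy : ∀ z, ∃ t ∉ P, t • z ∈ Submodule.span (Localization.AtPrime M) (Set.range y)) :
    Module.finrank p.ResidueField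
      (p.ResidueField ⊗[A] AdicCompletion (maximalIdeal A) (KaehlerDifferential k A)) ≤ n := by
  obtain ⟨D, hD⟩ := exists_derivation M
  exact finrank_le_of_derivation D hD p P hP y hy

end Groth.Agent.DerExt61.CompTensor
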