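import Groth.Agent.DerExt61.Etale
import Groth.Agent.Adic.Basic

/-!
# Cutting down to the components through a prime
-/

set_option autoImplicit false
set_option linter.style.haveILetI false

noncomputable section

universe u

open IsLocalRing TensorProduct

namespace Groth.Agent.DerExt61.Cut

variable {k A : Type u} [Field k] [CommRing A] [IsLocalRing A] [IsNoetherianRing A] [Algebra k A]
  [IsAdicComplete (maximalIdeal A) A] [Module.Finite k (ResidueField A)]

/-- Few generators near `p` give, after cutting to the components through `p`, an etale normalisation. -/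
theorem exists_model (p : Ideal A) [p.IsPrime] (hp : p ≠ maximalIdeal A) (n : ℕ)
    (hn₁ : ∀ q ∈ minimalPrimes A, q ≤ p → ringKrullDim (A ⧸ q) ≤ n)
    (hn₂ : ∃ q ∈ minimalPrimes A, q ≤ p ∧ ringKrullDim (A ⧸ q) = n)
    (y : Fin n → AdicCompletion (maximalIdeal A) (KaehlerDifferential k A))
    (hy : ∀ z, ∃ t ∉ p, t • z ∈ Submodule.span A (Set.range y)) :
    ∃ J : Ideal A, J = RingHom.ker (algebraMap A (Localization.AtPrime p)) ∧
      ∃ (_ : (p.map (Ideal.Quotient.mk J)).IsPrime)
        (_ : Algebra (MvPowerSeries (Fin n) k) (A ⧸ J))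
        (_ : IsScalarTower k (MvPowerSeries (Fin n) k) (A ⧸ J)),
        (∀ i, algebraMap (MvPowerSeries (Fin n) k) (A ⧸ J) (MvPowerSeries.X i) ∈
          (maximalIdeal A).map (Ideal.Quotient.mk J)) ∧
        Module.Finite (MvPowerSeries (Fin n) k) (A ⧸ J) ∧
        Algebra.IsEtaleAt (MvPowerSeries (Fin n) k) (p.map (Ideal.Quotient.mk J)) ∧
        IsRegularLocalRing (Localization.AtPrime (p.map (Ideal.Quotient.mk J))) := by
  classical
  set J := RingHom.ker (algebraMap A (Localization.AtPrime p)) with hJdef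
  refine ⟨J, rfl, ?_⟩
  have hJ : ∀ a ∈ J, ∃ s ∉ p, s * a = 0 := fun a ha => by
    obtain ⟨s, hs⟩ := (IsLocalization.map_eq_zero_iff p.primeCompl _ a).mp ha
    exact ⟨s, s.2, hs⟩
  have hJle : ∀ q : Ideal A, q.IsPrime → q ≤ p → J ≤ q := fun q hq hqp a ha => by
    obtain ⟨s, hs, h0⟩ := hJ a ha
    exact (hq.mem_or_mem (h0 ▸ q.zero_mem)).resolve_left fun h => hs (hqp h)
  have hJp : J ≤ p := hJle p inferInstance le_rfl
  have hne : J ≠ ⊤ := fun h => (Ideal.IsPrime.ne_top ‹p.IsPrime›) (top_le_iff.mp (h ▸ hJp))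
  set π := Ideal.Quotient.mk J with hπ
  have hπs : Function.Surjective π := Ideal.Quotient.mk_surjective
  haveI : Nontrivial (A ⧸ J) := Ideal.Quotient.nontrivial_iff.mpr hne
  haveI : IsLocalRing (A ⧸ J) := IsLocalRing.of_surjective' π hπs
  have hm : (maximalIdeal A).map π = maximalIdeal (A ⧸ J) := map_maximalIdeal_of_surjective π hπs
  haveI : IsAdicComplete (maximalIdeal (A ⧸ J)) (A ⧸ J) := by
    rw [← hm]
    exact (IsAdicComplete.map_algebraMap_iff _ _).mpr (Adic.isAdicComplete_of_finite _)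
  haveI : Module.Finite k (ResidueField (A ⧸ J)) := by
    let g : ResidueField A →ₐ[k] ResidueField (A ⧸ J) :=
      Ideal.Quotient.liftₐ (maximalIdeal A) ((Ideal.Quotient.mkₐ k (maximalIdeal (A ⧸ J))).comp (Ideal.Quotient.mkₐ k J))
        fun a ha => Ideal.Quotient.eq_zero_iff_mem.mpr (hm ▸ Ideal.mem_map_of_mem π ha)
    refine Module.Finite.of_surjective g.toLinearMap fun x => ?_
    obtain ⟨x, rfl⟩ := Ideal.Quotient.mk_surjective x
    obtain ⟨x, rfl⟩ := hπs x
    exact ⟨residue A x, rfl⟩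
  haveI hp' : (p.map π).IsPrime := Ideal.map_isPrime_of_surjective hπs (by rwa [hπ, Ideal.mk_ker])
  refine ⟨hp', ?_⟩
  have hcomap : (p.map π).comap π = p := by
    rw [Ideal.comap_map_of_surjective' _ hπs, hπ, Ideal.mk_ker, sup_eq_left.mpr hJp]
  have hp'ne : p.map π ≠ maximalIdeal (A ⧸ J) := fun h => hp (by
    have h2 := congrArg (Ideal.comap π) h
    rw [hcomap] at h2
    rw [h2]
    exact eq_maximalIdeal (Ideal.comap_isMaximal_of_surjective π hπs))
  -- minimal primes of the quotient lie below `p`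
  have hmin : ∀ Q ∈ J.minimalPrimes, Q ∈ minimalPrimes A ∧ Q ≤ p := fun Q hQ => by
    have hQp : Q ≤ p := fun x hx => by
      by_contra hxp
      haveI : (Q.map π).IsPrime := Ideal.map_isPrime_of_surjective (I := Q) (H := hQ.1.1) hπs (by rw [hπ, Ideal.mk_ker]; exact hQ.1.2)
      have hQm : Q.map π ∈ minimalPrimes (A ⧸ J) := by
        refine ⟨⟨inferInstance, bot_le⟩, fun R hR hle => ?_⟩
        haveI := hR.1
        have h1 : R.comap π ≤ Q := by
          refine (Ideal.comap_mono hle).trans_eq ?_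
          rw [Ideal.comap_map_of_surjective' _ hπs, hπ, Ideal.mk_ker, sup_eq_left.mpr hQ.1.2]
        have h2 := hQ.2 ⟨inferInstance, fun a ha => by
          rw [Ideal.mem_comap, hπ, Ideal.Quotient.eq_zero_iff_mem.mpr ha]; exact R.zero_mem⟩ h1
        exact (Ideal.map_mono h2).trans_eq (Ideal.map_comap_of_surjective _ hπs R)
      have h1 : π x ∈ nonZeroDivisors (A ⧸ J) := mem_nonZeroDivisors_iff_right.mpr fun b hb => by
        obtain ⟨b, rfl⟩ := hπs b
        rw [← map_mul, hπ, Ideal.Quotient.eq_zero_iff_mem, hJdef, RingHom.mem_ker, map_mul] at hb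
        rw [hπ, Ideal.Quotient.eq_zero_iff_mem, hJdef, RingHom.mem_ker]
        exact (IsLocalization.map_units (Localization.AtPrime p) (⟨x, hxp⟩ : p.primeCompl)).mul_left_eq_zero.mp hb
      exact (Ideal.disjoint_nonZeroDivisors_of_mem_minimalPrimes hQm).le_bot ⟨Ideal.mem_map_of_mem π hx, h1⟩
    exact ⟨⟨⟨hQ.1.1, bot_le⟩, fun R hR hle => hQ.2 ⟨hR.1, hJle R hR.1 (hle.trans hQp)⟩ hle⟩, hQp⟩
  obtain ⟨q, hq, hqp, hqdim⟩ := hn₂
  haveI : q.IsPrime := hq.1.1
  have hJq := hJle q inferInstance hqp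
  haveI hq' : (q.map π).IsPrime := Ideal.map_isPrime_of_surjective hπs (by rwa [hπ, Ideal.mk_ker])
  have hq'p : q.map π ≤ p.map π := Ideal.map_mono hqp
  let eq : ((A ⧸ J) ⧸ q.map π) ≃+* A ⧸ q :=
    (DoubleQuot.quotQuotEquivQuotSup J q).trans (Ideal.quotEquivOfEq (sup_eq_right.mpr hJq))
  have hq'dim : ringKrullDim ((A ⧸ J) ⧸ q.map π) = n := (ringKrullDim_eq_of_ringEquiv eq).trans hqdim
  have hdim : ringKrullDim (A ⧸ J) = n := by
    refine le_antisymm ?_ (hq'dim.ge.trans (ringKrullDim_le_of_surjective _ Ideal.Quotient.mk_surjective))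
    rw [ringKrullDim_quotient]
    refine iSup_le fun t => ?_
    haveI := t.head.1.isPrime
    obtain ⟨R, hR, hRle⟩ := Ideal.exists_minimalPrimes_le (t.head.2 : J ≤ t.head.1.asIdeal)
    refine le_trans ?_ (hn₁ R (hmin R hR).1 (hmin R hR).2)
    rw [ringKrullDim_quotient]
    let t' : LTSeries (PrimeSpectrum.zeroLocus (R : Set A)) :=
      LTSeries.mk t.length (fun i => ⟨(t i).1, hRle.trans (show t.head.1 ≤ (t i).1 from t.monotone (Fin.zero_le i))⟩)
        fun i j hij => t.strictMono hij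
    exact Order.LTSeries.length_le_krullDim t'
  -- generators on the quotient
  haveI := Rank.finite_completedKaehler (k := k) (A := A ⧸ J)
  let N := AdicCompletion (maximalIdeal (A ⧸ J)) (KaehlerDifferential k (A ⧸ J))
  let d : Derivation k A N := Derivation.mk'
    { toFun := fun a => Unram.dh k (A ⧸ J) (π a)
      map_add' := fun a b => by simp [Unram.dh]
      map_smul' := fun c a => by
        simp only [Unram.dh, RingHom.id_apply]
        rw [show π (c • a) = c • π a from rfl, Derivation.map_smul, LinearMap.map_smul_of_tower] }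
    (fun a b => by
      show Unram.dh k (A ⧸ J) (π (a * b)) = π a • _ + π b • _
      simp [Unram.dh])
  haveI : Module.Finite A N := Module.Finite.trans (A ⧸ J) N
  obtain ⟨Φ, hΦ⟩ := Rank.exists_functional (k := k) d ⊤ Module.Finite.fg_top fun _ => trivial
  have hΦs : ∀ z : N, ∃ w, Φ w = z := fun z => by
    have hz : z ∈ Submodule.span (A ⧸ J) (Set.range (Unram.dh k (A ⧸ J))) := by rw [Unram.span_range_dh]; trivial
    induction hz using Submodule.span_induction with
    | mem z hz =>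
      obtain ⟨b, rfl⟩ := hz
      obtain ⟨b, rfl⟩ := hπs b
      exact ⟨_, hΦ b⟩
    | zero => exact ⟨0, map_zero _⟩
    | add u v _ _ hu hv =>
      obtain ⟨a, rfl⟩ := hu
      obtain ⟨b, rfl⟩ := hv
      exact ⟨a + b, map_add _ _ _⟩
    | smul r u _ hu =>
      obtain ⟨a, rfl⟩ := hu
      obtain ⟨r, rfl⟩ := hπs r
      exact ⟨r • a, map_smul Φ r a⟩
  have hy' : ∀ z : N, ∃ t ∉ p.map π, t • z ∈ Submodule.span (A ⧸ J) (Set.range (Φ ∘ y)) := fun z => by
    obtain ⟨w, rfl⟩ := hΦs z
    obtain ⟨t, ht, htw⟩ := hy w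
    refine ⟨π t, fun h => ht (hcomap.le h), ?_⟩
    rw [show π t • Φ w = Φ (t • w) from (map_smul Φ t w).symm]
    refine Submodule.span_le_restrictScalars A (A ⧸ J) _ ?_
    rw [Set.range_comp, Submodule.span_image]
    exact ⟨_, htw, rfl⟩
  obtain ⟨alg, tw, hloc, hfin, hu⟩ := Unram.exists_unramified (p.map π) hp'ne hdim (q.map π) hq'p hq'dim (Φ ∘ y) hy'
  obtain ⟨het, hreg⟩ := Etale.etale_and_regular (k := k) (n := n) (p.map π) (q.map π) hq'p hq'dim
  refine ⟨alg, tw, fun i => ?_, hfin, het, hreg⟩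
  rw [hm, mem_maximalIdeal]
  intro hunit
  have h2 : IsUnit (MvPowerSeries.X i : MvPowerSeries (Fin n) k) := (isUnit_map_iff _ _).mp hunit
  rw [MvPowerSeries.isUnit_iff_constantCoeff, MvPowerSeries.constantCoeff_X] at h2
  exact not_isUnit_zero h2

/-- The local ring at `p` only sees the components through `p`. -/
theorem exists_localization_algEquiv (p : Ideal A) [p.IsPrime] (J : Ideal A)
    (hJ : J = RingHom.ker (algebraMap A (Localization.AtPrime p))) [(p.map (Ideal.Quotient.mk J)).IsPrime] :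
    Nonempty (Localization.AtPrime p ≃ₐ[A] Localization.AtPrime (p.map (Ideal.Quotient.mk J))) := by
  set p' := p.map (Ideal.Quotient.mk J)
  have hJp : J ≤ p := fun a ha => by
    rw [hJ, RingHom.mem_ker, IsLocalization.map_eq_zero_iff p.primeCompl] at ha
    obtain ⟨s, hs⟩ := ha
    exact ((‹p.IsPrime›).mem_or_mem (hs ▸ p.zero_mem)).resolve_left s.2
  have hc : p'.comap (Ideal.Quotient.mk J) = p := by
    rw [Ideal.comap_map_of_surjective' _ Ideal.Quotient.mk_surjective, Ideal.mk_ker, sup_eq_left.mpr hJp]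
  let f : Localization.AtPrime p →ₐ[A] Localization.AtPrime p' :=
    IsLocalization.liftAlgHom (M := p.primeCompl) (f := Algebra.ofId A (Localization.AtPrime p')) fun s => by
      rw [Algebra.ofId_apply, IsScalarTower.algebraMap_apply A (A ⧸ J) (Localization.AtPrime p')]
      exact IsLocalization.map_units _ (⟨_, fun h => s.2 (hc.le h)⟩ : p'.primeCompl)
  let g₀ : A ⧸ J →ₐ[A] Localization.AtPrime p :=
    Ideal.Quotient.liftₐ J (Algebra.ofId A _) fun a ha => by rw [hJ] at ha; exact ha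
  let g : Localization.AtPrime p' →ₐ[A] Localization.AtPrime p :=
    IsLocalization.liftAlgHom (M := p'.primeCompl) (f := g₀) fun s => by
      obtain ⟨s₀, hs₀⟩ := Ideal.Quotient.mk_surjective (s : A ⧸ J)
      rw [← hs₀]
      exact IsLocalization.map_units (Localization.AtPrime p)
        (⟨s₀, fun h => s.2 (hs₀ ▸ Ideal.mem_map_of_mem _ h)⟩ : p.primeCompl)
  refine ⟨AlgEquiv.ofAlgHom f g ?_ ?_⟩
  · refine IsLocalization.algHom_ext p'.primeCompl (AlgHom.ext fun b => ?_)
    obtain ⟨b, rfl⟩ := Ideal.Quotient.mk_surjective b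
    show f (g (algebraMap (A ⧸ J) _ (Ideal.Quotient.mk J b))) = algebraMap (A ⧸ J) _ (Ideal.Quotient.mk J b)
    rw [show Ideal.Quotient.mk J b = algebraMap A (A ⧸ J) b from rfl,
      ← IsScalarTower.algebraMap_apply, AlgHom.commutes, AlgHom.commutes]
  · exact IsLocalization.algHom_ext p.primeCompl (Subsingleton.elim _ _)

end Groth.Agent.DerExt61.Cut
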