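import Groth.Agent.DerExt61.Unram
import Groth.Agent.RegLoc.Miracle
import Groth.Agent.RegLoc.UFD
import Groth.Agent.RegLoc.Homological
import Groth.Agent.Depth.CM
import Groth.Agent.EtStruct.Core
import Groth.Agent.CycCover.Regular
import Groth.Agent.GeomLoc.Regular
import Groth.Agent.CAlg48.PowerSeriesAFS
import Groth.Agent.AdicFS.Basic
import Groth.Agent.S4512
import Mathlib

/-!
# Completed differentials generated by `dim A` elements: etale normalisation, freeness
-/

set_option autoImplicit false

noncomputable section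

universe u

open IsLocalRing TensorProduct

namespace Groth.Agent.DerExt61.Etale

open Rank Unram

variable {k A : Type u} [Field k] [CommRing A] [IsLocalRing A] [IsNoetherianRing A] [Algebra k A]
  [IsAdicComplete (maximalIdeal A) A] [Module.Finite k (ResidueField A)]

omit [IsNoetherianRing A] [IsAdicComplete (maximalIdeal A) A] [Module.Finite k (ResidueField A)] in
/-- The power series ring injects into a quotient of full dimension. -/
theorem injective_quotient {n : ℕ} [Algebra (MvPowerSeries (Fin n) k) A] [Module.Finite (MvPowerSeries (Fin n) k) A]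
    (q : Ideal A) [q.IsPrime] (hq : ringKrullDim (A ⧸ q) = (n : WithBot ℕ∞)) :
    Function.Injective ((Ideal.Quotient.mk q).comp (algebraMap (MvPowerSeries (Fin n) k) A)) := by
  let P := MvPowerSeries (Fin n) k
  set f := (Ideal.Quotient.mk q).comp (algebraMap P A) with hf
  rw [RingHom.injective_iff_ker_eq_bot]
  by_contra hP
  obtain ⟨x, hx, hx0⟩ := Submodule.exists_mem_ne_zero_of_ne_bot hP
  let Q := RingHom.ker f
  let _ : Algebra (P ⧸ Q) (A ⧸ q) := (RingHom.kerLift f).toAlgebra
  have : IsScalarTower P (P ⧸ Q) (A ⧸ q) :=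
    IsScalarTower.of_algebraMap_eq (R := P) (S := P ⧸ Q) (A := A ⧸ q) fun _ => rfl
  have : Module.Finite P (A ⧸ q) := Module.Finite.of_surjective (Ideal.Quotient.mkₐ P q).toLinearMap
    Ideal.Quotient.mk_surjective
  have : Module.Finite (P ⧸ Q) (A ⧸ q) := Module.Finite.of_restrictScalars_finite P _ _
  have : Algebra.IsIntegral (P ⧸ Q) (A ⧸ q) := Algebra.IsIntegral.of_finite _ _
  have h1 := InvQLib.FiniteFree.ringKrullDim_eq_of_integral (P ⧸ Q) (A ⧸ q) (RingHom.kerLift_injective f)
  have h2 : ringKrullDim (P ⧸ Q) + 1 ≤ ringKrullDim P :=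
    ringKrullDim_succ_le_of_surjective (Ideal.Quotient.mk Q) Ideal.Quotient.mk_surjective
      (mem_nonZeroDivisors_of_ne_zero hx0) (Ideal.Quotient.eq_zero_iff_mem.mpr hx)
  rw [← h1, hq, PSLoc.ringKrullDim_eq k n] at h2
  have h4 : n + 1 ≤ n := by exact_mod_cast h2
  omega

/-- Unramified in full dimension gives etale, with regular local ring. -/
theorem etale_and_regular {n : ℕ} [Algebra (MvPowerSeries (Fin n) k) A]
    [Module.Finite (MvPowerSeries (Fin n) k) A] (p q : Ideal A) [p.IsPrime] [q.IsPrime] (hqp : q ≤ p)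
    (hq : ringKrullDim (A ⧸ q) = (n : WithBot ℕ∞)) [Algebra.IsUnramifiedAt (MvPowerSeries (Fin n) k) p] :
    Algebra.IsEtaleAt (MvPowerSeries (Fin n) k) p ∧ IsRegularLocalRing (Localization.AtPrime p) := by
  let P := MvPowerSeries (Fin n) k
  let B := A ⧸ q
  have : IsRegularLocalRing P := PSLoc.isRegularLocalRing k n
  have : IsDomain P := RegLoc.isDomain P
  have : UniqueFactorizationMonoid P := RegLoc.UFD.uniqueFactorizationMonoid P
  have hinj := injective_quotient (k := k) (n := n) q hq
  have : FaithfulSMul P B := (faithfulSMul_iff_algebraMap_injective _ _).mpr hinj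
  have : Module.Finite P B := Module.Finite.of_surjective (Ideal.Quotient.mkₐ P q).toLinearMap
    Ideal.Quotient.mk_surjective
  have : Algebra.IsIntegral P B := Algebra.IsIntegral.of_finite P B
  let p0 : Ideal P := p.under P
  let pb : Ideal B := p.map (Ideal.Quotient.mk q)
  have : pb.IsPrime := Ideal.map_isPrime_of_surjective Ideal.Quotient.mk_surjective (by rwa [Ideal.mk_ker])
  have hcomap : pb.comap (Ideal.Quotient.mk q) = p := by
    rw [Ideal.comap_map_of_surjective' _ Ideal.Quotient.mk_surjective, Ideal.mk_ker, sup_eq_left.mpr hqp]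
  have : pb.LiesOver p0 := ⟨by
    show p.comap (algebraMap P A) = pb.comap ((Ideal.Quotient.mk q).comp (algebraMap P A))
    rw [← Ideal.comap_comap, hcomap]⟩
  have hh1 : p0.height ≤ pb.height := by
    rw [Ideal.height_eq_height_add_of_liesOver_of_hasGoingDown p0 pb]
    exact le_self_add
  have hh2 : pb.height ≤ p.height := by
    show (⟨pb, inferInstance⟩ : PrimeSpectrum B).asIdeal.height ≤ (⟨p, inferInstance⟩ : PrimeSpectrum A).asIdeal.height
    rw [PrimeSpectrum.height_eq_orderHeight, PrimeSpectrum.height_eq_orderHeight]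
    have hmono : StrictMono (PrimeSpectrum.comap (Ideal.Quotient.mk q)) :=
      Monotone.strictMono_of_injective (fun a b h => Ideal.comap_mono h)
        (PrimeSpectrum.comap_injective_of_surjective _ Ideal.Quotient.mk_surjective)
    refine (Order.height_le_height_apply_of_strictMono _ hmono _).trans (le_of_eq ?_)
    congr 1
    exact PrimeSpectrum.ext hcomap
  let R := Localization.AtPrime p0
  let S := Localization.AtPrime p
  have : p.LiesOver p0 := ⟨rfl⟩
  let _ : Algebra R S := Localization.AtPrime.algebraOfLiesOver p0 p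
  have : IsRegularLocalRing R := RegLoc.Homological.isRegularLocalRing_localization p0
  have hloc : IsLocalHom (algebraMap R S) := by infer_instance
  have : Algebra.EssFiniteType P S := Algebra.EssFiniteType.comp P A S
  have : Algebra.EssFiniteType R S := Algebra.EssFiniteType.of_comp P R S
  have : Algebra.FormallyUnramified R S := Algebra.FormallyUnramified.of_restrictScalars P R S
  have hmax := Algebra.FormallyUnramified.map_maximalIdeal (R := R) (S := S)
  have hspan : (maximalIdeal S).spanFinrank ≤ (maximalIdeal R).spanFinrank := by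
    rw [← hmax]
    exact Ideal.spanFinrank_map_le_of_fg _ (IsNoetherian.noetherian _)
  have hdimle : ringKrullDim R ≤ ringKrullDim S := by
    rw [IsLocalization.AtPrime.ringKrullDim_eq_height p0 R, IsLocalization.AtPrime.ringKrullDim_eq_height p S]
    exact_mod_cast hh1.trans hh2
  have hR := (isRegularLocalRing_iff R).mp inferInstance
  have hle : ((maximalIdeal S).spanFinrank : WithBot ℕ∞) ≤ ringKrullDim R := by
    rw [← hR]
    exact_mod_cast hspan
  have hSreg : IsRegularLocalRing S := IsRegularLocalRing.of_spanFinrank_maximalIdeal_le S (hle.trans hdimle)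
  refine ⟨?_, hSreg⟩
  have hdim : ringKrullDim S = ringKrullDim R := by
    refine le_antisymm (le_trans ?_ hle) hdimle
    rw [(isRegularLocalRing_iff S).mp hSreg]
  have : LocCoh.IsCohenMacaulayLocalRing S := Depth.isCohenMacaulayLocalRing_of_isRegularLocalRing
  have hflat : Module.Flat R S := RegLoc.Miracle.flat_of_ringKrullDim_eq_add (by
    rw [hmax, ringKrullDim_eq_zero_of_isField ((Ideal.Quotient.maximal_ideal_iff_isField_quotient _).mp inferInstance),
      add_zero, hdim])
  have : Module.Flat P S := Module.Flat.trans P R S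
  exact EtStruct.isEtaleAt_of_isUnramifiedAt_of_flat p

/-- `dim A` generators near `p` are independent, if the local ring is a domain. -/
theorem free_of_gens {n : ℕ} (p q : Ideal A) [p.IsPrime] [q.IsPrime] (hqmin : q ∈ minimalPrimes A) (hqp : q ≤ p)
    (hq : ringKrullDim (A ⧸ q) = (n : WithBot ℕ∞)) [IsDomain (Localization.AtPrime p)]
    (y : Fin n → AdicCompletion (maximalIdeal A) (KaehlerDifferential k A))
    (hy : ∀ z, ∃ t ∉ p, t • z ∈ Submodule.span A (Set.range y)) :
    Module.Free (Localization.AtPrime p)
        (LocalizedModule p.primeCompl (AdicCompletion (maximalIdeal A) (KaehlerDifferential k A))) ∧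
      Module.finrank (Localization.AtPrime p)
        (LocalizedModule p.primeCompl (AdicCompletion (maximalIdeal A) (KaehlerDifferential k A))) = n := by
  classical
  let S := Localization.AtPrime p
  let K := FractionRing (A ⧸ q)
  let mk := LocalizedModule.mkLinearMap p.primeCompl (AdicCompletion (maximalIdeal A) (KaehlerDifferential k A))
  obtain ⟨G, hG⟩ := exists_functionals (k := k) q n hq
  have hinj := eval_injective p q hqp G hG y hy
  have hsurj := LinearMap.injective_iff_surjective.mp hinj
  have hker : ∀ a ∈ q, algebraMap A S a = 0 := by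
    intro a ha
    have hle : RingHom.ker (algebraMap A S) ≤ q := by
      intro b hb
      obtain ⟨s, hs⟩ := (IsLocalization.map_eq_zero_iff p.primeCompl S b).mp hb
      exact ((‹q.IsPrime›.mem_or_mem (by rw [hs]; exact q.zero_mem)).resolve_left fun h => s.2 (hqp h))
    exact hqmin.2 ⟨RingHom.ker_isPrime _, bot_le⟩ hle ha
  have hli : LinearIndependent S (fun l => mk (y l)) := by
    rw [Fintype.linearIndependent_iff]
    intro c hc l₀
    obtain ⟨⟨b, hb⟩, hint⟩ := IsLocalization.exist_integer_multiples_of_finite p.primeCompl c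
    choose a ha using hint
    have h1 : mk (∑ l, a l • y l) = 0 := by
      rw [map_sum]
      have : ∀ l, mk (a l • y l) = (b : A) • (c l • mk (y l)) := fun l => by
        rw [map_smul, ← algebraMap_smul S (a l), ha, smul_assoc]
      rw [Finset.sum_congr rfl fun l _ => this l, ← Finset.smul_sum, hc, smul_zero]
    obtain ⟨t, ht⟩ := (IsLocalizedModule.eq_zero_iff p.primeCompl mk).mp h1
    obtain ⟨μ, hμ⟩ := hsurj (Pi.single l₀ 1)
    have h2 : (∑ j, μ j • G j) ((t : A) • ∑ l, a l • y l) = 0 := by
      rw [show (t : A) • ∑ l, a l • y l = 0 from ht, map_zero]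
    have hμl : ∀ l, (∑ j, μ j • G j) (y l) = (Pi.single l₀ (1 : K) : Fin n → K) l := fun l => by
      rw [← hμ]
      simp [Fintype.linearCombination_apply, Finset.sum_apply, LinearMap.sum_apply]
    rw [map_smul, map_sum] at h2
    simp only [map_smul, hμl, Pi.single_apply, smul_ite, smul_zero, Finset.sum_ite_eq', Finset.mem_univ,
      if_true, Algebra.smul_def, mul_one, mul_eq_zero] at h2
    have hqmem : ∀ r : A, algebraMap A K r = 0 → r ∈ q := fun r h => by
      rw [show algebraMap A K r = algebraMap (A ⧸ q) K (Ideal.Quotient.mk q r) from rfl,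
        map_eq_zero_iff _ (IsFractionRing.injective (A ⧸ q) K), Ideal.Quotient.eq_zero_iff_mem] at h
      exact h
    have h4 := h2.resolve_left fun h => t.2 (hqp (hqmem _ h))
    simp only [mul_ite, mul_one, mul_zero, Finset.sum_ite_eq', Finset.mem_univ, if_true] at h4
    have hal : a l₀ ∈ q := hqmem _ h4
    have h3 := ha l₀
    rw [hker _ hal, Algebra.smul_def, eq_comm] at h3
    exact ((IsLocalization.map_units S (⟨b, hb⟩ : p.primeCompl)).mul_right_eq_zero).mp h3
  let bas := Module.Basis.mk hli ((span_eq_top_iff p y).mpr hy).ge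
  exact ⟨Module.Free.of_basis bas, by rw [Module.finrank_eq_card_basis bas, Fintype.card_fin]⟩

omit [IsNoetherianRing A] [IsAdicComplete (maximalIdeal A) A] [Module.Finite k (ResidueField A)] [IsLocalRing A] in
/-- Etale over power series is geometrically regular. -/
theorem isGeometricallyRegular_of_etaleAt {n : ℕ} [Algebra (MvPowerSeries (Fin n) k) A]
    [IsScalarTower k (MvPowerSeries (Fin n) k) A]
    [Algebra.FinitePresentation (MvPowerSeries (Fin n) k) A] (p : Ideal A) [p.IsPrime]
    [Algebra.IsEtaleAt (MvPowerSeries (Fin n) k) p] :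
    CAlg.IsGeometricallyRegular k (Localization.AtPrime p) := by
  intro L _ _ hL
  let P := MvPowerSeries (Fin n) k
  have hmX : ∀ i : Fin n, MvPowerSeries.X i ∈ maximalIdeal P := fun i hu => by
    rw [MvPowerSeries.isUnit_iff_constantCoeff, MvPowerSeries.constantCoeff_X] at hu
    exact not_isUnit_zero hu
  have : IsRegularLocalRing P := PSLoc.isRegularLocalRing k n
  have hPfs : CAlgX.IsAdicFormallySmooth k P (maximalIdeal P) :=
    CAlg48.PowerSeriesAFS.isAdicFormallySmooth (⊥ : Ideal k) (AdicFS.Basic.of_formallySmooth _) _ hmX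
      (by simp [Ideal.map_bot])
  have := (S4512.result hPfs).1 L hL
  have : IsRegularRing (P ⊗[k] L) := IsRegularRing.of_ringEquiv (Algebra.TensorProduct.comm k L P).toRingEquiv
  obtain ⟨f, hfp, hf⟩ := Algebra.exists_etale_of_isEtaleAt (R := P) p
  let Af := Localization.Away f
  let Ap := Localization.AtPrime p
  have : IsRegularRing ((P ⊗[k] L) ⊗[P] Af) := CycCover.isRegularRing_of_etale (R := P ⊗[k] L)
  have : IsRegularRing (Af ⊗[k] L) := IsRegularRing.of_ringEquiv (R := (P ⊗[k] L) ⊗[P] Af) (R' := Af ⊗[k] L)
    ((Algebra.TensorProduct.comm P (P ⊗[k] L) Af).toRingEquiv.trans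
      (Algebra.TensorProduct.cancelBaseChange k P Af Af L).toRingEquiv)
  have hle : Submonoid.powers f ≤ p.primeCompl := Submonoid.powers_le.mpr hfp
  let _ := IsLocalization.localizationAlgebraOfSubmonoidLe Af Ap _ _ hle
  have := IsLocalization.localization_isScalarTower_of_submonoid_le Af Ap _ _ hle
  have := IsLocalization.isLocalization_of_submonoid_le Af Ap _ _ hle
  have : IsScalarTower k Af Ap := IsScalarTower.to₁₃₄ k A Af _
  let _ := (FBase.Point.mapK (k := k) (A := Af) Ap L).toRingHom.toAlgebra
  have : IsScalarTower Af (Af ⊗[k] L) (Ap ⊗[k] L) :=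
    IsScalarTower.of_algebraMap_eq (R := Af) (S := Af ⊗[k] L) (A := Ap ⊗[k] L) fun a ↦ by
    rw [RingHom.algebraMap_toAlgebra, AlgHom.toRingHom_eq_coe, RingHom.coe_coe,
      FBase.Point.mapK_algebraMap]
    rfl
  have := IsLocalization.tensorProduct_tensorProduct k L (p.primeCompl.map (algebraMap A Af)) Ap
    (by ext x; simp [RingHom.algebraMap_toAlgebra, FBase.Point.mapK])
  have : IsRegularRing (Ap ⊗[k] L) := GeomFieldLib.isRegularRing_of_isLocalization (R := Af ⊗[k] L)
    (Algebra.algebraMapSubmonoid (Af ⊗[k] L) (p.primeCompl.map (algebraMap A Af)))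
  exact IsRegularRing.of_ringEquiv (Algebra.TensorProduct.comm k Ap L).toRingEquiv

end Groth.Agent.DerExt61.Etale
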