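import Groth.Agent.DerExt61.CompTensor
import Groth.Agent.DerExt61.Cut
import Groth.Agent.CAlg48.PSEval
import Groth.Agent.Nagata.Normalization
import Groth.Agent.CycCover.Regular
import Groth.Agent.GeomFieldLib.Main
import Groth.Agent.Hens.SemiLocal
import Mathlib

/-!
# The completed base change of an etale normalisation
-/

set_option autoImplicit false
set_option linter.style.haveILetI false

noncomputable section

universe u

open IsLocalRing TensorProduct

namespace Groth.Agent.DerExt61.EtaleBC

/-- Continuous maps out of power series are determined by constants and variables. -/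
theorem ps_ext {k S : Type u} [Field k] [CommRing S] {n : ℕ} (K : Ideal S) [IsHausdorff K S]
    (f g : MvPowerSeries (Fin n) k →+* S) (hC : ∀ a, f (MvPowerSeries.C a) = g (MvPowerSeries.C a))
    (hX : ∀ i, f (MvPowerSeries.X i) = g (MvPowerSeries.X i)) (hK : ∀ i, f (MvPowerSeries.X i) ∈ K) :
    f = g := by
  classical
  have key : ∀ m, ∀ c, f c - g c ∈ K ^ m := by
    intro m
    induction m with
    | zero => intro c; rw [pow_zero, Ideal.one_eq_top]; trivial
    | succ m ih =>
      intro c
      have h0 : MvPowerSeries.constantCoeff (c - MvPowerSeries.C (MvPowerSeries.constantCoeff c)) = 0 := by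
        simp
      obtain ⟨φ, hφ⟩ := Ideal.mem_span_range_iff_exists_fun.mp (Nagata.Normalization.mem_span_X h0)
      have hc : c = MvPowerSeries.C (MvPowerSeries.constantCoeff c) + ∑ i, φ i * MvPowerSeries.X i := by
        rw [hφ]; ring
      rw [hc, map_add, map_add, map_sum, map_sum, hC, add_sub_add_left_eq_sub, ← Finset.sum_sub_distrib]
      refine Ideal.sum_mem _ fun i _ => ?_
      rw [map_mul, map_mul, ← hX, ← sub_mul, pow_succ]
      exact Ideal.mul_mem_mul (ih (φ i)) (hK i)
  refine RingHom.ext fun c => (IsHausdorff.eq_iff_smodEq (I := K)).mpr fun m => ?_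
  rw [SModEq.sub_mem, smul_eq_mul, Ideal.mul_top]
  exact key m c

/-- A local ring only sees a quotient by elements dying in it. -/
theorem exists_ringEquiv_atPrime_quotient {C : Type u} [CommRing C] (P I : Ideal C) [P.IsPrime]
    (hI : I ≤ RingHom.ker (algebraMap C (Localization.AtPrime P))) :
    ∃ (_ : (P.map (Ideal.Quotient.mk I)).IsPrime),
      Nonempty (Localization.AtPrime P ≃+* Localization.AtPrime (P.map (Ideal.Quotient.mk I))) := by
  have hIP : I ≤ P := fun a ha => by
    obtain ⟨s, hs⟩ := (IsLocalization.map_eq_zero_iff P.primeCompl _ a).mp (hI ha)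
    exact ((‹P.IsPrime›).mem_or_mem (hs ▸ P.zero_mem)).resolve_left s.2
  haveI hP' : (P.map (Ideal.Quotient.mk I)).IsPrime :=
    Ideal.map_isPrime_of_surjective Ideal.Quotient.mk_surjective (by rwa [Ideal.mk_ker])
  refine ⟨hP', ?_⟩
  set P' := P.map (Ideal.Quotient.mk I)
  have hc : P'.comap (Ideal.Quotient.mk I) = P := by
    rw [Ideal.comap_map_of_surjective' _ Ideal.Quotient.mk_surjective, Ideal.mk_ker, sup_eq_left.mpr hIP]
  let f : Localization.AtPrime P →ₐ[C] Localization.AtPrime P' :=
    IsLocalization.liftAlgHom (M := P.primeCompl) (f := Algebra.ofId C (Localization.AtPrime P')) fun s => by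
      rw [Algebra.ofId_apply, IsScalarTower.algebraMap_apply C (C ⧸ I) (Localization.AtPrime P')]
      exact IsLocalization.map_units _ (⟨_, fun h => s.2 (hc.le h)⟩ : P'.primeCompl)
  let g₀ : C ⧸ I →ₐ[C] Localization.AtPrime P :=
    Ideal.Quotient.liftₐ I (Algebra.ofId C _) fun a ha => hI ha
  let g : Localization.AtPrime P' →ₐ[C] Localization.AtPrime P :=
    IsLocalization.liftAlgHom (M := P'.primeCompl) (f := g₀) fun s => by
      obtain ⟨s₀, hs₀⟩ := Ideal.Quotient.mk_surjective (s : C ⧸ I)
      rw [← hs₀]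
      exact IsLocalization.map_units (Localization.AtPrime P)
        (⟨s₀, fun h => s.2 (hs₀ ▸ Ideal.mem_map_of_mem _ h)⟩ : P.primeCompl)
  refine ⟨(AlgEquiv.ofAlgHom f g ?_ ?_).toRingEquiv⟩
  · refine IsLocalization.algHom_ext P'.primeCompl (AlgHom.ext fun b => ?_)
    obtain ⟨b, rfl⟩ := Ideal.Quotient.mk_surjective b
    show f (g (algebraMap (C ⧸ I) _ (Ideal.Quotient.mk I b))) = algebraMap (C ⧸ I) _ (Ideal.Quotient.mk I b)
    rw [show Ideal.Quotient.mk I b = algebraMap C (C ⧸ I) b from rfl,
      ← IsScalarTower.algebraMap_apply, AlgHom.commutes, AlgHom.commutes]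
  · exact IsLocalization.algHom_ext P.primeCompl (Subsingleton.elim _ _)

attribute [local instance] Algebra.TensorProduct.rightAlgebra

variable {k A k' : Type u} [Field k] [CommRing A] [IsLocalRing A] [IsNoetherianRing A] [Algebra k A]
  [IsAdicComplete (maximalIdeal A) A] [Module.Finite k (ResidueField A)] [Field k'] [Algebra k k']

set_option maxHeartbeats 1600000 in
/-- Points of the completed base change over an etale point are regular. -/
theorem isRegularLocalRing_of_model (p : Ideal A) [p.IsPrime] {n : ℕ} (J : Ideal A)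
    (hJ : J = RingHom.ker (algebraMap A (Localization.AtPrime p)))
    [(p.map (Ideal.Quotient.mk J)).IsPrime]
    [Algebra (MvPowerSeries (Fin n) k) (A ⧸ J)] [IsScalarTower k (MvPowerSeries (Fin n) k) (A ⧸ J)]
    (hx : ∀ i, algebraMap (MvPowerSeries (Fin n) k) (A ⧸ J) (MvPowerSeries.X i) ∈
      (maximalIdeal A).map (Ideal.Quotient.mk J))
    [Module.Finite (MvPowerSeries (Fin n) k) (A ⧸ J)]
    [Algebra.IsEtaleAt (MvPowerSeries (Fin n) k) (p.map (Ideal.Quotient.mk J))]
    (P : Ideal (CompTensor.C k A k')) [P.IsPrime]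
    (hP : P.comap (algebraMap A (CompTensor.C k A k')) = p) :
    IsRegularLocalRing (Localization.AtPrime P) := by
  classical
  let R := MvPowerSeries (Fin n) k
  let R' := MvPowerSeries (Fin n) k'
  letI : Algebra R R' := (MvPowerSeries.map (algebraMap k k')).toAlgebra
  haveI : IsScalarTower k R R' := IsScalarTower.of_algebraMap_eq fun c => by
    rw [RingHom.algebraMap_toAlgebra, MvPowerSeries.algebraMap_apply, MvPowerSeries.algebraMap_apply,
      MvPowerSeries.map_C, Algebra.algebraMap_self, RingHom.id_apply]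
  haveI : IsRegularLocalRing R := PSLoc.isRegularLocalRing k n
  haveI : IsRegularLocalRing R' := PSLoc.isRegularLocalRing k' n
  set π := Ideal.Quotient.mk J with hπ
  -- the quotient of the completed base change
  set CJ : Ideal (CompTensor.C k A k') := J.map (algebraMap A (CompTensor.C k A k'))
  have hCJ : CJ ≤ RingHom.ker (algebraMap _ (Localization.AtPrime P)) := Ideal.map_le_iff_le_comap.mpr fun a ha => by
    rw [hJ, RingHom.mem_ker, IsLocalization.map_eq_zero_iff p.primeCompl] at ha
    obtain ⟨s, hs⟩ := ha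
    rw [Ideal.mem_comap, RingHom.mem_ker, IsLocalization.map_eq_zero_iff P.primeCompl]
    exact ⟨⟨algebraMap A _ (s : A), fun h => s.2 (hP.le h)⟩, by rw [← map_mul, hs, map_zero]⟩
  obtain ⟨hP'', ⟨eloc⟩⟩ := exists_ringEquiv_atPrime_quotient P CJ hCJ
  suffices IsRegularLocalRing (Localization.AtPrime (P.map (Ideal.Quotient.mk CJ))) from
    IsRegularLocalRing.of_ringEquiv eloc.symm
  set C'' := CompTensor.C k A k' ⧸ CJ
  set m := maximalIdeal A
  haveI : IsAdicComplete (m.map (algebraMap A C'')) C'' := by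
    rw [IsScalarTower.algebraMap_eq A (CompTensor.C k A k') C'', ← Ideal.map_map]
    exact (IsAdicComplete.map_algebraMap_iff _ _).mpr (Adic.isAdicComplete_of_finite _)
  -- the map from the power series
  choose x₀ hx₀ hx₀' using fun i => (Ideal.mem_map_iff_of_surjective π Ideal.Quotient.mk_surjective).mp (hx i)
  obtain ⟨ψ, hψ⟩ := CAlg48.PSEval.exists_algHom (k := k') (m.map (algebraMap A C''))
    (fun i => algebraMap A C'' (x₀ i)) (fun i => Ideal.mem_map_of_mem _ (hx₀ i))
  let ι₀ : A ⧸ J →ₐ[A] C'' := Ideal.Quotient.liftₐ J (Algebra.ofId A C'') fun a ha => by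
    rw [Algebra.ofId_apply, IsScalarTower.algebraMap_apply A (CompTensor.C k A k') C'']
    exact Ideal.Quotient.eq_zero_iff_mem.mpr (Ideal.mem_map_of_mem _ ha)
  have hι₀ : ∀ a, ι₀ (π a) = algebraMap A C'' a := fun a => rfl
  have hcompat : ψ.toRingHom.comp (algebraMap R R') = ι₀.toRingHom.comp (algebraMap R (A ⧸ J)) := by
    refine ps_ext (m.map (algebraMap A C'')) _ _ (fun c => ?_) (fun i => ?_) (fun i => ?_)
    · show ψ (MvPowerSeries.map (algebraMap k k') (MvPowerSeries.C c)) = ι₀ (algebraMap R (A ⧸ J) (MvPowerSeries.C c))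
      rw [MvPowerSeries.map_C, show MvPowerSeries.C (algebraMap k k' c) = algebraMap k' R' (algebraMap k k' c) from rfl,
        AlgHom.commutes, ← IsScalarTower.algebraMap_apply,
        show MvPowerSeries.C c = algebraMap k R c from rfl, ← IsScalarTower.algebraMap_apply,
        IsScalarTower.algebraMap_apply k A (A ⧸ J), show algebraMap A (A ⧸ J) (algebraMap k A c) = π (algebraMap k A c) from rfl,
        hι₀, ← IsScalarTower.algebraMap_apply]
    · show ψ (MvPowerSeries.map (algebraMap k k') (MvPowerSeries.X i)) = ι₀ (algebraMap R (A ⧸ J) (MvPowerSeries.X i))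
      rw [MvPowerSeries.map_X, hψ, ← hx₀', hι₀]
    · show ψ (MvPowerSeries.map (algebraMap k k') (MvPowerSeries.X i)) ∈ _
      rw [MvPowerSeries.map_X, hψ]
      exact Ideal.mem_map_of_mem _ (hx₀ i)
  letI : Algebra R' C'' := ψ.toRingHom.toAlgebra
  letI : Algebra R C'' := (ψ.toRingHom.comp (algebraMap R R')).toAlgebra
  haveI : IsScalarTower R R' C'' := IsScalarTower.of_algebraMap_eq fun _ => rfl
  let ι : A ⧸ J →ₐ[R] C'' := { ι₀.toRingHom with commutes' := fun r => (RingHom.congr_fun hcompat r).symm }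
  let D := R' ⊗[R] (A ⧸ J)
  let χ : D →ₐ[R'] C'' := Algebra.TensorProduct.lift (Algebra.ofId R' C'') ι fun _ _ => Commute.all _ _
  -- completeness of `D`
  let iA : A →+* D := ((Algebra.TensorProduct.includeRight : A ⧸ J →ₐ[R] D).toRingHom).comp π
  letI : Algebra A D := iA.toAlgebra
  haveI : IsAdicComplete (m.map (algebraMap A D)) D := by
    have hXD : (maximalIdeal R').map (algebraMap R' D) ≤ m.map (algebraMap A D) := by
      rw [PSLoc.maximalIdeal_eq k', Ideal.map_span, Ideal.span_le]
      rintro _ ⟨_, ⟨i, rfl⟩, rfl⟩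
      have e : algebraMap R' D (MvPowerSeries.X i) = algebraMap A D (x₀ i) := by
        show (MvPowerSeries.X i : R') ⊗ₜ[R] (1 : A ⧸ J) = (1 : R') ⊗ₜ[R] π (x₀ i)
        rw [hx₀', Algebra.algebraMap_eq_smul_one (A := A ⧸ J), TensorProduct.tmul_smul, TensorProduct.smul_tmul',
          Algebra.smul_def, mul_one, RingHom.algebraMap_toAlgebra, MvPowerSeries.map_X]
      rw [e]
      exact Ideal.mem_map_of_mem _ (hx₀ i)
    obtain ⟨d, hd⟩ : ∃ d, (m.map π) ^ d ≤ (maximalIdeal R).map (algebraMap R (A ⧸ J)) := by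
      haveI := Hens.isArtinianRing_quotient_map (A := R) (B := A ⧸ J)
      refine Ideal.exists_pow_le_of_le_radical_of_fg ?_ (IsNoetherian.noetherian _)
      rw [Ideal.radical_eq_sInf]
      refine le_sInf fun Q hQ => ?_
      haveI := hQ.2
      haveI : (Q.map (Ideal.Quotient.mk ((maximalIdeal R).map (algebraMap R (A ⧸ J))))).IsPrime :=
        Ideal.map_isPrime_of_surjective Ideal.Quotient.mk_surjective (by rw [Ideal.mk_ker]; exact hQ.1)
      have hQm := Ideal.comap_isMaximal_of_surjective (Ideal.Quotient.mk ((maximalIdeal R).map (algebraMap R (A ⧸ J))))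
        Ideal.Quotient.mk_surjective (K := Q.map (Ideal.Quotient.mk ((maximalIdeal R).map (algebraMap R (A ⧸ J)))))
      rw [Ideal.comap_map_of_surjective' _ Ideal.Quotient.mk_surjective, Ideal.mk_ker, sup_eq_left.mpr hQ.1] at hQm
      haveI : (Q.comap π).IsMaximal := Ideal.comap_isMaximal_of_surjective π Ideal.Quotient.mk_surjective
      rw [show m = Q.comap π from (eq_maximalIdeal ‹(Q.comap π).IsMaximal›).symm]
      exact Ideal.map_comap_le
    have hmD : (m.map (algebraMap A D)) ^ (d + 1) ≤ (maximalIdeal R').map (algebraMap R' D) := by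
      refine (Ideal.pow_le_pow_right d.le_succ).trans ?_
      rw [show m.map (algebraMap A D) = (m.map π).map (Algebra.TensorProduct.includeRight : A ⧸ J →ₐ[R] D).toRingHom
          from (Ideal.map_map _ _).symm, ← Ideal.map_pow]
      refine (Ideal.map_mono hd).trans ?_
      rw [Ideal.map_map, show (Algebra.TensorProduct.includeRight : A ⧸ J →ₐ[R] D).toRingHom.comp (algebraMap R (A ⧸ J)) =
        algebraMap R D from (Algebra.TensorProduct.includeRight : A ⧸ J →ₐ[R] D).comp_algebraMap,
        IsScalarTower.algebraMap_eq R R' D, ← Ideal.map_map]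
      refine Ideal.map_mono (Ideal.map_le_iff_le_comap.mpr fun c hc => ?_)
      rw [Ideal.mem_comap, mem_maximalIdeal, mem_nonunits_iff, RingHom.algebraMap_toAlgebra,
        MvPowerSeries.isUnit_iff_constantCoeff, MvPowerSeries.constantCoeff_map]
      rw [mem_maximalIdeal, mem_nonunits_iff, MvPowerSeries.isUnit_iff_constantCoeff] at hc
      rwa [isUnit_map_iff]
    haveI : IsAdicComplete (maximalIdeal R') R' := by rw [PSLoc.maximalIdeal_eq k']; infer_instance
    haveI : IsAdicComplete ((maximalIdeal R').map (algebraMap R' D)) D :=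
      (IsAdicComplete.map_algebraMap_iff _ _).mpr (Adic.isAdicComplete_of_finite _)
    exact CAlg48.AdicPow.isAdicComplete_of_pow_le (I := (maximalIdeal R').map (algebraMap R' D))
      (c := 1) (d := d + 1) Nat.one_pos d.succ_pos (by simpa using hXD) hmD
  haveI : IsScalarTower k A D := IsScalarTower.of_algebraMap_eq fun c => by
    show algebraMap k D c = (Algebra.TensorProduct.includeRight : A ⧸ J →ₐ[R] D) (π (algebraMap k A c))
    rw [show π (algebraMap k A c) = algebraMap k (A ⧸ J) c from rfl,
      IsScalarTower.algebraMap_apply k R (A ⧸ J), AlgHom.commutes, ← IsScalarTower.algebraMap_apply]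
  let φk : k' →ₐ[k] D := ((Algebra.ofId R' D).restrictScalars k).comp (IsScalarTower.toAlgHom k k' R')
  let h₀ : A ⊗[k] k' →ₐ[k] D :=
    Algebra.TensorProduct.lift (IsScalarTower.toAlgHom k A D) φk fun _ _ => Commute.all _ _
  let h : A ⊗[k] k' →ₐ[A] D :=
    { h₀.toRingHom with
      commutes' := fun a => by
        show h₀ (a ⊗ₜ[k] (1 : k')) = algebraMap A D a
        rw [show h₀ (a ⊗ₜ[k] (1 : k')) = IsScalarTower.toAlgHom k A D a * φk 1 from Algebra.TensorProduct.lift_tmul ..,
          map_one, mul_one]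
        rfl }
  let θ : CompTensor.C k A k' →ₐ[A] D := Adic.complLift m h
  have hθ : ∀ t, θ (algebraMap (A ⊗[k] k') (CompTensor.C k A k') t) = h t := fun t => Adic.complLift_of m h t
  let θ'' : C'' →ₐ[A] D := Ideal.Quotient.liftₐ CJ θ fun c hc => by
    refine (show CJ ≤ RingHom.ker θ.toRingHom from Ideal.map_le_iff_le_comap.mpr fun a ha => ?_) hc
    show θ (algebraMap A _ a) = 0
    rw [θ.commutes]
    show (1 : R') ⊗ₜ[R] π a = 0
    rw [hπ, Ideal.Quotient.eq_zero_iff_mem.mpr ha, TensorProduct.tmul_zero]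
  have hθk : ∀ c : k', θ'' (algebraMap k' C'' c) = algebraMap R' D (MvPowerSeries.C c) := fun c => by
    show θ (algebraMap k' (CompTensor.C k A k') c) = _
    rw [CompTensor.algebraMap_C, hθ]
    show h₀ ((1 : A) ⊗ₜ[k] c) = _
    rw [show h₀ ((1 : A) ⊗ₜ[k] c) = IsScalarTower.toAlgHom k A D 1 * φk c from Algebra.TensorProduct.lift_tmul ..,
      map_one, one_mul]
    rfl
  have hχA : ∀ a : A, χ (algebraMap A D a) = algebraMap A C'' a := fun a => by
    show χ ((1 : R') ⊗ₜ[R] π a) = _
    rw [show χ ((1 : R') ⊗ₜ[R] π a) = Algebra.ofId R' C'' 1 * ι (π a) from Algebra.TensorProduct.lift_tmul ..,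
      map_one, one_mul]
    exact hι₀ a
  have hχk : ∀ c : k', χ (algebraMap R' D (MvPowerSeries.C c)) = algebraMap k' C'' c := fun c => by
    rw [AlgHom.commutes]
    exact ψ.commutes c
  have hleft : ∀ c, χ (θ'' c) = c := by
    let χA : D →ₐ[A] C'' := { χ.toRingHom with commutes' := hχA }
    have he : χA.comp θ = IsScalarTower.toAlgHom A (CompTensor.C k A k') C'' := by
      refine Adic.complExt m (IsNoetherian.noetherian _) _ _ fun t => ?_
      show χ (θ (algebraMap (A ⊗[k] k') (CompTensor.C k A k') t)) =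
        Ideal.Quotient.mk CJ (algebraMap (A ⊗[k] k') (CompTensor.C k A k') t)
      rw [hθ]
      induction t using TensorProduct.induction_on with
      | zero => simp
      | add x y hx hy => rw [map_add, map_add, hx, hy, map_add, map_add]
      | tmul a c =>
        show χ (h₀ (a ⊗ₜ[k] c)) = _
        rw [show h₀ (a ⊗ₜ[k] c) = algebraMap A D a * algebraMap R' D (MvPowerSeries.C c) from
            Algebra.TensorProduct.lift_tmul .., map_mul, hχA, hχk,
          show a ⊗ₜ[k] c = a ⊗ₜ[k] (1 : k') * (1 : A) ⊗ₜ[k] c by rw [Algebra.TensorProduct.tmul_mul_tmul, mul_one, one_mul],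
          map_mul, map_mul]
        rfl
    intro c
    obtain ⟨c, rfl⟩ := Ideal.Quotient.mk_surjective c
    exact AlgHom.congr_fun he c
  have hright : ∀ z, θ'' (χ z) = z := by
    have hR' : θ''.toRingHom.comp ψ.toRingHom = algebraMap R' D := by
      haveI : IsHausdorff (m.map (algebraMap A D)) D := IsAdicComplete.toIsHausdorff
      refine ps_ext (m.map (algebraMap A D)) _ _ (fun c => ?_) (fun i => ?_) (fun i => ?_)
      · show θ'' (ψ (algebraMap k' R' c)) = _
        rw [AlgHom.commutes, hθk]
      · show θ'' (ψ (MvPowerSeries.X i)) = _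
        rw [hψ, AlgHom.commutes]
        show (1 : R') ⊗ₜ[R] π (x₀ i) = (MvPowerSeries.X i : R') ⊗ₜ[R] (1 : A ⧸ J)
        rw [hx₀', Algebra.algebraMap_eq_smul_one (A := A ⧸ J), TensorProduct.tmul_smul, TensorProduct.smul_tmul',
          Algebra.smul_def, mul_one, RingHom.algebraMap_toAlgebra, MvPowerSeries.map_X]
      · show θ'' (ψ (MvPowerSeries.X i)) ∈ _
        rw [hψ, AlgHom.commutes]
        exact Ideal.mem_map_of_mem _ (hx₀ i)
    intro z
    induction z using TensorProduct.induction_on with
    | zero => simp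
    | add x y hx hy => rw [map_add, map_add, hx, hy]
    | tmul r b =>
      obtain ⟨a, rfl⟩ := Ideal.Quotient.mk_surjective b
      rw [show χ (r ⊗ₜ[R] π a) = ψ r * ι₀ (π a) from Algebra.TensorProduct.lift_tmul .., map_mul,
        show θ'' (ψ r) = algebraMap R' D r from RingHom.congr_fun hR' r, hι₀, AlgHom.commutes]
      show r ⊗ₜ[R] (1 : A ⧸ J) * (1 : R') ⊗ₜ[R] π a = _
      rw [Algebra.TensorProduct.tmul_mul_tmul, mul_one, one_mul]
  let e : D ≃+* C'' := RingEquiv.ofRingHom χ.toRingHom θ''.toRingHom (RingHom.ext hleft) (RingHom.ext hright)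
  -- the regular point of `D`
  set P'' := P.map (Ideal.Quotient.mk CJ)
  let Q := P''.comap e.toRingHom
  haveI : Algebra.FinitePresentation R (A ⧸ J) := Algebra.FinitePresentation.of_finiteType.mp inferInstance
  obtain ⟨f, hfp, hf⟩ := Algebra.exists_etale_of_isEtaleAt (R := R) (p.map π)
  haveI := hf
  have hu : (1 : R') ⊗ₜ[R] f ∉ Q := by
    obtain ⟨a, rfl⟩ := Ideal.Quotient.mk_surjective f
    intro hmem
    have h1 : algebraMap A C'' a ∈ P'' := by rw [← hχA a]; exact hmem
    rw [IsScalarTower.algebraMap_apply A (CompTensor.C k A k') C'', Ideal.Quotient.algebraMap_eq,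
      Ideal.mem_quotient_iff_mem_sup] at h1
    have hle : CJ ≤ P := fun c hc => by
      obtain ⟨s, hs⟩ := (IsLocalization.map_eq_zero_iff P.primeCompl _ c).mp (hCJ hc)
      exact ((‹P.IsPrime›).mem_or_mem (hs ▸ P.zero_mem)).resolve_left s.2
    rw [sup_eq_left.mpr hle] at h1
    exact hfp (Ideal.mem_map_of_mem _ (hP.le h1))
  let Du := Localization.Away ((1 : R') ⊗ₜ[R] f : D)
  haveI : Algebra.Etale R' Du :=
    Algebra.Etale.of_equiv (IsLocalization.Away.tensorProductEquivTMulRight R R' f (Localization.Away f))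
  haveI : IsRegularRing R' := isRegularRing_iff.mpr fun q _ => RegLoc.Homological.isRegularLocalRing_localization q
  haveI : IsRegularRing Du := CycCover.isRegularRing_of_etale (R := R')
  have hle : Submonoid.powers ((1 : R') ⊗ₜ[R] f : D) ≤ Q.primeCompl := Submonoid.powers_le.mpr hu
  let DQ := Localization.AtPrime Q
  letI := IsLocalization.localizationAlgebraOfSubmonoidLe Du DQ _ _ hle
  haveI := IsLocalization.localization_isScalarTower_of_submonoid_le Du DQ _ _ hle
  haveI := IsLocalization.isLocalization_of_submonoid_le Du DQ _ _ hle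
  haveI : IsRegularRing DQ :=
    GeomFieldLib.isRegularRing_of_isLocalization (R := Du) (Q.primeCompl.map (algebraMap D Du))
  haveI : IsRegularLocalRing DQ := IsRegularLocalRing.of_isRegularRing_of_isLocalRing _
  have hmap : Q.primeCompl.map e.toMonoidHom = P''.primeCompl := by
    ext c
    refine ⟨?_, fun hc => ⟨e.symm c, fun h => hc ?_, e.apply_symm_apply c⟩⟩
    · rintro ⟨b, hb, rfl⟩
      exact hb
    · have h' : e (e.symm c) ∈ P'' := h
      rwa [e.apply_symm_apply] at h'
  refine IsRegularLocalRing.of_ringEquiv (R := DQ) (R' := Localization.AtPrime P'') ?_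
  exact IsLocalization.ringEquivOfRingEquiv DQ (Localization.AtPrime P'') e hmap

end Groth.Agent.DerExt61.EtaleBC
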