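import Mathlib

/-!
# A finite field extension has at least as many independent derivations as the base
-/

set_option autoImplicit false

noncomputable section

universe u

open Polynomial TrivSqZeroExt
open scoped IntermediateField

namespace Groth.Agent.DerExt61.Field

variable {k F E : Type*} [Field k] [Field F] [Field E] [Algebra k F] [Algebra k E] [Algebra F E]
  [IsScalarTower k F E]

/-- The value of the derivative of the coefficients at a point. -/
def phi (x : E) (f : F[X]) : Derivation k F E →ₗ[E] E where
  toFun D := f.sum fun n a => D a * x ^ n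
  map_add' D D' := by
    show (f.sum fun n a => (D + D') a * x ^ n) = (f.sum fun n a => D a * x ^ n) + f.sum fun n a => D' a * x ^ n
    simp only [Derivation.add_apply, add_mul, Polynomial.sum_def, Finset.sum_add_distrib]
  map_smul' e D := by
    simp only [Derivation.smul_apply, smul_eq_mul, RingHom.id_apply, Polynomial.sum_def, Finset.mul_sum, mul_assoc]

/-- The dual-number morphism of a derivation. -/
def toDual (D : Derivation k F E) : F →+* DualNumber E where
  toFun a := inl (algebraMap F E a) + inr (D a)
  map_one' := by simp
  map_zero' := by simp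
  map_mul' a b := by
    ext <;> simp [TrivSqZeroExt.algebraMap_eq_inl, Algebra.smul_def, mul_comm]
  map_add' a b := by
    ext <;> simp

theorem eval₂_toDual (D : Derivation k F E) (x c : E) (f : F[X]) :
    f.eval₂ (toDual D) (inl x + inr c) =
      inl (aeval x f) + inr (phi (k := k) x f D + aeval x (derivative f) * c) := by
  induction f using Polynomial.induction_on' with
  | add p q hp hq =>
    have hadd : phi (k := k) x (p + q) D = phi (k := k) x p D + phi (k := k) x q D := by
      exact Polynomial.sum_add_index p q (fun n a => D a * x ^ n) (by simp) (by intros; rw [map_add, add_mul])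
    rw [eval₂_add, hp, hq, hadd, map_add, map_add, map_add, inl_add, add_mul]
    ext
    · simp
    · simp
      abel
  | monomial n a =>
    have hphi : phi (k := k) x (monomial n a) D = D a * x ^ n := by
      exact Polynomial.sum_monomial_index a (fun n a => D a * x ^ n) (by simp)
    rw [eval₂_monomial, hphi, derivative_monomial, aeval_monomial, aeval_monomial]
    ext
    · simp [toDual, fst_pow]
    · simp [toDual, snd_pow, fst_pow, mul_comm]
      ring

/-- Extension of a derivation to a simple extension. -/
theorem exists_extend {x : E} (hx : IsIntegral F x) (D : Derivation k F E) (c : E)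
    (h : phi (k := k) x (minpoly F x) D + aeval x (derivative (minpoly F x)) * c = 0) :
    ∃ D' : Derivation k F⟮x⟯ E, (∀ a : F, D' (algebraMap F F⟮x⟯ a) = D a) ∧
      D' ⟨x, IntermediateField.mem_adjoin_simple_self F x⟩ = c := by
  let z : DualNumber E := inl x + inr c
  have hz : (minpoly F x).eval₂ (toDual D) z = 0 := by
    rw [eval₂_toDual, h, minpoly.aeval]
    simp
  let e := IntermediateField.adjoinRootEquivAdjoin F hx
  let ψ : F⟮x⟯ →+* DualNumber E :=
    (AdjoinRoot.lift (toDual D) z hz).comp (e.symm : F⟮x⟯ ≃+* AdjoinRoot (minpoly F x)).toRingHom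
  have hψF : ∀ a : F, ψ (algebraMap F F⟮x⟯ a) = toDual D a := fun a => by
    show AdjoinRoot.lift (toDual D) z hz (e.symm (algebraMap F F⟮x⟯ a)) = _
    rw [AlgEquiv.commutes, AdjoinRoot.algebraMap_eq, AdjoinRoot.lift_of]
  have hψx : ψ ⟨x, IntermediateField.mem_adjoin_simple_self F x⟩ = z := by
    show AdjoinRoot.lift (toDual D) z hz (e.symm (IntermediateField.AdjoinSimple.gen F x)) = _
    rw [← IntermediateField.adjoinRootEquivAdjoin_apply_root F hx, AlgEquiv.symm_apply_apply,
      AdjoinRoot.lift_root]
  have hfst : ∀ y : F⟮x⟯, (ψ y).fst = (y : E) := by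
    intro y
    obtain ⟨w, rfl⟩ := e.surjective y
    induction w using AdjoinRoot.induction_on with
    | ih g =>
      show (AdjoinRoot.lift (toDual D) z hz (e.symm (e (AdjoinRoot.mk _ g)))).fst = _
      rw [AlgEquiv.symm_apply_apply, AdjoinRoot.lift_mk, eval₂_toDual]
      have : ((e (AdjoinRoot.mk (minpoly F x) g) : F⟮x⟯) : E) = aeval x g := by
        rw [← AdjoinRoot.aeval_eq, ← Polynomial.aeval_algHom_apply,
          IntermediateField.adjoinRootEquivAdjoin_apply_root]
        exact (Polynomial.aeval_algHom_apply (IntermediateField.val F⟮x⟯) _ g).symm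
      rw [this]
      simp
  have hk : ∀ a : k, ψ (algebraMap k F⟮x⟯ a) = inl (algebraMap k E a) := fun a => by
    rw [IsScalarTower.algebraMap_apply k F F⟮x⟯, hψF]
    ext
    · simp [toDual, ← IsScalarTower.algebraMap_apply]
    · simp [toDual]
  refine ⟨Derivation.mk'
    { toFun := fun y => (ψ y).snd
      map_add' := fun a b => by rw [map_add]; rfl
      map_smul' := fun a y => by
        rw [Algebra.smul_def, map_mul, hk, RingHom.id_apply, snd_mul]
        simp [Algebra.smul_def] }
    (fun a b => by
      show (ψ (a * b)).snd = _
      rw [map_mul, snd_mul, hfst, hfst]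
      simp [IntermediateField.smul_def, mul_comm]), fun a => ?_, ?_⟩
  · show (ψ _).snd = _
    rw [hψF]
    simp [toDual]
  · show (ψ _).snd = _
    rw [hψx]
    simp [z]

theorem step {r : ℕ} {x : E} (hx : IsIntegral F x) (D : Fin r → Derivation k F E)
    (hD : LinearIndependent E D) :
    ∃ D' : Fin r → Derivation k F⟮x⟯ E, LinearIndependent E D' ∧
      ∀ i, (D' i).compAlgebraMap F ∈ Submodule.span E (Set.range D) := by
  by_cases hf : aeval x (derivative (minpoly F x)) = 0
  · let Λ : (Fin r → E) →ₗ[E] E := (phi (k := k) x (minpoly F x)) ∘ₗ Fintype.linearCombination E D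
    obtain ⟨Dinf, hDinfF, hDinfx⟩ := exists_extend hx (0 : Derivation k F E) 1 (by rw [map_zero, hf]; simp)
    cases r with
    | zero => exact ⟨Fin.elim0, linearIndependent_empty_type, fun i => i.elim0⟩
    | succ r =>
      have hker : r ≤ Module.finrank E (LinearMap.ker Λ) := by
        have h1 := Λ.finrank_range_add_finrank_ker
        rw [Module.finrank_fin_fun] at h1
        have h2 := Submodule.finrank_le (LinearMap.range Λ)
        rw [Module.finrank_self] at h2
        omega
      obtain ⟨v, hv⟩ := exists_linearIndependent_of_le_finrank hker
      choose D' hD' hD'x using fun j => exists_extend hx (Fintype.linearCombination E D (v j : Fin (r + 1) → E)) 0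
        (by
          have h1 : Λ (v j : Fin (r + 1) → E) = 0 := (v j).2
          rw [mul_zero, add_zero]
          exact h1)
      refine ⟨Fin.snoc D' Dinf, ?_, ?_⟩
      · rw [Fintype.linearIndependent_iff]
        intro g hg
        rw [Fin.sum_univ_castSucc] at hg
        simp only [Fin.snoc_castSucc, Fin.snoc_last] at hg
        have hvi : LinearIndependent E (fun j => Fintype.linearCombination E D (v j : Fin (r + 1) → E)) := by
          refine (hv.map' (LinearMap.ker Λ).subtype (Submodule.ker_subtype _)).map' (Fintype.linearCombination E D) ?_
          exact LinearMap.ker_eq_bot.mpr hD.fintypeLinearCombination_injective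
        have hrest : ∀ j, g (Fin.castSucc j) = 0 := by
          refine Fintype.linearIndependent_iff.mp hvi (fun j => g (Fin.castSucc j)) ?_
          ext a
          have h1 := congrArg (fun D => D (algebraMap F F⟮x⟯ a)) hg
          simp only [Derivation.add_apply, Derivation.coe_smul, Pi.smul_apply, Derivation.coe_zero,
            Pi.zero_apply, hDinfF, smul_zero, add_zero] at h1
          rw [← Derivation.coeFnAddMonoidHom_apply, map_sum, Finset.sum_apply] at h1 ⊢
          simpa [hD'] using h1
        have hlast : g (Fin.last r) = 0 := by
          simp only [hrest, zero_smul, Finset.sum_const_zero, zero_add] at hg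
          have h1 := congrArg (fun D => D ⟨x, IntermediateField.mem_adjoin_simple_self F x⟩) hg
          simpa [hDinfx] using h1
        intro i
        induction i using Fin.lastCases with
        | last => exact hlast
        | cast j => exact hrest j
      · intro i
        induction i using Fin.lastCases with
        | last =>
          rw [Fin.snoc_last, show Dinf.compAlgebraMap F = 0 from Derivation.ext fun a => hDinfF a]
          exact zero_mem _
        | cast j =>
          rw [Fin.snoc_castSucc,
            show (D' j).compAlgebraMap F = Fintype.linearCombination E D (v j : Fin (r + 1) → E) from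
              Derivation.ext fun a => hD' j a,
            ← Fintype.range_linearCombination E D]
          exact ⟨_, rfl⟩
  · choose D' hD' using fun i => exists_extend hx (D i)
      (-(phi (k := k) x (minpoly F x) (D i)) / aeval x (derivative (minpoly F x))) (by
        rw [mul_div_cancel₀ _ hf, add_neg_cancel])
    refine ⟨D', ?_, fun i => ?_⟩
    · rw [Fintype.linearIndependent_iff]
      intro g hg
      refine Fintype.linearIndependent_iff.mp hD g ?_
      ext a
      have h1 := congrArg (fun D => D (algebraMap F F⟮x⟯ a)) hg
      rw [← Derivation.coeFnAddMonoidHom_apply, map_sum, Finset.sum_apply] at h1 ⊢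
      simpa [(hD' _).1] using h1
    · rw [show (D' i).compAlgebraMap F = D i from Derivation.ext fun a => (hD' i).1 a]
      exact Submodule.subset_span ⟨i, rfl⟩

theorem exists_derivations [FiniteDimensional F E] {r : ℕ} (d : Fin r → Derivation k F E)
    (hd : LinearIndependent E d) :
    ∃ D : Fin r → Derivation k E E, LinearIndependent E D ∧
      ∀ i, (D i).compAlgebraMap F ∈ Submodule.span E (Set.range d) := by
  let Q : IntermediateField F E → Prop := fun K =>
    ∃ D : Fin r → Derivation k K E, LinearIndependent E D ∧
      ∀ i, (D i).compAlgebraMap F ∈ Submodule.span E (Set.range d)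
  have hQ : Q ⊤ := by
    refine IntermediateField.induction_on_adjoin Q ?_ ?_ ⊤
    · let b := IntermediateField.botEquiv F E
      have hb : ∀ y : (⊥ : IntermediateField F E), algebraMap F E (b y) = (y : E) := fun y => by
        obtain ⟨a, rfl⟩ := b.symm.surjective y
        rw [AlgEquiv.apply_symm_apply, IntermediateField.botEquiv_symm]
        rfl
      have hex : ∀ i, ∃ D : Derivation k (⊥ : IntermediateField F E) E, ∀ y, D y = d i (b y) := fun i =>
        ⟨Derivation.mk' ((d i).toLinearMap ∘ₗ (b.toLinearEquiv.restrictScalars k).toLinearMap) (fun y z => by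
          show d i (b (y * z)) = y • d i (b z) + z • d i (b y)
          rw [map_mul, Derivation.leibniz, IntermediateField.smul_def, IntermediateField.smul_def,
            Algebra.smul_def, Algebra.smul_def, hb, hb]
          rfl), fun _ => rfl⟩
      choose D hD using hex
      refine ⟨D, ?_, fun i => ?_⟩
      · rw [Fintype.linearIndependent_iff]
        intro g hg
        refine Fintype.linearIndependent_iff.mp hd g ?_
        ext a
        have h1 := congrArg (fun D => D (b.symm a)) hg
        rw [← Derivation.coeFnAddMonoidHom_apply, map_sum, Finset.sum_apply] at h1 ⊢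
        simpa [hD] using h1
      · rw [show (D i).compAlgebraMap F = d i from Derivation.ext fun a => by
          show D i (algebraMap F _ a) = _
          rw [hD, AlgEquiv.commutes]; rfl]
        exact Submodule.subset_span ⟨i, rfl⟩
    · intro K x hK
      have : IsScalarTower k K E := IsScalarTower.of_algebraMap_eq fun _ => rfl
      obtain ⟨D, hD, hDd⟩ := hK
      have : FiniteDimensional K E := Module.Finite.of_restrictScalars_finite F K E
      obtain ⟨D', hD', hD'D⟩ := step (IsIntegral.of_finite K x) D hD
      refine ⟨D', hD', fun i => ?_⟩
      let res : Derivation k K E →ₗ[E] Derivation k F E :=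
        { toFun := fun D => D.compAlgebraMap F, map_add' := fun _ _ => rfl, map_smul' := fun _ _ => rfl }
      have h1 : res ((D' i).compAlgebraMap K) ∈ (Submodule.span E (Set.range D)).map res :=
        ⟨_, hD'D i, rfl⟩
      have h2 : (Submodule.span E (Set.range D)).map res ≤ Submodule.span E (Set.range d) := by
        rw [Submodule.map_span, Submodule.span_le]
        rintro _ ⟨_, ⟨j, rfl⟩, rfl⟩
        exact hDd j
      exact h2 h1
  obtain ⟨D, hD, hDd⟩ := hQ
  let t : E →ₐ[F] (⊤ : IntermediateField F E) := IntermediateField.topEquiv.symm.toAlgHom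
  have hex : ∀ i, ∃ D' : Derivation k E E, ∀ y, D' y = D i (t y) := fun i =>
    ⟨Derivation.mk' ((D i).toLinearMap ∘ₗ (t.toLinearMap.restrictScalars k)) (fun y z => by
      show D i (t (y * z)) = y • D i (t z) + z • D i (t y)
      rw [map_mul, Derivation.leibniz]
      rfl), fun _ => rfl⟩
  choose D' hD' using hex
  refine ⟨D', ?_, fun i => ?_⟩
  · rw [Fintype.linearIndependent_iff]
    intro g hg
    refine Fintype.linearIndependent_iff.mp hD g ?_
    ext a
    have h1 := congrArg (fun D => D (a : E)) hg
    rw [← Derivation.coeFnAddMonoidHom_apply, map_sum, Finset.sum_apply] at h1 ⊢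
    simp only [Derivation.coeFnAddMonoidHom_apply, Derivation.coe_smul, Pi.smul_apply, hD'] at h1 ⊢
    exact h1
  · rw [show (D' i).compAlgebraMap F = (D i).compAlgebraMap F from Derivation.ext fun a => by
      show D' i (algebraMap F E a) = D i (algebraMap F _ a)
      rw [hD', AlgHom.commutes]]
    exact hDd i

end Groth.Agent.DerExt61.Field
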