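import Groth.Agent.CohenStruct16.FrobSubring
import Groth.Agent.EGA41Lib.PSJacobian
import Mathlib

/-!
# Derivations of `K[[T]]` over the subrings `κ[[T^p]]`
-/

set_option autoImplicit false
set_option linter.style.haveILetI false
universe u

open MvPowerSeries

noncomputable section

namespace Groth.Agent.DerExt61.FrobDer

open CohenStruct16.FrobSubring

variable (p : ℕ) [hp : Fact p.Prime] {K : Type u} [Field K] [CharP K p] {r : ℕ}

theorem pow_mem_sub {κ : Subfield K} (hκ : ∀ c : K, c ^ p ∈ κ) (g : MvPowerSeries (Fin r) K) :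
    g ^ p ∈ sub p κ r := by
  haveI : ExpChar K p := ExpChar.prime hp.out
  refine (mem_sub p).mpr ⟨fun n => ?_, fun n i hn => ?_⟩
  · rw [← map_frobenius_expand p hp.out.ne_zero, coeff_map, frobenius_def]
    exact hκ _
  · rw [← map_frobenius_expand p hp.out.ne_zero, coeff_map, coeff_expand_of_not_dvd p hp.out.ne_zero _ hn, map_zero]

omit [CharP K p] in
theorem C_mem_sub {κ : Subfield K} {c : K} (hc : c ∈ κ) : (C c : MvPowerSeries (Fin r) K) ∈ sub p κ r := by
  classical
  refine (mem_sub p).mpr ⟨fun n => ?_, fun n i hn => ?_⟩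
  · rw [coeff_C]; split
    · exact hc
    · exact zero_mem _
  · rw [coeff_C, if_neg]
    rintro rfl
    exact hn (by simp)

/-- A finite `p`-basis of `K` over `κ` with its dual derivations. -/
structure Coord (κ : Subfield K) where
  δ : ℕ
  b : Fin δ → K
  d : Fin δ → (K →+ K)
  leib : ∀ m a c, d m (a * c) = a * d m c + c * d m a
  kill : ∀ m, ∀ c ∈ κ, d m c = 0
  dual : ∀ m n, d m (b n) = if m = n then 1 else 0
  adjoin : Algebra.adjoin κ (Set.range b) = ⊤

theorem exists_coord (κ : Subfield K) (hκ : ∀ c : K, c ^ p ∈ κ) [Module.Finite κ K] : Nonempty (Coord κ) := by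
  classical
  obtain ⟨B, hB⟩ := PBasis.Field.exists_isPBasis p κ K
  obtain ⟨bΩ, hbΩ⟩ := PBasis.Basic.exists_kaehler_basis p _ hB
  haveI : Finite B := Module.Finite.finite_basis bΩ
  haveI := Fintype.ofFinite B
  let e := Fintype.equivFin B
  refine ⟨{
    δ := Fintype.card B
    b := fun m => (e.symm m : K)
    d := fun m => ((bΩ.coord (e.symm m)).compDer (KaehlerDifferential.D κ K)).toLinearMap.toAddMonoidHom
    leib := fun m a c => ((bΩ.coord (e.symm m)).compDer (KaehlerDifferential.D κ K)).leibniz a c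
    kill := fun m c hc => ((bΩ.coord (e.symm m)).compDer (KaehlerDifferential.D κ K)).map_algebraMap ⟨c, hc⟩
    dual := fun m n => by
      show bΩ.coord (e.symm m) (KaehlerDifferential.D κ K (e.symm n : K)) = _
      rw [← hbΩ, Module.Basis.coord_apply, Module.Basis.repr_self, Finsupp.single_apply]
      simp [eq_comm]
    adjoin := ?_ }⟩
  have h1 := (PBasis.Basic.isPGenerating_iff_adjoin p _).mp hB.2
  rw [eq_top_iff]
  intro x hxtop
  clear hxtop
  have hx : x ∈ Algebra.adjoin (EGA41.pPowerSubalgebra p κ K) (Set.range (Subtype.val : B → K)) := by rw [h1]; trivial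
  induction hx using Algebra.adjoin_induction with
  | mem y hy =>
    obtain ⟨z, rfl⟩ := hy
    exact Algebra.subset_adjoin ⟨e z, by simp⟩
  | algebraMap s =>
    have hs : ∀ y ∈ EGA41.pPowerSubalgebra p κ K, y ∈ κ := fun y hy => by
      induction hy using Algebra.adjoin_induction with
      | mem y hy => obtain ⟨z, rfl⟩ := hy; exact hκ z
      | algebraMap t => exact t.2
      | add a b _ _ ha hb => exact add_mem ha hb
      | mul a b _ _ ha hb => exact mul_mem ha hb
    exact Subalgebra.algebraMap_mem _ (⟨(s : K), hs _ s.2⟩ : κ)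
  | add a b _ _ ha hb => exact add_mem ha hb
  | mul a b _ _ ha hb => exact mul_mem ha hb

variable {κ : Subfield K}

/-- The variables and the `p`-basis. -/
def gen (B : Coord κ) : Fin r ⊕ Fin B.δ → MvPowerSeries (Fin r) K := Sum.elim X fun m => C (B.b m)

/-- Dual derivations. -/
def der (B : Coord κ) : Fin r ⊕ Fin B.δ → Derivation ℤ (MvPowerSeries (Fin r) K) (MvPowerSeries (Fin r) K) :=
  Sum.elim (fun i => (pderiv K i).restrictScalars ℤ) fun m => EGA41Lib.PSJacobian.coeffDer (B.d m) (B.leib m)

theorem der_sub (B : Coord κ) (x : Fin r ⊕ Fin B.δ) {f : MvPowerSeries (Fin r) K} (hf : f ∈ sub p κ r) :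
    der B x f = 0 := by
  rcases x with i | m
  · exact eq_zero_pderiv p hf i
  · ext n
    exact B.kill m _ (((mem_sub p).mp hf).1 n)

omit hp [CharP K p] in
theorem der_gen (B : Coord κ) (x y : Fin r ⊕ Fin B.δ) : der B x (gen B y) = if x = y then 1 else 0 := by
  classical
  rcases x with i | m <;> rcases y with j | n
  · show pderiv K i (X j) = _
    by_cases h : i = j
    · subst h; simp
    · rw [pderiv_X_of_ne (Ne.symm h), if_neg (fun e => h (Sum.inl.inj e))]
  · show pderiv K i (C (B.b n)) = _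
    simp
  · show EGA41Lib.PSJacobian.coeffDer (B.d m) (B.leib m) (X j) = _
    rw [if_neg Sum.inr_ne_inl]
    ext n
    show B.d m (coeff n (X j : MvPowerSeries (Fin r) K)) = _
    rw [coeff_X]
    split
    · have h1 := B.leib m 1 1
      simp only [mul_one, one_mul] at h1
      simpa using h1
    · simp
  · show EGA41Lib.PSJacobian.coeffDer (B.d m) (B.leib m) (C (B.b n)) = _
    rw [EGA41Lib.PSJacobian.coeffDer_C, B.dual]
    by_cases h : m = n <;> simp [h]

set_option maxHeartbeats 800000 in
omit [CharP K p] in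
/-- `K[[T]]` is generated over `κ[[T^p]]` by the variables and the `p`-basis. -/
theorem mem_of_gen [Module.Finite κ K] (B : Coord κ) (T : Subring (MvPowerSeries (Fin r) K))
    (hsub : sub p κ r ≤ T) (hgen : ∀ x, gen B x ∈ T) (f : MvPowerSeries (Fin r) K) : f ∈ T := by
  classical
  let a := Module.finBasis κ K
  have hC : ∀ c : K, (C c : MvPowerSeries (Fin r) K) ∈ T := fun c => by
    have hc : c ∈ Algebra.adjoin κ (Set.range B.b) := by rw [B.adjoin]; trivial
    induction hc using Algebra.adjoin_induction with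
    | mem y hy => obtain ⟨m, rfl⟩ := hy; exact hgen (Sum.inr m)
    | algebraMap s => exact hsub (C_mem_sub p s.2)
    | add y z _ _ hy hz => rw [map_add]; exact T.add_mem hy hz
    | mul y z _ _ hy hz => rw [map_mul]; exact T.mul_mem hy hz
  let ev : (Fin r → Fin p) → (Fin r →₀ ℕ) := fun e => Finsupp.equivFunOnFinite.symm fun i => (e i : ℕ)
  have hmon : ∀ (e : Fin r → Fin p) (c : K), monomial (ev e) c ∈ T := fun e c => by
    rw [monomial_eq' (ev e)]
    exact T.mul_mem (hC c) (prod_mem fun i _ => pow_mem (hgen (Sum.inl i)) _)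
  let c : (Fin r → Fin p) → Fin (Module.finrank κ K) → MvPowerSeries (Fin r) κ :=
    fun e j m => a.repr (coeff (p • m + ev e) f) j
  suffices h : f = ∑ e, ∑ j, incl p κ r (c e j) * monomial (ev e) (a j) by
    rw [h]
    exact sum_mem fun e _ => sum_mem fun j _ => T.mul_mem (hsub ⟨_, rfl⟩) (hmon e _)
  ext n
  let e₀ : Fin r → Fin p := fun i => ⟨n i % p, Nat.mod_lt _ hp.out.pos⟩
  let m₀ : Fin r →₀ ℕ := n.mapRange (· / p) (Nat.zero_div p)
  have hn : p • m₀ + ev e₀ = n := by ext i; simp [m₀, ev, e₀, Nat.div_add_mod]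
  rw [map_sum, Finset.sum_eq_single e₀]
  · rw [map_sum, ← hn]
    conv_lhs => rw [← a.sum_repr (coeff (p • m₀ + ev e₀) f)]
    refine Finset.sum_congr rfl fun j _ => ?_
    rw [coeff_mul_monomial, if_pos (le_add_of_nonneg_left zero_le), add_tsub_cancel_right, coeff_incl]
    rfl
  · intro e _ he
    rw [map_sum]
    refine Finset.sum_eq_zero fun j _ => ?_
    rw [coeff_mul_monomial]
    split
    · rename_i hle
      obtain ⟨i, hi⟩ := Function.ne_iff.mp he
      rw [coeff_incl_of_not_dvd p κ _ (i := i) ?_, zero_mul]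
      intro ⟨d, hd⟩
      have hle' := hle i
      simp only [ev, Finsupp.tsub_apply, Finsupp.coe_equivFunOnFinite_symm] at hd hle'
      refine hi (Fin.ext ?_)
      show (e i : ℕ) = n i % p
      have h1 : n i = p * d + e i := by omega
      rw [h1, Nat.mul_add_mod, Nat.mod_eq_of_lt (e i).2]
    · rfl
  · exact fun h => absurd (Finset.mem_univ _) h

omit [CharP K p] in
/-- `κ[[T^p]]` is closed. -/
theorem mem_sub_of_approx {f : MvPowerSeries (Fin r) K}
    (h : ∀ N : ℕ, ∃ g ∈ sub p κ r, f - g ∈ IsLocalRing.maximalIdeal (MvPowerSeries (Fin r) K) ^ N) :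
    f ∈ sub p κ r := by
  have key : ∀ n : Fin r →₀ ℕ, ∃ g ∈ sub p κ r, coeff n f = coeff n g := by
    intro n
    obtain ⟨g, hg, hfg⟩ := h (n.degree + 1)
    refine ⟨g, hg, sub_eq_zero.mp ?_⟩
    rw [← map_sub]
    have hle : ((n.degree + 1 : ℕ) : ℕ∞) ≤ (f - g).order := by
      have : ∀ (N : ℕ) (x : MvPowerSeries (Fin r) K), x ∈ IsLocalRing.maximalIdeal _ ^ N → (N : ℕ∞) ≤ x.order := by
        intro N
        induction N with
        | zero => exact fun x _ => by simp
        | succ N ih =>
          intro x hx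
          rw [pow_succ] at hx
          refine Submodule.mul_induction_on hx (fun y hy z hz => ?_) fun y z hy hz => ?_
          · refine le_trans ?_ le_order_mul
            rw [Nat.cast_succ]
            refine add_le_add (ih y hy) ?_
            refine le_order fun d hd => ?_
            have hd0 : d = 0 := by
              rw [← Finsupp.degree_eq_zero_iff]
              exact Nat.lt_one_iff.mp (by exact_mod_cast hd)
            subst hd0
            rw [coeff_zero_eq_constantCoeff_apply]
            by_contra hne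
            exact (IsLocalRing.mem_maximalIdeal _).mp hz (isUnit_iff_constantCoeff.mpr (isUnit_iff_ne_zero.mpr hne))
          · exact le_trans (le_min hy hz) min_order_le_add
      exact this _ _ hfg
    exact coeff_of_lt_order (lt_of_lt_of_le (by exact_mod_cast Nat.lt_succ_self _) hle)
  refine (mem_sub p).mpr ⟨fun n => ?_, fun n i hn => ?_⟩ <;>
    obtain ⟨g, hg, hfg⟩ := key n <;> rw [hfg]
  · exact ((mem_sub p).mp hg).1 n
  · exact ((mem_sub p).mp hg).2 n i hn

/-- A series lying in all `κ_j((T^p))` is a `p`-th power. -/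
theorem exists_pow_eq {J : Type*} [Nonempty J] (κf : J → Subfield K) (hκ : ∀ j, ∀ c : K, c ^ p ∈ κf j)
    (hcap : ∀ c : K, (∀ j, c ∈ κf j) → ∃ b, b ^ p = c) (x : FractionRing (MvPowerSeries (Fin r) K))
    (hx : ∀ j, x ∈ Subfield.closure (algebraMap (MvPowerSeries (Fin r) K) (FractionRing (MvPowerSeries (Fin r) K)) ''
      (sub p (κf j) r))) : ∃ y, y ^ p = x := by
  classical
  set P := MvPowerSeries (Fin r) K
  have hinj := IsFractionRing.injective P (FractionRing P)
  obtain ⟨f, g, hg, rfl⟩ := IsFractionRing.div_surjective (A := P) x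
  have hg0 : g ≠ 0 := nonZeroDivisors.ne_zero hg
  have hG0 : g ^ p ≠ 0 := pow_ne_zero _ hg0
  set h := f * g ^ (p - 1)
  have e1 : g ^ p = g * g ^ (p - 1) := by rw [← pow_succ', Nat.sub_add_cancel hp.out.one_le]
  have hg0' : algebraMap P (FractionRing P) g ≠ 0 := (map_ne_zero_iff _ hinj).mpr hg0
  have hx' : algebraMap P (FractionRing P) f / algebraMap _ _ g = algebraMap _ _ h / algebraMap _ _ (g ^ p) := by
    simp only [h, e1, map_mul]
    rw [mul_div_mul_right _ _ (by rw [map_pow]; exact pow_ne_zero _ hg0')]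
  rw [hx'] at hx ⊢
  have hh : ∀ j, h ∈ sub p (κf j) r := fun j => by
    obtain ⟨y, hy, z, hz, hyz⟩ := Subfield.mem_closure_iff.mp (hx j)
    rw [← RingHom.map_closure, Subring.closure_eq] at hy hz
    obtain ⟨a, ha, rfl⟩ := Subring.mem_map.mp hy
    obtain ⟨b, hb, rfl⟩ := Subring.mem_map.mp hz
    rcases eq_or_ne b 0 with rfl | hb0
    · rw [map_zero, div_zero, eq_comm, div_eq_zero_iff, map_eq_zero_iff _ hinj, map_eq_zero_iff _ hinj] at hyz
      rw [hyz.resolve_right hG0]; exact zero_mem _
    · rw [eq_comm, div_eq_div_iff ((map_ne_zero_iff _ hinj).mpr hG0) ((map_ne_zero_iff _ hinj).mpr hb0),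
        ← map_mul, ← map_mul] at hyz
      exact mem_sub_of_mul_mem p hb hb0 (hinj hyz ▸ mul_mem ha (pow_mem_sub p (hκ j) g))
  obtain ⟨j₀⟩ := (inferInstance : Nonempty J)
  choose c hc using fun n => hcap (coeff (p • n) h) fun j => ((mem_sub p).mp (hh j)).1 _
  haveI : ExpChar K p := ExpChar.prime hp.out
  let q : P := fun m => c m
  have hq : q ^ p = h := by
    ext n
    rw [← map_frobenius_expand p hp.out.ne_zero, coeff_map]
    by_cases hn : ∀ i, p ∣ n i
    · rw [← eq_smul_of_dvd p hn, coeff_expand_smul, frobenius_def]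
      exact hc _
    · obtain ⟨i, hi⟩ := not_forall.mp hn
      rw [coeff_expand_of_not_dvd p hp.out.ne_zero _ hi, map_zero, ((mem_sub p).mp (hh j₀)).2 n i hi]
  exact ⟨algebraMap P (FractionRing P) q / algebraMap _ _ g, by rw [div_pow, ← map_pow, hq, map_pow]⟩

end Groth.Agent.DerExt61.FrobDer
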