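import Groth.Agent.DerExt61.Etale
import Groth.Agent.FieldSep.Cartier
import Groth.Agent.CohenStruct16.FrobSubring
import Groth.Agent.S11553
import Groth.Agent.S4573
import Mathlib

/-!
# Completed differentials at a geometrically regular point
-/

set_option autoImplicit false

noncomputable section

universe u

open IsLocalRing TensorProduct

namespace Groth.Agent.DerExt61.GeomReg

-- one canonical `ℤ`-algebra structure
attribute [local instance 2000] Ring.toIntAlgebra

/-- Derivations extend to localisations. -/
theorem exists_extension {k : Type*} {B S K : Type u} [CommRing k] [CommRing B] [Algebra k B] [CommRing S]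
    [Algebra B S] [Algebra k S] [IsScalarTower k B S] (M : Submonoid B) [IsLocalization M S] [CommRing K]
    [Algebra k K] [Algebra B K] [Algebra S K] [IsScalarTower B S K] [IsScalarTower k B K] [IsScalarTower k S K]
    (δ : Derivation k B K) :
    ∃ E : Derivation k S K, ∀ b, E (algebraMap B S b) = δ b := by
  have : Algebra.FormallyEtale B S := Algebra.FormallyEtale.of_isLocalization M
  let e := KaehlerDifferential.tensorKaehlerEquivOfFormallyEtale k B S
  let Φ : TensorProduct B S (KaehlerDifferential k B) →ₗ[S] K :=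
    LinearMap.liftBaseChange S δ.liftKaehlerDifferential
  refine ⟨(Φ ∘ₗ e.symm.toLinearMap).compDer (KaehlerDifferential.D k S), fun b => ?_⟩
  show Φ (e.symm (KaehlerDifferential.D k S (algebraMap B S b))) = _
  rw [show e.symm (KaehlerDifferential.D k S (algebraMap B S b)) =
      TensorProduct.tmul B (1 : S) (KaehlerDifferential.D k B b) from
    (LinearEquiv.symm_apply_eq e).mpr (by simp [e, KaehlerDifferential.tensorKaehlerEquivOfFormallyEtale_apply])]
  rw [LinearMap.liftBaseChange_tmul, one_smul, Derivation.liftKaehlerDifferential_comp_D]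

/-- Derivations into a field extension are functionals on differentials. -/
def derEquiv (R B K : Type*) [CommRing R] [CommRing B] [Algebra R B] [CommRing K] [Algebra B K] [Algebra R K]
    [IsScalarTower R B K] : (KaehlerDifferential R B →ₗ[B] K) ≃ₗ[K] Derivation R B K :=
  { (KaehlerDifferential.linearMapEquivDerivation R B : (KaehlerDifferential R B →ₗ[B] K) ≃ₗ[B] _) with
    map_smul' := fun c f => by ext; rfl }

theorem finrank_der (B K : Type*) [Field B] [Field K] [Algebra B K]
    [FiniteDimensional B (KaehlerDifferential ℤ B)] :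
    FiniteDimensional K (Derivation ℤ B K) ∧
      Module.finrank K (Derivation ℤ B K) = Module.finrank B (KaehlerDifferential ℤ B) := by
  have : IsScalarTower ℤ B K := IsScalarTower.of_algebraMap_eq fun x => (map_intCast (algebraMap B K) x).symm
  exact ⟨Module.Finite.equiv (derEquiv ℤ B K), by
    rw [← (derEquiv ℤ B K).finrank_eq, Module.finrank_linearMap, Module.finrank_self, mul_one]⟩

/-- The height of `P` and the dimension of `A ⧸ P` add up to at most the dimension of a component. -/
theorem height_add_le {A : Type u} [CommRing A] (P q : Ideal A) [P.IsPrime] (hq : q ∈ minimalPrimes A)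
    (hqP : q ≤ P) [IsDomain (Localization.AtPrime P)] :
    (P.height : WithBot ℕ∞) + ringKrullDim (A ⧸ P) ≤ ringKrullDim (A ⧸ q) := by
  have : q.IsPrime := hq.1.1
  have hall : ∀ p' : Ideal A, p'.IsPrime → p' ≤ P → q ≤ p' := by
    intro p' hp' hle
    have h1 : RingHom.ker (algebraMap A (Localization.AtPrime P)) ≤ p' := fun b hb => by
      obtain ⟨s, hs⟩ := (IsLocalization.map_eq_zero_iff P.primeCompl _ b).mp hb
      exact (hp'.mem_or_mem (by rw [hs]; exact p'.zero_mem)).resolve_left fun h => s.2 (hle h)
    have h2 : RingHom.ker (algebraMap A (Localization.AtPrime P)) ≤ q := fun b hb => by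
      obtain ⟨s, hs⟩ := (IsLocalization.map_eq_zero_iff P.primeCompl _ b).mp hb
      exact (‹q.IsPrime›.mem_or_mem (by rw [hs]; exact q.zero_mem)).resolve_left fun h => s.2 (hqP h)
    exact (hq.2 ⟨RingHom.ker_isPrime _, bot_le⟩ h2).trans h1
  let π := Ideal.Quotient.mk q
  let Pb := P.map π
  have : Pb.IsPrime := Ideal.map_isPrime_of_surjective Ideal.Quotient.mk_surjective (by rwa [Ideal.mk_ker])
  have hh : P.height ≤ Pb.height := by
    show (⟨P, inferInstance⟩ : PrimeSpectrum A).asIdeal.height ≤ (⟨Pb, inferInstance⟩ : PrimeSpectrum (A ⧸ q)).asIdeal.height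
    rw [PrimeSpectrum.height_eq_orderHeight, PrimeSpectrum.height_eq_orderHeight]
    refine Order.height_le fun s hs => ?_
    have hle : ∀ i, (s i).asIdeal ≤ P := fun i => (s.monotone (Fin.le_last i)).trans (le_of_eq hs)
    have hmap : ∀ i, ((s i).asIdeal.map π).comap π = (s i).asIdeal := fun i => by
      rw [Ideal.comap_map_of_surjective' _ Ideal.Quotient.mk_surjective, Ideal.mk_ker,
        sup_eq_left.mpr (hall _ (s i).2 (hle i))]
    let t : LTSeries (PrimeSpectrum (A ⧸ q)) := LTSeries.mk s.length
      (fun i => ⟨(s i).asIdeal.map π, Ideal.map_isPrime_of_surjective Ideal.Quotient.mk_surjective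
        (by rw [Ideal.mk_ker]; exact hall _ (s i).2 (hle i))⟩)
      (fun i j hij => lt_of_le_of_ne (Ideal.map_mono (s.monotone hij.le)) fun h => by
        have h' := congrArg (fun x : PrimeSpectrum (A ⧸ q) => x.asIdeal.comap π) h
        simp only [hmap] at h'
        exact (s.strictMono hij).ne (PrimeSpectrum.ext h'))
    exact Order.length_le_height (p := t) (Ideal.map_mono (hle (Fin.last _)))
  have e : (A ⧸ q) ⧸ Pb ≃+* A ⧸ P :=
    (DoubleQuot.quotQuotEquivQuotSup q P).trans (Ideal.quotEquivOfEq (sup_eq_right.mpr hqP))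
  calc (P.height : WithBot ℕ∞) + ringKrullDim (A ⧸ P) ≤ Pb.height + ringKrullDim ((A ⧸ q) ⧸ Pb) :=
        add_le_add (WithBot.coe_le_coe.mpr hh) (ringKrullDim_eq_of_ringEquiv e).ge
    _ ≤ ringKrullDim (A ⧸ q) := S11553.height_add_dim_le Pb

variable {k A : Type u} [Field k] [CommRing A] [IsLocalRing A] [IsNoetherianRing A] [Algebra k A]
  [IsAdicComplete (maximalIdeal A) A] [Module.Finite k (ResidueField A)]

/-- The residue field at a prime is finite over a field of fractions of power series. -/
theorem exists_model (P : Ideal A) [P.IsPrime] :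
    ∃ (m : ℕ) (_ : Algebra (MvPowerSeries (Fin m) k) P.ResidueField)
      (_ : IsScalarTower k (MvPowerSeries (Fin m) k) P.ResidueField)
      (_ : Algebra (FractionRing (MvPowerSeries (Fin m) k)) P.ResidueField)
      (_ : IsScalarTower (MvPowerSeries (Fin m) k) (FractionRing (MvPowerSeries (Fin m) k)) P.ResidueField),
      FiniteDimensional (FractionRing (MvPowerSeries (Fin m) k)) P.ResidueField ∧
      ringKrullDim (A ⧸ P) = (m : WithBot ℕ∞) ∧
      (∃ x : Fin m → A, (∀ i, x i ∈ maximalIdeal A) ∧
        ∀ i, algebraMap (MvPowerSeries (Fin m) k) P.ResidueField (MvPowerSeries.X i) = algebraMap A P.ResidueField (x i)) ∧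
      ∀ f, ∃ a : A, algebraMap A P.ResidueField a = algebraMap (MvPowerSeries (Fin m) k) P.ResidueField f := by
  classical
  let B := A ⧸ P
  let E := P.ResidueField
  have : IsLocalRing B := IsLocalRing.of_surjective' (Ideal.Quotient.mk P) Ideal.Quotient.mk_surjective
  have : IsLocalHom (Ideal.Quotient.mk P) := IsLocalHom.of_surjective _ Ideal.Quotient.mk_surjective
  have : IsAdicComplete (maximalIdeal B) B := LocAlgCx.isAdicComplete_quotient P
  have : Module.Finite k (ResidueField B) :=
    Module.Finite.of_surjective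
      ({ toFun := ResidueField.map (Ideal.Quotient.mk P)
         map_add' := map_add _
         map_smul' := fun c x => by
          rw [Algebra.smul_def, map_mul, RingHom.id_apply, Algebra.smul_def]
          rfl } : ResidueField A →ₗ[k] ResidueField B)
      (fun x => by
        obtain ⟨b, rfl⟩ := residue_surjective x
        obtain ⟨a, rfl⟩ := Ideal.Quotient.mk_surjective b
        exact ⟨residue A a, rfl⟩)
  obtain ⟨m, w, hwinj, hwloc, hwfin⟩ := AdicFS.CompleteNoether.exists_finite_injective (k₀ := k) (A := B)
  let R := MvPowerSeries (Fin m) k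
  let _ : Algebra R B := w.toRingHom.toAlgebra
  have : Module.Finite R B := hwfin
  have : Algebra.IsIntegral R B := Algebra.IsIntegral.of_finite R B
  have hdim : ringKrullDim B = (m : WithBot ℕ∞) := by
    rw [InvQLib.FiniteFree.ringKrullDim_eq_of_integral R B hwinj, PSLoc.ringKrullDim_eq k m]
    try rfl
  let aR : Algebra R E := ((algebraMap B E).comp w.toRingHom).toAlgebra
  have : IsScalarTower R B E := IsScalarTower.of_algebraMap_eq fun _ => rfl
  have htk : IsScalarTower k R E := IsScalarTower.of_algebraMap_eq fun c => by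
    show _ = algebraMap B E (w (algebraMap k R c))
    rw [w.commutes, ← IsScalarTower.algebraMap_apply]
  have : FaithfulSMul R E := (faithfulSMul_iff_algebraMap_injective _ _).mpr
    ((IsFractionRing.injective B E).comp hwinj)
  let L₀ := FractionRing R
  let aL : Algebra L₀ E := FractionRing.liftAlgebra R E
  have htL : IsScalarTower R L₀ E := FractionRing.isScalarTower_liftAlgebra R E
  obtain ⟨N, b, hb⟩ := Module.Finite.exists_fin (R := R) (M := B)
  have hfd : FiniteDimensional L₀ E := by
    let S := Set.range fun j => algebraMap B E (b j)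
    have hint : ∀ x ∈ S, IsIntegral L₀ x := by
      rintro _ ⟨j, rfl⟩
      exact ((Algebra.IsIntegral.isIntegral (R := R) (b j)).map (IsScalarTower.toAlgHom R B E)).tower_top
    have := IntermediateField.finiteDimensional_adjoin (K := L₀) (S := S) hint
    have htop : IntermediateField.adjoin L₀ S = ⊤ := by
      rw [eq_top_iff]
      intro x _
      have hB : ∀ y : B, algebraMap B E y ∈ IntermediateField.adjoin L₀ S := fun y => by
        obtain ⟨c, rfl⟩ := (Submodule.mem_span_range_iff_exists_fun R).mp (hb.ge (Submodule.mem_top (x := y)))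
        rw [map_sum]
        refine sum_mem fun j _ => ?_
        rw [Algebra.smul_def, map_mul, ← IsScalarTower.algebraMap_apply R B E, IsScalarTower.algebraMap_apply R L₀ E]
        exact mul_mem (IntermediateField.algebraMap_mem _ _) (IntermediateField.subset_adjoin _ _ ⟨j, rfl⟩)
      obtain ⟨a, s, -, rfl⟩ := IsFractionRing.div_surjective (A := B) x
      exact div_mem (hB a) (hB s)
    rw [htop] at this
    exact Module.Finite.equiv (IntermediateField.topEquiv (F := L₀) (E := E)).toLinearEquiv
  choose x hx using fun i => Ideal.Quotient.mk_surjective (w (MvPowerSeries.X i))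
  refine ⟨m, aR, htk, aL, htL, hfd, hdim, ⟨x, fun i => ?_, fun i => ?_⟩, fun f => ?_⟩
  · rw [mem_maximalIdeal]
    intro hu
    have h1 : IsUnit (w (MvPowerSeries.X i)) := hx i ▸ hu.map (Ideal.Quotient.mk P)
    have h2 : IsUnit (MvPowerSeries.X i : R) := (isUnit_map_iff w.toRingHom _).mp h1
    rw [MvPowerSeries.isUnit_iff_constantCoeff, MvPowerSeries.constantCoeff_X] at h2
    exact not_isUnit_zero h2
  · show algebraMap B E (w (MvPowerSeries.X i)) = _
    rw [← hx i]
    rfl
  · obtain ⟨a, ha⟩ := Ideal.Quotient.mk_surjective (w f)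
    exact ⟨a, show algebraMap B E (Ideal.Quotient.mk P a) = algebraMap B E (w f) by rw [ha]⟩

omit [IsLocalRing A] [IsAdicComplete (maximalIdeal A) A] [Module.Finite k (ResidueField A)] in
/-- Generators of the maximal ideal of a regular local ring at `P`, chosen in `A`. -/
theorem exists_params (P : Ideal A) [P.IsPrime] [IsRegularLocalRing (Localization.AtPrime P)] :
    ∃ (h : ℕ) (π : Fin h → A), P.height = (h : ℕ∞) ∧ (∀ j, π j ∈ P) ∧
      ∀ a ∈ P, ∃ t ∉ P, t * a ∈ Ideal.span (Set.range π) := by
  classical
  let S := Localization.AtPrime P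
  have hfg : (maximalIdeal S).FG := IsNoetherian.noetherian _
  have : Finite (maximalIdeal S).generators := Submodule.FG.finite_generators hfg
  have : Fintype (maximalIdeal S).generators := Fintype.ofFinite _
  have hgen : Fintype.card (maximalIdeal S).generators = (maximalIdeal S).spanFinrank := by
    rw [← Nat.card_eq_fintype_card, Nat.card_coe_set_eq]
    exact Submodule.FG.generators_ncard hfg
  let g : Fin (Fintype.card (maximalIdeal S).generators) → S := fun j => ((Fintype.equivFin _).symm j).1
  have hg : Ideal.span (Set.range g) = maximalIdeal S := by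
    have : Set.range g = (maximalIdeal S).generators := by
      ext z
      exact ⟨fun ⟨j, hj⟩ => hj ▸ ((Fintype.equivFin _).symm j).2, fun hz => ⟨Fintype.equivFin _ ⟨z, hz⟩, by simp [g]⟩⟩
    rw [this]
    exact Submodule.span_generators _
  have hsu := fun j => IsLocalization.surj P.primeCompl (g j)
  choose as has using hsu
  refine ⟨_, fun j => (as j).1, ?_, fun j => ?_, fun a ha => ?_⟩
  · have h1 := IsLocalization.AtPrime.ringKrullDim_eq_height P S
    rw [← (isRegularLocalRing_iff S).mp inferInstance, ← hgen] at h1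
    exact_mod_cast h1.symm
  · rw [← IsLocalization.AtPrime.to_map_mem_maximal_iff S P, ← has j]
    exact Ideal.mul_mem_right _ _ (hg ▸ Ideal.subset_span ⟨j, rfl⟩)
  · have hle : maximalIdeal S ≤ (Ideal.span (Set.range fun j => (as j).1)).map (algebraMap A S) := by
      refine hg.symm.le.trans (Ideal.span_le.mpr ?_)
      rintro _ ⟨j, rfl⟩
      rw [SetLike.mem_coe, ← Ideal.mul_unit_mem_iff_mem _ (IsLocalization.map_units S (as j).2), has j]
      exact Ideal.mem_map_of_mem _ (Ideal.subset_span ⟨j, rfl⟩)
    obtain ⟨⟨⟨i, hi⟩, s⟩, hs⟩ := (IsLocalization.mem_map_algebraMap_iff P.primeCompl S).mp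
      (hle ((IsLocalization.AtPrime.to_map_mem_maximal_iff S P a).mpr ha))
    rw [← map_mul] at hs
    obtain ⟨c, hc⟩ := (IsLocalization.eq_iff_exists P.primeCompl S).mp hs
    refine ⟨(c : A) * s, (P.primeCompl.mul_mem c.2 s.2), ?_⟩
    rw [mul_assoc, mul_comm (s : A) a, hc]
    exact Ideal.mul_mem_left _ _ hi

omit [IsLocalRing A] [IsNoetherianRing A] [IsAdicComplete (maximalIdeal A) A] in
theorem algebraMap_residueField_eq_zero (P : Ideal A) [P.IsPrime] {a : A} :
    algebraMap A P.ResidueField a = 0 ↔ a ∈ P := Ideal.algebraMap_residueField_eq_zero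

omit [IsLocalRing A] [IsNoetherianRing A] [IsAdicComplete (maximalIdeal A) A] in
/-- A derivation into the residue field vanishing on generators of `P` comes from the residue field. -/
theorem exists_lift (P : Ideal A) [P.IsPrime] {h : ℕ} (π : Fin h → A) (hπ : ∀ j, π j ∈ P)
    (hgen : ∀ a ∈ P, ∃ t ∉ P, t * a ∈ Ideal.span (Set.range π))
    (D : Derivation ℤ A P.ResidueField) (hD : ∀ j, D (π j) = 0) :
    ∃ E : Derivation ℤ P.ResidueField P.ResidueField, ∀ a, E (algebraMap A P.ResidueField a) = D a := by
  have h0 : ∀ {a : A}, a ∈ P → algebraMap A P.ResidueField a = 0 := fun h => (algebraMap_residueField_eq_zero P).mpr h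
  have hIP : Ideal.span (Set.range π) ≤ P := Ideal.span_le.mpr (by rintro _ ⟨j, rfl⟩; exact hπ j)
  have hI : ∀ a ∈ Ideal.span (Set.range π), D a = 0 := fun a ha => by
    induction ha using Submodule.span_induction with
    | mem z hz => obtain ⟨j, rfl⟩ := hz; exact hD j
    | zero => exact map_zero D
    | add y z _ _ hy hz => rw [map_add, hy, hz, add_zero]
    | smul c z hz ihz => rw [smul_eq_mul, Derivation.leibniz, ihz, smul_zero, zero_add, Algebra.smul_def, h0 (hIP hz), zero_mul]
  have hP : ∀ a ∈ P, D a = 0 := fun a ha => by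
    obtain ⟨t, ht, hta⟩ := hgen a ha
    have h1 := hI _ hta
    rw [Derivation.leibniz, Algebra.smul_def a, h0 ha, zero_mul, add_zero, Algebra.smul_def, mul_eq_zero] at h1
    exact h1.resolve_left fun h => ht ((algebraMap_residueField_eq_zero P).mp h)
  let σ := Function.surjInv (Ideal.Quotient.mk_surjective (I := P))
  have hσ : ∀ a, D (σ (Ideal.Quotient.mk P a)) = D a := fun a => by
    rw [← sub_eq_zero, ← map_sub]
    exact hP _ (Ideal.Quotient.eq.mp (Function.surjInv_eq _ _))
  let δ : Derivation ℤ (A ⧸ P) P.ResidueField := Derivation.mk'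
    (AddMonoidHom.toIntLinearMap
      { toFun := fun r => D (σ r)
        map_zero' := by rw [← map_zero (Ideal.Quotient.mk P), hσ, map_zero]
        map_add' := fun a b => by
          obtain ⟨a, rfl⟩ := Ideal.Quotient.mk_surjective a
          obtain ⟨b, rfl⟩ := Ideal.Quotient.mk_surjective b
          rw [← map_add, hσ, hσ, hσ, map_add] })
    (fun a b => by
      obtain ⟨a, rfl⟩ := Ideal.Quotient.mk_surjective a
      obtain ⟨b, rfl⟩ := Ideal.Quotient.mk_surjective b
      show D (σ (Ideal.Quotient.mk P a * Ideal.Quotient.mk P b)) = _ • D (σ _) + _ • D (σ _)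
      rw [← map_mul, hσ, hσ, hσ, Derivation.leibniz, Algebra.smul_def, Algebra.smul_def, Algebra.smul_def,
        Algebra.smul_def]
      rfl)
  obtain ⟨E, hE⟩ := exists_extension (k := ℤ) (K := P.ResidueField) (S := P.ResidueField) (nonZeroDivisors (A ⧸ P)) δ
  exact ⟨E, fun a => (hE (Ideal.Quotient.mk P a)).trans (hσ a)⟩

omit [IsLocalRing A] [IsNoetherianRing A] [IsAdicComplete (maximalIdeal A) A] [Module.Finite k (ResidueField A)] in
/-- Derivations of `k` extend along an adically formally smooth local algebra. -/
theorem exists_derivation_extending (P : Ideal A) [P.IsPrime]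
    (hfs : CAlgX.IsAdicFormallySmooth k (Localization.AtPrime P) (maximalIdeal (Localization.AtPrime P)))
    (D : Derivation ℤ k P.ResidueField) :
    ∃ D' : Derivation ℤ A P.ResidueField, ∀ c, D' (algebraMap k A c) = D c := by
  let S := Localization.AtPrime P
  let rh : k →+* (TrivSqZeroExt P.ResidueField P.ResidueField) :=
    { toFun := fun c => TrivSqZeroExt.inl (algebraMap k P.ResidueField c) + TrivSqZeroExt.inr (D c)
      map_zero' := by simp
      map_one' := by simp [D.map_one_eq_zero]
      map_add' := fun a b => TrivSqZeroExt.ext (by simp) (by simp)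
      map_mul' := fun a b => TrivSqZeroExt.ext (by simp) (by rw [Derivation.leibniz, Algebra.smul_def, Algebra.smul_def]; simp; ring) }
  let aT : Algebra k (TrivSqZeroExt P.ResidueField P.ResidueField) := rh.toAlgebra
  let fst : (TrivSqZeroExt P.ResidueField P.ResidueField) →+* P.ResidueField := (TrivSqZeroExt.fstHom P.ResidueField P.ResidueField P.ResidueField).toRingHom
  let J : Ideal (TrivSqZeroExt P.ResidueField P.ResidueField) := RingHom.ker fst
  have hJ : J ^ 2 = ⊥ := by
    rw [eq_bot_iff, pow_two, Ideal.mul_le]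
    intro a ha b hb
    have ha' : a.fst = 0 := ha
    have hb' : b.fst = 0 := hb
    exact TrivSqZeroExt.ext (by simp [ha', hb']) (by simp [ha', hb'])
  let ψ : S →ₐ[k] (TrivSqZeroExt P.ResidueField P.ResidueField) ⧸ J :=
    { (Ideal.Quotient.mk J).comp ((TrivSqZeroExt.inlHom P.ResidueField P.ResidueField).comp (algebraMap S P.ResidueField)) with
      commutes' := fun c => by
        refine Ideal.Quotient.eq.mpr (RingHom.mem_ker.mpr ?_)
        show (TrivSqZeroExt.inl (algebraMap S P.ResidueField (algebraMap k S c)) -
          (TrivSqZeroExt.inl (algebraMap k P.ResidueField c) + TrivSqZeroExt.inr (D c)) : (TrivSqZeroExt P.ResidueField P.ResidueField)).fst = 0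
        simp [← IsScalarTower.algebraMap_apply] }
  obtain ⟨χ, hχ⟩ := hfs (TrivSqZeroExt P.ResidueField P.ResidueField) J hJ ψ ⟨1, fun x hx => by
    rw [pow_one] at hx
    show Ideal.Quotient.mk J (TrivSqZeroExt.inl (algebraMap S P.ResidueField x)) = 0
    rw [show algebraMap S P.ResidueField x = 0 from (residue_eq_zero_iff x).mpr hx, TrivSqZeroExt.inl_zero, map_zero]⟩
  have hfst : ∀ a : A, (χ (algebraMap A S a)).fst = algebraMap A P.ResidueField a := fun a => by
    have h1 : Ideal.Quotient.mk J (χ (algebraMap A S a)) =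
        Ideal.Quotient.mk J (TrivSqZeroExt.inl (algebraMap S P.ResidueField (algebraMap A S a))) :=
      DFunLike.congr_fun hχ _
    have h2 : (χ (algebraMap A S a) - TrivSqZeroExt.inl (algebraMap S P.ResidueField (algebraMap A S a)) : (TrivSqZeroExt P.ResidueField P.ResidueField)).fst = 0 :=
      Ideal.Quotient.eq.mp h1
    rw [TrivSqZeroExt.fst_sub, sub_eq_zero, TrivSqZeroExt.fst_inl] at h2
    exact h2.trans (IsScalarTower.algebraMap_apply A S P.ResidueField a).symm
  refine ⟨Derivation.mk' (AddMonoidHom.toIntLinearMap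
    { toFun := fun a => (χ (algebraMap A S a)).snd
      map_zero' := by simp
      map_add' := fun a b => by simp }) (fun a b => ?_), fun c => ?_⟩
  · show (χ (algebraMap A S (a * b))).snd = a • (χ (algebraMap A S b)).snd + b • (χ (algebraMap A S a)).snd
    rw [map_mul, map_mul, TrivSqZeroExt.snd_mul, hfst, hfst]
    simp [Algebra.smul_def, mul_comm]
  · show (χ (algebraMap A S (algebraMap k A c))).snd = D c
    rw [← IsScalarTower.algebraMap_apply, χ.commutes]
    show (TrivSqZeroExt.inl (algebraMap k P.ResidueField c) + TrivSqZeroExt.inr (D c) : (TrivSqZeroExt P.ResidueField P.ResidueField)).snd = D c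
    simp

/-- Finitely many generators over the `p`-th powers bound the differentials. -/
theorem finite_kaehler_of_frobenius {p : ℕ} {R : Type u} [CommRing R] [CharP R p] {N : ℕ} (g : Fin N → R)
    (hg : ∀ x, ∃ b : Fin N → R, x = ∑ l, b l ^ p * g l) : Module.Finite R (KaehlerDifferential ℤ R) := by
  refine ⟨Submodule.fg_def.mpr ⟨_, Set.finite_range fun l => KaehlerDifferential.D ℤ R (g l),
    top_le_iff.mp ?_⟩⟩
  rw [← KaehlerDifferential.span_range_derivation, Submodule.span_le]
  rintro _ ⟨x, rfl⟩
  obtain ⟨b, rfl⟩ := hg x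
  rw [map_sum]
  refine sum_mem fun l _ => ?_
  rw [Derivation.leibniz, Derivation.leibniz_pow]
  refine add_mem (Submodule.smul_mem _ _ (Submodule.subset_span ⟨l, rfl⟩)) ?_
  rw [← Nat.cast_smul_eq_nsmul R, CharP.cast_eq_zero, zero_smul, smul_zero]
  exact zero_mem _

theorem exists_frobenius_span {R : Type u} [CommRing R] (φ : R →+* R) (h : φ.Finite) :
    ∃ (N : ℕ) (g : Fin N → R), ∀ x, ∃ b : Fin N → R, x = ∑ l, φ (b l) * g l := by
  let mR : Module R R := φ.toAlgebra.toModule
  have : Module.Finite R R := h
  obtain ⟨N, g, hg⟩ := Module.Finite.exists_fin (R := R) (M := R)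
  refine ⟨N, g, fun x => ?_⟩
  obtain ⟨b, hb⟩ := (Submodule.mem_span_range_iff_exists_fun R).mp (hg.ge (Submodule.mem_top (x := x)))
  exact ⟨b, hb.symm⟩

theorem sub_constantCoeff_mem {F : Type u} [Field F] {m : ℕ} (f : MvPowerSeries (Fin m) F) :
    f - algebraMap F (MvPowerSeries (Fin m) F) (MvPowerSeries.constantCoeff f) ∈
      maximalIdeal (MvPowerSeries (Fin m) F) := by
  rw [mem_maximalIdeal]
  intro hu
  rw [MvPowerSeries.isUnit_iff_constantCoeff, map_sub, MvPowerSeries.algebraMap_apply] at hu
  simp at hu

theorem finite_kaehler_field {p : ℕ} {F : Type u} [Field F] [ExpChar F p] [CharP F p]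
    (hk : (frobenius F p).Finite) : Module.Finite F (KaehlerDifferential ℤ F) := by
  obtain ⟨N, g, hg⟩ := exists_frobenius_span _ hk
  exact finite_kaehler_of_frobenius (p := p) g fun x => hg x

/-- Absolute differentials of power series over an `F`-finite field are finite. -/
theorem finite_kaehler_powerSeries (p : ℕ) [Fact p.Prime] {F : Type u} [Field F] [CharP F p]
    (hk : (frobenius F p).Finite) (m : ℕ) :
    Module.Finite (MvPowerSeries (Fin m) F) (KaehlerDifferential ℤ (MvPowerSeries (Fin m) F)) := by
  classical
  have : ExpChar F p := ExpChar.prime Fact.out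
  have := finite_kaehler_field hk
  let R := MvPowerSeries (Fin m) F
  let Q := FractionRing R
  have : CharP R p := charP_of_injective_algebraMap (R := F) (RingHom.injective _) p
  let F' : Subfield F := (frobenius F p).fieldRange
  have : Module.Finite F' F := by
    obtain ⟨N, g, hg⟩ := exists_frobenius_span _ hk
    refine ⟨Submodule.fg_def.mpr ⟨_, Set.finite_range g, top_le_iff.mp fun x _ => ?_⟩⟩
    obtain ⟨b, hb⟩ := hg x
    exact (Submodule.mem_span_range_iff_exists_fun F').mpr ⟨fun l => ⟨frobenius F p (b l), ⟨b l, rfl⟩⟩, hb.symm⟩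
  obtain ⟨-, hf⟩ := CohenStruct16.FrobSubring.exists_basis p (r := m) F'
  obtain ⟨N, g, hg⟩ := @Module.Finite.exists_fin _ _ _ _ _ hf
  refine finite_kaehler_of_frobenius (p := p) g fun x => ?_
  obtain ⟨s, hs⟩ := (Submodule.mem_span_range_iff_exists_fun _).mp (hg.ge (Submodule.mem_top (x := x)))
  have hroot : ∀ l, ∃ b : R, b ^ p = (s l : R) := fun l => by
    obtain ⟨c, hc⟩ := (s l).2
    choose d hd using fun n => (MvPowerSeries.coeff n c).2
    let d' : R := d
    refine ⟨d', ?_⟩
    rw [← MvPowerSeries.map_frobenius_expand p (Fact.out : p.Prime).ne_zero, ← hc]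
    show MvPowerSeries.map (frobenius F p) (MvPowerSeries.expand p (Fact.out : p.Prime).ne_zero d') =
      MvPowerSeries.expand p (Fact.out : p.Prime).ne_zero (MvPowerSeries.map F'.subtype c)
    rw [MvPowerSeries.map_expand]
    congr 1
    ext n
    rw [MvPowerSeries.coeff_map, MvPowerSeries.coeff_map]
    exact hd n
  choose b hb using hroot
  exact ⟨b, by rw [← hs]; simp only [hb, Subring.smul_def, smul_eq_mul]⟩

/-- A submodule of the differentials of power series containing `d k` and the `d Xᵢ` is everything. -/
theorem eq_top_of_mem {F : Type u} [Field F] {m : ℕ}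
    [hfinR : Module.Finite (MvPowerSeries (Fin m) F) (KaehlerDifferential ℤ (MvPowerSeries (Fin m) F))]
    (N : Submodule (MvPowerSeries (Fin m) F) (KaehlerDifferential ℤ (MvPowerSeries (Fin m) F)))
    (hC : ∀ ω, KaehlerDifferential.map ℤ ℤ F (MvPowerSeries (Fin m) F) ω ∈ N)
    (hX : ∀ i, KaehlerDifferential.D ℤ (MvPowerSeries (Fin m) F) (MvPowerSeries.X i) ∈ N) : N = ⊤ := by
  let R := MvPowerSeries (Fin m) F
  refine top_le_iff.mp (Submodule.le_of_le_smul_of_le_jacobson_bot hfinR.fg_top
    (maximalIdeal_le_jacobson (⊥ : Ideal R)) ?_)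
  rw [← KaehlerDifferential.span_range_derivation, Submodule.span_le]
  rintro _ ⟨f, rfl⟩
  have hf : f - algebraMap F R (MvPowerSeries.constantCoeff f) ∈ maximalIdeal R := sub_constantCoeff_mem f
  have hmX : maximalIdeal R = Ideal.span (Set.range MvPowerSeries.X) := PSLoc.maximalIdeal_eq F
  have hmem : ∀ g ∈ maximalIdeal R, KaehlerDifferential.D ℤ R g ∈ N ⊔ maximalIdeal R • ⊤ := by
    intro g hg
    have hg' := hg
    rw [hmX] at hg'
    induction hg' using Submodule.span_induction with
    | mem z hz =>
      obtain ⟨i, rfl⟩ := hz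
      exact Submodule.mem_sup_left (hX i)
    | zero => simp
    | add y z hy' hz' hy hz =>
      rw [map_add]
      exact add_mem (hy (hmX ▸ hy')) (hz (hmX ▸ hz'))
    | smul c z hz ihz =>
      rw [smul_eq_mul, Derivation.leibniz]
      exact add_mem (Submodule.smul_mem _ _ (ihz (hmX ▸ hz)))
        (Submodule.mem_sup_right (Submodule.smul_mem_smul (hmX ▸ hz) trivial))
  have h0 : KaehlerDifferential.map ℤ ℤ F R (KaehlerDifferential.D ℤ F (MvPowerSeries.constantCoeff f)) ∈
      N ⊔ maximalIdeal R • ⊤ := Submodule.mem_sup_left (hC _)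
  have h1 := add_mem (hmem _ hf) h0
  rw [KaehlerDifferential.map_D, ← map_add, sub_add_cancel] at h1
  rw [KaehlerDifferential.span_range_derivation]
  exact h1

/-- Differentials of a fraction field of power series over an `F`-finite field. -/
theorem kaehler_fractionRing_powerSeries (p : ℕ) [Fact p.Prime] {F : Type u} [Field F] [CharP F p]
    (hk : (frobenius F p).Finite) (m : ℕ) :
    Module.Finite (FractionRing (MvPowerSeries (Fin m) F))
        (KaehlerDifferential ℤ (FractionRing (MvPowerSeries (Fin m) F))) ∧
      Module.finrank (FractionRing (MvPowerSeries (Fin m) F))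
        (KaehlerDifferential ℤ (FractionRing (MvPowerSeries (Fin m) F))) ≤
        Module.finrank F (KaehlerDifferential ℤ F) + m := by
  classical
  have : ExpChar F p := ExpChar.prime Fact.out
  have := finite_kaehler_field hk
  let R := MvPowerSeries (Fin m) F
  let Q := FractionRing R
  have hfinR : Module.Finite R (KaehlerDifferential ℤ R) := finite_kaehler_powerSeries p hk m
  let bk := Module.finBasis F (KaehlerDifferential ℤ F)
  let v : Fin (Module.finrank F (KaehlerDifferential ℤ F)) ⊕ Fin m → KaehlerDifferential ℤ R :=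
    Sum.elim (fun j => KaehlerDifferential.map ℤ ℤ F R (bk j))
      (fun i => KaehlerDifferential.D ℤ R (MvPowerSeries.X i))
  set N := Submodule.span R (Set.range v) with hN
  have hC : ∀ ω, KaehlerDifferential.map ℤ ℤ F R ω ∈ N := fun ω => by
    rw [← bk.sum_repr ω, map_sum]
    refine sum_mem fun j _ => ?_
    rw [map_smul, ← algebraMap_smul R (bk.repr ω j)]
    exact Submodule.smul_mem _ _ (Submodule.subset_span ⟨Sum.inl j, rfl⟩)
  have htop : N = ⊤ := eq_top_of_mem N hC fun i => Submodule.subset_span ⟨Sum.inr i, rfl⟩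
  have hQ : Submodule.span Q (Set.range fun l => KaehlerDifferential.map ℤ ℤ R Q (v l)) = ⊤ := by
    have := span_eq_top_of_isLocalizedModule Q (nonZeroDivisors R) (KaehlerDifferential.map ℤ ℤ R Q)
      (v := Set.range v) htop
    rwa [← Set.range_comp] at this
  refine ⟨⟨Submodule.fg_def.mpr ⟨_, Set.finite_range fun l => KaehlerDifferential.map ℤ ℤ R Q (v l), hQ⟩⟩, ?_⟩
  have h2 := finrank_range_le_card (R := Q) (fun l => KaehlerDifferential.map ℤ ℤ R Q (v l))
  rw [Set.finrank, hQ, finrank_top] at h2
  simpa using h2

theorem finrank_kaehler_residueField (p : ℕ) [Fact p.Prime] [CharP k p] (hk : (frobenius k p).Finite)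
    (P : Ideal A) [P.IsPrime] :
    ∃ m : ℕ, ringKrullDim (A ⧸ P) = (m : WithBot ℕ∞) ∧
      Module.Finite P.ResidueField (KaehlerDifferential ℤ P.ResidueField) ∧
      Module.finrank P.ResidueField (KaehlerDifferential ℤ P.ResidueField) ≤
        Module.finrank k (KaehlerDifferential ℤ k) + m := by
  obtain ⟨m, _, _, _, _, hfd, hdim, -, -⟩ := exists_model (k := k) P
  let Q := FractionRing (MvPowerSeries (Fin m) k)
  obtain ⟨hfin, hle⟩ := kaehler_fractionRing_powerSeries p hk m
  have : IsScalarTower ℤ Q P.ResidueField :=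
    IsScalarTower.of_algebraMap_eq fun x => (map_intCast (algebraMap Q P.ResidueField) x).symm
  obtain ⟨d, hd, hker, hcoker, hidx⟩ := FieldSep.Cartier.cart_int Q P.ResidueField
  have hd0 : d = 0 := by
    rw [trdeg_eq_zero (R := Q) (A := P.ResidueField)] at hd
    exact_mod_cast hd.symm
  subst hd0
  let f := KaehlerDifferential.mapBaseChange ℤ Q P.ResidueField
  have : FiniteDimensional P.ResidueField f.range := Module.Finite.range f
  have hK : Module.Finite P.ResidueField (KaehlerDifferential ℤ P.ResidueField) := Module.Finite.of_submodule_quotient f.range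
  refine ⟨m, hdim, hK, ?_⟩
  have h1 := f.finrank_range_add_finrank_ker
  have h2 : Module.finrank P.ResidueField (_ ⧸ f.range) + Module.finrank P.ResidueField f.range = _ :=
    Submodule.finrank_quotient_add_finrank f.range
  rw [LinearMap.index_eq_finrank_sub] at hidx
  rw [Module.finrank_baseChange] at h1
  simp only [f, Q] at *
  omega

/-- The `k`-derivations into the residue field at a geometrically regular prime, positive characteristic. -/
theorem der_bound_charP (p : ℕ) [Fact p.Prime] [CharP k p] (hk : (frobenius k p).Finite)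
    (P : Ideal A) [P.IsPrime] [IsRegularLocalRing (Localization.AtPrime P)]
    (hfs : CAlgX.IsAdicFormallySmooth k (Localization.AtPrime P) (maximalIdeal (Localization.AtPrime P))) :
    ∃ h m : ℕ, P.height = (h : ℕ∞) ∧ ringKrullDim (A ⧸ P) = (m : WithBot ℕ∞) ∧
      FiniteDimensional P.ResidueField (Derivation k A P.ResidueField) ∧
      Module.finrank P.ResidueField (Derivation k A P.ResidueField) ≤ h + m := by
  classical
  have : ExpChar k p := ExpChar.prime Fact.out
  obtain ⟨h, π, hh, hπ, hgen⟩ := exists_params P
  obtain ⟨m, hm, hfinK, hleK⟩ := finrank_kaehler_residueField p hk P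
  refine ⟨h, m, hh, hm, ?_⟩
  have := finite_kaehler_field hk
  obtain ⟨hfK, heK⟩ := finrank_der P.ResidueField P.ResidueField
  obtain ⟨hfk, hek⟩ := finrank_der k P.ResidueField
  let Φ : Derivation ℤ A P.ResidueField →ₗ[P.ResidueField] (Fin h → P.ResidueField) :=
    { toFun := fun D j => D (π j), map_add' := fun _ _ => rfl, map_smul' := fun _ _ => rfl }
  let Ev : Derivation ℤ P.ResidueField P.ResidueField →ₗ[P.ResidueField] Derivation ℤ A P.ResidueField :=
    { toFun := fun E => E.compAlgebraMap A, map_add' := fun _ _ => rfl, map_smul' := fun _ _ => rfl }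
  have hker : LinearMap.ker Φ ≤ LinearMap.range Ev := fun D hD => by
    obtain ⟨E, hE⟩ := exists_lift P π hπ hgen D (fun j => congrFun hD j)
    exact ⟨E, Derivation.ext hE⟩
  have : FiniteDimensional P.ResidueField (LinearMap.range Ev) := Module.Finite.range Ev
  have : FiniteDimensional P.ResidueField (LinearMap.ker Φ) := Submodule.finiteDimensional_of_le hker
  have hfD : FiniteDimensional P.ResidueField (Derivation ℤ A P.ResidueField) := by
    have : FiniteDimensional P.ResidueField (Derivation ℤ A P.ResidueField ⧸ LinearMap.ker Φ) :=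
      Module.Finite.equiv Φ.quotKerEquivRange.symm
    exact Module.Finite.of_submodule_quotient (LinearMap.ker Φ)
  have h1 := Φ.finrank_range_add_finrank_ker
  have h2 : Module.finrank P.ResidueField (LinearMap.range Φ) ≤ h := (Submodule.finrank_le _).trans (by simp)
  have h3 := (Submodule.finrank_mono hker).trans (LinearMap.finrank_range_le Ev)
  let Ψ : Derivation ℤ A P.ResidueField →ₗ[P.ResidueField] Derivation ℤ k P.ResidueField :=
    { toFun := fun D => D.compAlgebraMap k, map_add' := fun _ _ => rfl, map_smul' := fun _ _ => rfl }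
  have hΨ : LinearMap.range Ψ = ⊤ := LinearMap.range_eq_top.mpr fun D => by
    obtain ⟨D', hD'⟩ := exists_derivation_extending P hfs D
    exact ⟨D', Derivation.ext hD'⟩
  have h4 := Ψ.finrank_range_add_finrank_ker
  rw [hΨ, finrank_top] at h4
  let ι : Derivation k A P.ResidueField →ₗ[P.ResidueField] LinearMap.ker Ψ :=
    { toFun := fun D => ⟨D.restrictScalars ℤ, Derivation.ext fun c => D.map_algebraMap c⟩
      map_add' := fun _ _ => rfl
      map_smul' := fun _ _ => rfl }
  have hι : Function.Injective ι := fun D D' he =>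
    Derivation.ext fun a => DFunLike.congr_fun (congrArg Subtype.val he) a
  refine ⟨Module.Finite.of_injective ι hι, ?_⟩
  have h5 := LinearMap.finrank_le_finrank_of_injective hι
  omega

/-- Functionals on completed differentials at a prime, characteristic zero. -/
theorem functional_bound_charZero [CharZero k] (P : Ideal A) [P.IsPrime]
    [IsRegularLocalRing (Localization.AtPrime P)] :
    ∃ h m : ℕ, P.height = (h : ℕ∞) ∧ ringKrullDim (A ⧸ P) = (m : WithBot ℕ∞) ∧
      Module.finrank P.ResidueField
        (AdicCompletion (maximalIdeal A) (KaehlerDifferential k A) →ₗ[A] P.ResidueField) ≤ h + m := by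
  classical
  obtain ⟨h, π, hh, hπ, hgen⟩ := exists_params P
  obtain ⟨m, _, _, _, _, hfd, hdim, ⟨x, hxm, hxX⟩, hlift⟩ := exists_model (k := k) P
  refine ⟨h, m, hh, hdim, ?_⟩
  let R := MvPowerSeries (Fin m) k
  let Q := FractionRing R
  let M := AdicCompletion (maximalIdeal A) (KaehlerDifferential k A)
  let dh : A → M := fun a => AdicCompletion.of (maximalIdeal A) _ (KaehlerDifferential.D k A a)
  let Λ : (M →ₗ[A] P.ResidueField) →ₗ[P.ResidueField] (Fin h ⊕ Fin m → P.ResidueField) :=
    { toFun := fun φ => Sum.elim (fun j => φ (dh (π j))) (fun i => φ (dh (x i)))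
      map_add' := fun _ _ => by ext (_ | _) <;> rfl
      map_smul' := fun _ _ => by ext (_ | _) <;> rfl }
  have hΛ : Function.Injective Λ := by
    rw [← LinearMap.ker_eq_bot, eq_bot_iff]
    intro φ hφ
    obtain ⟨hfinM, hsurj⟩ := Rank.finite_and_surjective (k := k) (A := A)
    let D : Derivation k A P.ResidueField :=
      ((φ ∘ₗ AdicCompletion.of (maximalIdeal A) (KaehlerDifferential k A)).compDer (KaehlerDifferential.D k A))
    have hDx : ∀ i, D (x i) = 0 := fun i => congrFun hφ (Sum.inr i)
    obtain ⟨E, hE⟩ := exists_lift P π hπ hgen (D.restrictScalars ℤ) (fun j => congrFun hφ (Sum.inl j))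
    have hE' : ∀ a, E (algebraMap A P.ResidueField a) = D a := hE
    set W := LinearMap.range φ
    have : Module.Finite A W := Module.Finite.range φ
    have hW : ∀ a, D a ∈ W := fun a => ⟨_, rfl⟩
    have hEc : ∀ c : k, E (algebraMap k P.ResidueField c) = 0 := fun c => by
      rw [IsScalarTower.algebraMap_apply k A P.ResidueField, hE', D.map_algebraMap]
    have hER : ∀ (f : R) (j : ℕ), ∃ w : W, w ∈ (maximalIdeal A) ^ j • (⊤ : Submodule A W) ∧
        (w : P.ResidueField) = E (algebraMap R P.ResidueField f) := by
      intro f j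
      induction j generalizing f with
      | zero =>
        obtain ⟨a, ha⟩ := hlift f
        exact ⟨⟨D a, hW a⟩, by simp, by rw [← ha, hE']⟩
      | succ j ih =>
        have hf : f - algebraMap k R (MvPowerSeries.constantCoeff f) ∈ maximalIdeal R := sub_constantCoeff_mem f
        rw [PSLoc.maximalIdeal_eq k] at hf
        obtain ⟨c, hc⟩ := (Submodule.mem_span_range_iff_exists_fun R).mp hf
        choose w hw hwE using fun i => ih (c i)
        refine ⟨∑ i, x i • w i, sum_mem fun i _ => ?_, ?_⟩
        · rw [pow_succ', Submodule.mul_smul]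
          exact Submodule.smul_mem_smul (hxm i) (hw i)
        · rw [show f = algebraMap k R (MvPowerSeries.constantCoeff f) + ∑ i, c i • MvPowerSeries.X i by
            rw [hc]; ring]
          rw [map_add, map_add, ← IsScalarTower.algebraMap_apply, hEc, zero_add, map_sum, map_sum,
            Submodule.coe_sum]
          refine Finset.sum_congr rfl fun i _ => ?_
          rw [smul_eq_mul, map_mul, Derivation.leibniz, hxX i, hE', hDx, smul_zero, zero_add,
            Submodule.coe_smul, hwE, Algebra.smul_def, smul_eq_mul]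
    have hER0 : ∀ f : R, E (algebraMap R P.ResidueField f) = 0 := fun f => by
      choose w hw hwE using hER f
      have h0 : w 0 ∈ (⨅ j, (maximalIdeal A) ^ j • (⊤ : Submodule A W)) := by
        rw [Submodule.mem_iInf]
        intro j
        have : w 0 = w j := Subtype.ext ((hwE 0).trans (hwE j).symm)
        exact this ▸ hw j
      rw [Ideal.iInf_pow_smul_eq_bot_of_isLocalRing _ (maximalIdeal.isMaximal A).ne_top, Submodule.mem_bot] at h0
      rw [← hwE 0, h0]
      rfl
    have hEQ : ∀ c : Q, E (algebraMap Q P.ResidueField c) = 0 := fun c => by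
      obtain ⟨a, s, -, rfl⟩ := IsFractionRing.div_surjective (A := R) c
      rw [map_div₀, Derivation.leibniz_div, ← IsScalarTower.algebraMap_apply, ← IsScalarTower.algebraMap_apply,
        hER0, hER0]
      simp
    let E' : Derivation Q P.ResidueField P.ResidueField := Derivation.mk'
      { toFun := E
        map_add' := map_add E
        map_smul' := fun c y => by
          rw [Algebra.smul_def, Derivation.leibniz, hEQ, smul_zero, add_zero, RingHom.id_apply,
            Algebra.smul_def c, smul_eq_mul] }
      (fun a b => E.leibniz a b)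
    have : CharZero Q := by
      have : CharZero R := charZero_of_injective_algebraMap (R := k) (RingHom.injective _)
      exact charZero_of_injective_algebraMap (R := R) (IsFractionRing.injective R Q)
    have : Algebra.IsSeparable Q P.ResidueField := Algebra.IsAlgebraic.isSeparable_of_perfectField
    have : Algebra.FormallyUnramified Q P.ResidueField := Algebra.FormallyUnramified.of_isSeparable Q P.ResidueField
    have hE0 : E' = 0 := by
      rw [← E'.liftKaehlerDifferential_comp, Subsingleton.elim E'.liftKaehlerDifferential 0]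
      ext
      simp
    have hD0 : ∀ a, D a = 0 := fun a => by
      rw [← hE']
      exact DFunLike.congr_fun hE0 (algebraMap A P.ResidueField a)
    rw [Submodule.mem_bot]
    refine LinearMap.ext fun y => ?_
    obtain ⟨ω, rfl⟩ := hsurj y
    have : φ ∘ₗ AdicCompletion.of (maximalIdeal A) (KaehlerDifferential k A) = 0 :=
      Derivation.liftKaehlerDifferential_unique _ _ (Derivation.ext fun a => by simpa [D] using hD0 a)
    exact LinearMap.congr_fun this ω
  exact (LinearMap.finrank_le_finrank_of_injective hΛ).trans (by simp)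

/-- The fibre rank of completed differentials at a geometrically regular prime. -/
theorem fibre_le (p : ℕ) [ExpChar k p] (hk : (frobenius k p).Finite) (P : Ideal A) [P.IsPrime]
    (hP : CAlg.IsGeometricallyRegular k (Localization.AtPrime P)) [IsRegularLocalRing (Localization.AtPrime P)]
    (q : Ideal A) (hq : q ∈ minimalPrimes A) (hqP : q ≤ P) (n : ℕ) (hn : ringKrullDim (A ⧸ q) = (n : WithBot ℕ∞)) :
    Module.finrank P.ResidueField
      (P.ResidueField ⊗[A] AdicCompletion (maximalIdeal A) (KaehlerDifferential k A)) ≤ n := by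
  let M := AdicCompletion (maximalIdeal A) (KaehlerDifferential k A)
  obtain ⟨hfinM, hsurj⟩ := Rank.finite_and_surjective (k := k) (A := A)
  have hdual : Module.finrank P.ResidueField (P.ResidueField ⊗[A] M) = Module.finrank P.ResidueField (M →ₗ[A] P.ResidueField) := by
    rw [← Subspace.dual_finrank_eq]
    exact (LinearMap.liftBaseChangeEquiv (R := A) (M := M) (N := P.ResidueField) P.ResidueField).finrank_eq.symm
  suffices hex : ∃ h m : ℕ, P.height = (h : ℕ∞) ∧ ringKrullDim (A ⧸ P) = (m : WithBot ℕ∞) ∧
      Module.finrank P.ResidueField (M →ₗ[A] P.ResidueField) ≤ h + m by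
    obtain ⟨h, m, hh, hm, hle⟩ := hex
    have := RegLoc.isDomain (Localization.AtPrime P)
    have h1 := height_add_le P q hq hqP
    rw [hh, hm, hn] at h1
    have h2 : h + m ≤ n := by exact_mod_cast h1
    exact hdual.le.trans (hle.trans h2)
  cases ‹ExpChar k p› with
  | zero => exact functional_bound_charZero P
  | prime hp =>
    have : Fact p.Prime := ⟨hp⟩
    have : ExpChar k p := ExpChar.prime hp
    have hfs : CAlgX.IsAdicFormallySmooth k (Localization.AtPrime P) (maximalIdeal (Localization.AtPrime P)) :=
      (S4573.result p).mpr fun L _ _ hL _ => hP L hL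
    obtain ⟨h, m, hh, hm, hfd, hle⟩ := der_bound_charP p hk P hfs
    refine ⟨h, m, hh, hm, le_trans ?_ hle⟩
    let ι : (M →ₗ[A] P.ResidueField) →ₗ[P.ResidueField] Derivation k A P.ResidueField :=
      { toFun := fun φ => (φ ∘ₗ AdicCompletion.of (maximalIdeal A) (KaehlerDifferential k A)).compDer
          (KaehlerDifferential.D k A)
        map_add' := fun _ _ => by ext; rfl
        map_smul' := fun _ _ => by ext; rfl }
    refine LinearMap.finrank_le_finrank_of_injective (f := ι) fun φ φ' he => LinearMap.ext fun y => ?_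
    obtain ⟨ω, rfl⟩ := hsurj y
    exact LinearMap.congr_fun
      (Derivation.liftKaehlerDifferential_unique
        (φ ∘ₗ AdicCompletion.of (maximalIdeal A) (KaehlerDifferential k A))
        (φ' ∘ₗ AdicCompletion.of (maximalIdeal A) (KaehlerDifferential k A)) he) ω

end Groth.Agent.DerExt61.GeomReg
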