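import Groth.Agent.DerExt61.GeomReg
import Groth.Agent.EGA41Lib.PSJacobian
import Mathlib

/-!
# The imperfection module of a complete local domain
-/

set_option autoImplicit false

noncomputable section

universe u

open IsLocalRing TensorProduct

namespace Groth.Agent.DerExt61.Imperfection

theorem exists_coeffDer {k : Type u} [Field k] {n : ℕ} (d : k →+ k) (hd : ∀ a b, d (a * b) = a * d b + b * d a) :
    ∃ δ : MvPowerSeries (Fin n) k →+ MvPowerSeries (Fin n) k,
      (∀ a b, δ (a * b) = a • δ b + b • δ a) ∧ ∀ c, δ (MvPowerSeries.C c) = MvPowerSeries.C (d c) :=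
  ⟨(EGA41Lib.PSJacobian.coeffDer d hd).toLinearMap.toAddMonoidHom, (EGA41Lib.PSJacobian.coeffDer d hd).leibniz,
    EGA41Lib.PSJacobian.coeffDer_C d hd⟩

attribute [local instance 2000] Ring.toIntAlgebra

open FieldSep.Cartier

/-- Composing an injective map with an index zero map. -/
theorem index_comp {K U V W : Type*} [Field K] [AddCommGroup U] [Module K U] [AddCommGroup V] [Module K V]
    [AddCommGroup W] [Module K W] {f : U →ₗ[K] V} (hf : Function.Injective f) {g : V →ₗ[K] W} (hg : Fred g 0) :
    FiniteDimensional K (LinearMap.ker (g ∘ₗ f)) ∧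
      (FiniteDimensional K (W ⧸ LinearMap.range (g ∘ₗ f)) →
        FiniteDimensional K (V ⧸ LinearMap.range f) ∧
        Module.finrank K (W ⧸ LinearMap.range (g ∘ₗ f)) =
          Module.finrank K (V ⧸ LinearMap.range f) + Module.finrank K (LinearMap.ker (g ∘ₗ f))) := by
  have := hg.finite_ker
  let r : LinearMap.ker (g ∘ₗ f) →ₗ[K] LinearMap.ker g :=
    f.restrict fun x hx => by simpa [LinearMap.mem_ker] using hx
  have hr : Function.Injective r := fun x y h => Subtype.ext (hf (congrArg Subtype.val h))
  have hker : FiniteDimensional K (LinearMap.ker (g ∘ₗ f)) := Module.Finite.of_injective r hr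
  refine ⟨hker, fun hW => ?_⟩
  let gb : (V ⧸ LinearMap.range f) →ₗ[K] W ⧸ LinearMap.range (g ∘ₗ f) :=
    (LinearMap.range f).mapQ _ g (by rintro _ ⟨x, rfl⟩; exact ⟨x, rfl⟩)
  have hle : LinearMap.ker gb ≤ (LinearMap.ker g).map (LinearMap.range f).mkQ := by
    intro y hy
    obtain ⟨v, rfl⟩ := Submodule.mkQ_surjective _ y
    rw [LinearMap.mem_ker, Submodule.mkQ_apply, Submodule.mapQ_apply, Submodule.Quotient.mk_eq_zero] at hy
    obtain ⟨x, hx⟩ := hy
    refine ⟨v - f x, by simp [LinearMap.mem_ker, ← hx], ?_⟩
    rw [Submodule.mkQ_apply, Submodule.mkQ_apply, Submodule.Quotient.eq]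
    exact ⟨-x, by simp⟩
  have : FiniteDimensional K (LinearMap.ker gb) := Submodule.finiteDimensional_of_le hle
  have hV : FiniteDimensional K (V ⧸ LinearMap.range f) := by
    have : FiniteDimensional K ((V ⧸ LinearMap.range f) ⧸ LinearMap.ker gb) :=
      Module.Finite.equiv gb.quotKerEquivRange.symm
    exact Module.Finite.of_submodule_quotient (LinearMap.ker gb)
  refine ⟨hV, ?_⟩
  have hF : Fred f (-(Module.finrank K (V ⧸ LinearMap.range f) : ℤ)) := by
    have : FiniteDimensional K (LinearMap.ker f) := by rw [LinearMap.ker_eq_bot.mpr hf]; infer_instance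
    refine ⟨this, hV, ?_⟩
    rw [LinearMap.index_eq_finrank_sub, LinearMap.ker_eq_bot.mpr hf]
    simp
  have h1 := (hF.comp hg).index_eq
  rw [LinearMap.index_eq_finrank_sub] at h1
  omega

section PowerSeries

variable {k : Type u} [Field k] {n : ℕ}

/-- `Q ⊗ Ω_k → Ω_Q` is injective for `Q` the fraction field of power series over `k`. -/
theorem injective_mapBaseChange :
    Function.Injective (KaehlerDifferential.mapBaseChange ℤ k (FractionRing (MvPowerSeries (Fin n) k))) := by
  classical
  let R := MvPowerSeries (Fin n) k
  rw [injective_iff_map_eq_zero]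
  intro z hz
  let bk := Module.Free.chooseBasis k (KaehlerDifferential ℤ k)
  refine (Algebra.TensorProduct.basis (FractionRing R) bk).ext_elem fun j => ?_
  let d : k →+ k := (bk.coord j).toAddMonoidHom.comp (KaehlerDifferential.D ℤ k).toLinearMap.toAddMonoidHom
  have hd : ∀ a b, d (a * b) = a * d b + b * d a := fun a b => by simp [d, Derivation.leibniz]
  obtain ⟨cd, hcd, hcdC⟩ := exists_coeffDer (n := n) d hd
  let δ : Derivation ℤ R (FractionRing R) := Derivation.mk'
    (AddMonoidHom.toIntLinearMap
      { toFun := fun x => algebraMap R (FractionRing R) (cd x)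
        map_zero' := by rw [map_zero, map_zero]
        map_add' := fun a b => by rw [map_add, map_add] })
    (fun a b => by
      show algebraMap R (FractionRing R) (cd (a * b)) =
        a • algebraMap R (FractionRing R) (cd b) + b • algebraMap R (FractionRing R) (cd a)
      rw [hcd, map_add, smul_eq_mul, smul_eq_mul,
        map_mul, map_mul, Algebra.smul_def, Algebra.smul_def])
  obtain ⟨E, hE⟩ := GeomReg.exists_extension (k := ℤ) (K := FractionRing R) (S := FractionRing R) (nonZeroDivisors R) δ
  let φ := E.liftKaehlerDifferential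
  have key : ∀ w, φ (KaehlerDifferential.mapBaseChange ℤ k (FractionRing R) w) =
      (Algebra.TensorProduct.basis (FractionRing R) bk).coord j w := by
    intro w
    induction w with
    | zero => simp
    | add a b ha hb => rw [map_add, map_add, map_add, ha, hb]
    | tmul q ω =>
      have hω : φ (KaehlerDifferential.map ℤ ℤ k (FractionRing R) ω) =
          algebraMap k (FractionRing R) (bk.coord j ω) := by
        have hmem : ω ∈ Submodule.span k (Set.range (KaehlerDifferential.D ℤ k)) := by
          rw [KaehlerDifferential.span_range_derivation]; trivial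
        induction hmem using Submodule.span_induction with
        | mem y hy =>
          obtain ⟨c, rfl⟩ := hy
          rw [KaehlerDifferential.map_D, Derivation.liftKaehlerDifferential_comp_D,
            IsScalarTower.algebraMap_apply k R (FractionRing R), hE]
          show algebraMap R (FractionRing R) (cd (algebraMap k R c)) = _
          rw [IsScalarTower.algebraMap_apply k R (FractionRing R)]
          congr 1
          exact (hcdC c).trans rfl
        | zero => simp
        | add a b _ _ ha hb => rw [map_add, map_add, map_add, map_add, ha, hb]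
        | smul c y _ hy =>
          rw [map_smul, LinearMap.map_smul_of_tower, hy, map_smul, smul_eq_mul, map_mul, Algebra.smul_def]
      rw [KaehlerDifferential.mapBaseChange_tmul, map_smul, hω, smul_eq_mul]
      simp
  rw [map_zero, Finsupp.zero_apply]
  exact (key z).symm.trans (by rw [hz, map_zero])

end PowerSeries

variable {k C L : Type u} [Field k] [CommRing C] [IsDomain C] [IsNoetherianRing C] [IsLocalRing C]
  [Algebra k C] [IsAdicComplete (maximalIdeal C) C] [Module.Finite k (ResidueField C)]
  [Field L] [Algebra C L] [IsFractionRing C L] [Algebra k L] [IsScalarTower k C L]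

/-- The fraction field is finite over a field of fractions of power series. -/
theorem exists_tower (n : ℕ) (hn : ringKrullDim C = (n : WithBot ℕ∞)) :
    ∃ (_ : Algebra (MvPowerSeries (Fin n) k) C) (_ : IsScalarTower k (MvPowerSeries (Fin n) k) C)
      (_ : Algebra (FractionRing (MvPowerSeries (Fin n) k)) L)
      (_ : IsScalarTower k (FractionRing (MvPowerSeries (Fin n) k)) L),
      Module.Finite (MvPowerSeries (Fin n) k) C ∧ FiniteDimensional (FractionRing (MvPowerSeries (Fin n) k)) L := by
  classical
  obtain ⟨m, w, hwinj, hwloc, hwfin⟩ := AdicFS.CompleteNoether.exists_finite_injective (k₀ := k) (A := C)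
  let R := MvPowerSeries (Fin m) k
  let aC : Algebra R C := w.toRingHom.toAlgebra
  have htC : IsScalarTower k R C := IsScalarTower.of_algebraMap_eq fun c => (w.commutes c).symm
  have : Module.Finite R C := hwfin
  have : Algebra.IsIntegral R C := Algebra.IsIntegral.of_finite R C
  obtain rfl : n = m := by
    rw [InvQLib.FiniteFree.ringKrullDim_eq_of_integral R C hwinj, PSLoc.ringKrullDim_eq k m] at hn
    exact_mod_cast hn.symm
  let aR : Algebra R L := ((algebraMap C L).comp w.toRingHom).toAlgebra
  have : IsScalarTower R C L := IsScalarTower.of_algebraMap_eq fun _ => rfl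
  have : IsScalarTower k R L := IsScalarTower.of_algebraMap_eq fun c => by
    show _ = algebraMap C L (w (algebraMap k R c))
    rw [w.commutes, ← IsScalarTower.algebraMap_apply]
  have : FaithfulSMul R L := (faithfulSMul_iff_algebraMap_injective _ _).mpr
    ((IsFractionRing.injective C L).comp hwinj)
  let L₀ := FractionRing R
  let aL : Algebra L₀ L := FractionRing.liftAlgebra R L
  have : IsScalarTower R L₀ L := FractionRing.isScalarTower_liftAlgebra R L
  have htL : IsScalarTower k L₀ L := IsScalarTower.of_algebraMap_eq fun c => by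
    rw [IsScalarTower.algebraMap_apply k R L₀, ← IsScalarTower.algebraMap_apply R L₀ L,
      ← IsScalarTower.algebraMap_apply k R L]
  refine ⟨aC, htC, aL, htL, hwfin, ?_⟩
  obtain ⟨N, b, hb⟩ := Module.Finite.exists_fin (R := R) (M := C)
  let S := Set.range fun j => algebraMap C L (b j)
  have hint : ∀ x ∈ S, IsIntegral L₀ x := by
    rintro _ ⟨j, rfl⟩
    exact ((Algebra.IsIntegral.isIntegral (R := R) (b j)).map (IsScalarTower.toAlgHom R C L)).tower_top
  have := IntermediateField.finiteDimensional_adjoin (K := L₀) (S := S) hint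
  have htop : IntermediateField.adjoin L₀ S = ⊤ := by
    rw [eq_top_iff]
    intro x _
    have hB : ∀ y : C, algebraMap C L y ∈ IntermediateField.adjoin L₀ S := fun y => by
      obtain ⟨c, rfl⟩ := (Submodule.mem_span_range_iff_exists_fun R).mp (hb.ge (Submodule.mem_top (x := y)))
      rw [map_sum]
      refine sum_mem fun j _ => ?_
      rw [Algebra.smul_def, map_mul, ← IsScalarTower.algebraMap_apply R C L, IsScalarTower.algebraMap_apply R L₀ L]
      exact mul_mem (IntermediateField.algebraMap_mem _ _) (IntermediateField.subset_adjoin _ _ ⟨j, rfl⟩)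
    obtain ⟨a, s, -, rfl⟩ := IsFractionRing.div_surjective (A := C) x
    exact div_mem (hB a) (hB s)
  rw [htop] at this
  exact Module.Finite.equiv (IntermediateField.topEquiv (F := L₀) (E := L)).toLinearEquiv

/-- The basic exact-sequence count. -/
theorem core (n : ℕ) (hn : ringKrullDim C = (n : WithBot ℕ∞)) :
    Module.Finite L (LinearMap.ker (KaehlerDifferential.mapBaseChange ℤ k L)) ∧
      (Module.Finite L (KaehlerDifferential k L) → ∃ c, n ≤ c ∧
        Module.finrank L (KaehlerDifferential k L) =
          c + Module.finrank L (LinearMap.ker (KaehlerDifferential.mapBaseChange ℤ k L)) ∧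
        ∀ (p : ℕ) [Fact p.Prime] [CharP k p], (frobenius k p).Finite → c ≤ n) := by
  classical
  obtain ⟨_, _, _, _, _, hfd⟩ := exists_tower (k := k) (C := C) (L := L) n hn
  let R := MvPowerSeries (Fin n) k
  let Q := FractionRing R
  obtain ⟨d, hd, hg⟩ := cart_int Q L
  have hd0 : d = 0 := by
    rw [trdeg_eq_zero (R := Q) (A := L)] at hd
    exact_mod_cast hd.symm
  subst hd0
  let g := KaehlerDifferential.mapBaseChange ℤ Q L
  let h := KaehlerDifferential.mapBaseChange ℤ k Q
  let e := AlgebraTensorModule.cancelBaseChange k Q L L (KaehlerDifferential ℤ k)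
  let f := (h.baseChange L) ∘ₗ e.symm.toLinearMap
  have hf : Function.Injective f :=
    (Module.Flat.lTensor_preserves_injective_linearMap _ injective_mapBaseChange).comp e.symm.injective
  have hgf : g ∘ₗ f = KaehlerDifferential.mapBaseChange ℤ k L := by
    show g ∘ₗ (h.baseChange L) ∘ₗ e.symm.toLinearMap = _
    rw [← LinearMap.comp_assoc, FieldSep.Imperfection.mapBaseChange_comp, LinearMap.comp_assoc,
      LinearEquiv.comp_symm, LinearMap.comp_id]
  obtain ⟨hker, hcount⟩ := index_comp hf (show Fred g 0 by simpa using hg)
  rw [hgf] at hker hcount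
  refine ⟨hker, fun hfin => ?_⟩
  let eL : (KaehlerDifferential ℤ L ⧸ LinearMap.range (KaehlerDifferential.mapBaseChange ℤ k L)) ≃ₗ[L]
      KaehlerDifferential k L :=
    (Submodule.quotEquivOfEq _ ((KaehlerDifferential.map ℤ k L L).ker)
        (KaehlerDifferential.exact_mapBaseChange_map ℤ k L).linearMap_ker_eq.symm).trans
      (LinearMap.quotKerEquivOfSurjective _ (KaehlerDifferential.map_surjective ℤ k L))
  obtain ⟨hV, hc⟩ := hcount (Module.Finite.equiv eL.symm)
  rw [eL.finrank_eq] at hc
  refine ⟨_, ?_, hc, fun p _ _ hk => ?_⟩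
  · -- the partial derivatives give `n` independent functionals
    have hψ : ∀ i : Fin n, ∃ ψ : Derivation k Q Q,
        ∀ x : R, ψ (algebraMap R Q x) = algebraMap R Q (MvPowerSeries.pderiv k i x) := fun i =>
      GeomReg.exists_extension (k := k) (K := Q) (S := Q) (nonZeroDivisors R)
        ((Algebra.linearMap R Q).compDer (MvPowerSeries.pderiv k i))
    choose ψ hψ using hψ
    let Φ : (L ⊗[Q] KaehlerDifferential ℤ Q) →ₗ[L] (Fin n → L) :=
      LinearMap.pi fun i => LinearMap.liftBaseChange L
        ((Algebra.linearMap Q L) ∘ₗ ((ψ i).restrictScalars ℤ).liftKaehlerDifferential)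
    have hΦ : LinearMap.range f ≤ LinearMap.ker Φ := by
      rintro _ ⟨x, rfl⟩
      show Φ ((h.baseChange L) (e.symm x)) = 0
      induction e.symm x with
      | zero => simp
      | add a b ha hb => rw [map_add, map_add, ha, hb, add_zero]
      | tmul l w =>
        ext i
        rw [LinearMap.baseChange_tmul]
        simp only [Φ, LinearMap.pi_apply, LinearMap.liftBaseChange_tmul, LinearMap.comp_apply, Pi.zero_apply]
        suffices hzero : ((ψ i).restrictScalars ℤ).liftKaehlerDifferential (h w) = 0 by simp [hzero]
        induction w with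
        | zero => simp
        | add a b ha hb => rw [map_add, map_add, ha, hb, add_zero]
        | tmul q ω =>
          rw [KaehlerDifferential.mapBaseChange_tmul, map_smul]
          suffices h0 : ((ψ i).restrictScalars ℤ).liftKaehlerDifferential
              (KaehlerDifferential.map ℤ ℤ k Q ω) = 0 by simp [h0]
          have hmem : ω ∈ Submodule.span k (Set.range (KaehlerDifferential.D ℤ k)) := by
            rw [KaehlerDifferential.span_range_derivation]; trivial
          induction hmem using Submodule.span_induction with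
          | mem y hy =>
            obtain ⟨a, rfl⟩ := hy
            rw [KaehlerDifferential.map_D, Derivation.liftKaehlerDifferential_comp_D]
            exact (ψ i).map_algebraMap a
          | zero => simp
          | add a b _ _ ha hb => rw [map_add, map_add, ha, hb, add_zero]
          | smul a y _ hy => rw [map_smul, LinearMap.map_smul_of_tower, hy, smul_zero]
    let Φ' := (LinearMap.range f).liftQ Φ hΦ
    have hsurj : Function.Surjective Φ' := by
      intro a
      refine ⟨∑ i, a i • Submodule.Quotient.mk
        ((1 : L) ⊗ₜ[Q] KaehlerDifferential.D ℤ Q (algebraMap R Q (MvPowerSeries.X i))), ?_⟩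
      ext j
      simp [Φ', Φ, hψ, MvPowerSeries.pderiv_X, Pi.single_apply, apply_ite (algebraMap R Q),
        apply_ite (algebraMap Q L)]
    have h1 := LinearMap.finrank_range_le Φ'
    rw [LinearMap.range_eq_top.mpr hsurj, finrank_top] at h1
    simpa using h1
  · -- and the `d Xᵢ` span
    have := GeomReg.finite_kaehler_powerSeries p hk n
    let T : Submodule L ((L ⊗[Q] KaehlerDifferential ℤ Q) ⧸ LinearMap.range f) :=
      Submodule.span L (Set.range fun i => Submodule.Quotient.mk
        ((1 : L) ⊗ₜ[Q] KaehlerDifferential.D ℤ Q (algebraMap R Q (MvPowerSeries.X i))))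
    let N₀ : Submodule Q (KaehlerDifferential ℤ Q) :=
      (T.restrictScalars Q).comap ((((LinearMap.range f).mkQ).restrictScalars Q) ∘ₗ TensorProduct.mk Q L _ 1)
    let N : Submodule R (KaehlerDifferential ℤ R) :=
      (N₀.restrictScalars R).comap (KaehlerDifferential.map ℤ ℤ R Q)
    have hN : N = ⊤ := by
      refine GeomReg.eq_top_of_mem N (fun ω => ?_) fun i => ?_
      · show (LinearMap.range f).mkQ ((1 : L) ⊗ₜ[Q]
          KaehlerDifferential.map ℤ ℤ R Q (KaehlerDifferential.map ℤ ℤ k R ω)) ∈ T
        rw [Submodule.mkQ_apply, (Submodule.Quotient.mk_eq_zero _).mpr ?_]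
        · exact zero_mem _
        refine ⟨(1 : L) ⊗ₜ[k] ω, ?_⟩
        show (h.baseChange L) (e.symm ((1 : L) ⊗ₜ[k] ω)) = _
        rw [show e.symm ((1 : L) ⊗ₜ[k] ω) = (1 : L) ⊗ₜ[Q] ((1 : Q) ⊗ₜ[k] ω) from
          AlgebraTensorModule.cancelBaseChange_symm_tmul k Q L (1 : L) ω,
          LinearMap.baseChange_tmul, KaehlerDifferential.mapBaseChange_tmul, one_smul]
        congr 1
        have hmem : ω ∈ Submodule.span k (Set.range (KaehlerDifferential.D ℤ k)) := by
          rw [KaehlerDifferential.span_range_derivation]; trivial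
        induction hmem using Submodule.span_induction with
        | mem y hy =>
          obtain ⟨a, rfl⟩ := hy
          simp [← IsScalarTower.algebraMap_apply]
        | zero => simp
        | add a b _ _ ha hb => rw [map_add, map_add, map_add, ha, hb]
        | smul a y _ hy => rw [map_smul, map_smul, LinearMap.map_smul_of_tower, hy]
      · show (LinearMap.range f).mkQ ((1 : L) ⊗ₜ[Q]
          KaehlerDifferential.map ℤ ℤ R Q (KaehlerDifferential.D ℤ R (MvPowerSeries.X i))) ∈ T
        rw [KaehlerDifferential.map_D]
        exact Submodule.subset_span ⟨i, rfl⟩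
    have hN₀ : N₀ = ⊤ := by
      rw [eq_top_iff, ← span_eq_top_of_isLocalizedModule Q (nonZeroDivisors R) (KaehlerDifferential.map ℤ ℤ R Q)
        (v := (⊤ : Submodule R (KaehlerDifferential ℤ R))) (by simp), Submodule.span_le]
      rintro _ ⟨ω, -, rfl⟩
      exact (show ω ∈ N from hN ▸ Submodule.mem_top)
    have hT : T = ⊤ := by
      refine eq_top_iff.mpr fun y => ?_
      obtain ⟨v, rfl⟩ := Submodule.mkQ_surjective _ y
      rintro -
      induction v with
      | zero => simp
      | add a b ha hb => rw [map_add]; exact add_mem ha hb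
      | tmul l ω =>
        rw [show l ⊗ₜ[Q] ω = l • ((1 : L) ⊗ₜ[Q] ω) by rw [TensorProduct.smul_tmul', smul_eq_mul, mul_one], map_smul]
        exact Submodule.smul_mem _ _ (show ω ∈ N₀ from hN₀ ▸ Submodule.mem_top)
    have h2 := finrank_range_le_card (R := L) (fun i => (Submodule.Quotient.mk
        ((1 : L) ⊗ₜ[Q] KaehlerDifferential.D ℤ Q (algebraMap R Q (MvPowerSeries.X i))) :
        (L ⊗[Q] KaehlerDifferential ℤ Q) ⧸ LinearMap.range f))
    rw [Set.finrank, show Submodule.span L _ = ⊤ from hT, finrank_top] at h2
    simpa using h2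

omit [Field L] [Algebra C L] [IsFractionRing C L] [Algebra k L] [IsScalarTower k C L] in
/-- Differentials of a complete local domain over an `F`-finite field are finite. -/
theorem finite_kaehler (p : ℕ) [Fact p.Prime] [CharP k p] (hk : (frobenius k p).Finite) :
    Module.Finite C (KaehlerDifferential k C) := by
  classical
  obtain ⟨m, w, hwinj, hwloc, hwfin⟩ := AdicFS.CompleteNoether.exists_finite_injective (k₀ := k) (A := C)
  let R := MvPowerSeries (Fin m) k
  let _ : Algebra R C := w.toRingHom.toAlgebra
  have : IsScalarTower k R C := IsScalarTower.of_algebraMap_eq fun c => (w.commutes c).symm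
  have : Module.Finite R C := hwfin
  obtain ⟨M, s, hs⟩ := @Module.Finite.exists_fin R (KaehlerDifferential ℤ R) _ _ _
    (GeomReg.finite_kaehler_powerSeries p hk m)
  obtain ⟨N, b, hb⟩ := Module.Finite.exists_fin (R := R) (M := C)
  let v : Fin M ⊕ Fin N → KaehlerDifferential ℤ C :=
    Sum.elim (fun l => KaehlerDifferential.map ℤ ℤ R C (s l)) (fun j => KaehlerDifferential.D ℤ C (b j))
  have hv : Submodule.span C (Set.range v) = ⊤ := by
    rw [eq_top_iff, ← KaehlerDifferential.span_range_derivation, Submodule.span_le]
    rintro _ ⟨x, rfl⟩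
    obtain ⟨c, rfl⟩ := (Submodule.mem_span_range_iff_exists_fun R).mp (hb.ge (Submodule.mem_top (x := x)))
    rw [map_sum]
    refine sum_mem fun j _ => ?_
    rw [Algebra.smul_def, Derivation.leibniz]
    refine add_mem (Submodule.smul_mem _ _ (Submodule.subset_span ⟨Sum.inr j, rfl⟩)) (Submodule.smul_mem _ _ ?_)
    obtain ⟨a, ha⟩ := (Submodule.mem_span_range_iff_exists_fun R).mp
      (hs.ge (Submodule.mem_top (x := KaehlerDifferential.D ℤ R (c j))))
    rw [← KaehlerDifferential.map_D ℤ ℤ R C, ← ha, map_sum]
    refine sum_mem fun l _ => ?_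
    rw [map_smul, ← algebraMap_smul C (a l)]
    exact Submodule.smul_mem _ _ (Submodule.subset_span ⟨Sum.inl l, rfl⟩)
  have : Module.Finite C (KaehlerDifferential ℤ C) := ⟨Submodule.fg_def.mpr ⟨_, Set.finite_range v, hv⟩⟩
  exact Module.Finite.of_surjective (KaehlerDifferential.map ℤ k C C) (KaehlerDifferential.map_surjective ℤ k C)

end Groth.Agent.DerExt61.Imperfection
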