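import Groth.Agent.DerExt61.SepDer
import Groth.Agent.S9443
import Groth.Agent.FieldSep.MacLane
import Mathlib

/-!
# Nagata's Jacobian criterion with derivations
-/

set_option autoImplicit false
set_option linter.style.haveILetI false
universe u

open IsLocalRing TensorProduct KaehlerDifferential

noncomputable section

namespace Groth.Agent.DerExt61.NagataDer

open Groth.Agent.EGA41Lib

/-- A ring equivalence conjugates derivations. -/
def conj {k A B : Type u} [CommRing k] [CommRing A] [CommRing B] [Algebra k A] [Algebra k B] (e : A ≃ₐ[k] B)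
    (d : Derivation k B B) : Derivation k A A :=
  Derivation.mk' (e.symm.toLinearMap ∘ₗ d.toLinearMap ∘ₗ e.toLinearMap) fun a b => by
    simp [Derivation.leibniz]

theorem conj_apply {k A B : Type u} [CommRing k] [CommRing A] [CommRing B] [Algebra k A] [Algebra k B]
    (e : A ≃ₐ[k] B) (d : Derivation k B B) (a : A) : conj e d a = e.symm (d (e a)) := rfl

/-- A coefficient field gives a power series presentation. -/
theorem exists_equiv_of_section {A : Type u} [CommRing A] [IsRegularLocalRing A]
    [IsAdicComplete (maximalIdeal A) A] [Algebra (ResidueField A) A]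
    (hs : ∀ x, residue A (algebraMap (ResidueField A) A x) = x) :
    ∃ r : ℕ, Nonempty (A ≃ₐ[ResidueField A] MvPowerSeries (Fin r) (ResidueField A)) :=
  S9443.result A (ResidueField A)
    ⟨fun a b hab => (hs a).symm.trans ((hab : residue A _ = residue A _).trans (hs b)), fun y => ⟨y, hs y⟩⟩

section Residue

variable {k A S : Type u} [Field k] [CommRing A] [CommRing S] [IsLocalRing S] [Algebra k A] [Algebra k S]
  [Algebra A S] [IsScalarTower k A S] (P : Ideal A) [P.IsPrime]

open SepDer in
/-- Elements of `k` with derivations dual to them give independent differentials at `P`. -/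
theorem exists_functionals {σ : Type} [Fintype σ] [DecidableEq σ] (c : σ → k) (d : σ → Derivation ℤ k k)
    (hd : ∀ i j, d i (c j) = if i = j then 1 else 0)
    (hS : Function.Injective ((mapBaseChange ℤ k S).lTensor (ResidueField S)))
    (hker : ∀ a, algebraMap A (ResidueField S) a = 0 ↔ a ∈ P)
    (hsurj : ∀ z : ResidueField S, ∃ a t, t ∉ P ∧ z * algebraMap A (ResidueField S) t = algebraMap A (ResidueField S) a) :
    ∀ l, ∃ E : Derivation ℤ A P.ResidueField, (∀ j, E (algebraMap k A (c j)) = if l = j then 1 else 0) ∧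
      ∀ a, algebraMap A S a = 0 → E a = 0 := by
  classical
  intro l
  let K := ResidueField S
  let M := K ⊗[S] Ω[S⁄ℤ]
  let x : σ → M := fun j => (1 : K) ⊗ₜ[S] D ℤ S (algebraMap k S (c j))
  -- independence
  have hx : LinearIndependent K x := by
    rw [Fintype.linearIndependent_iff]
    intro b hb i
    let η : K ⊗[S] (S ⊗[k] Ω[k⁄ℤ]) := ∑ j, b j • ((1 : K) ⊗ₜ[S] ((1 : S) ⊗ₜ[k] D ℤ k (c j)))
    have hη : (mapBaseChange ℤ k S).lTensor K η = 0 := by
      rw [← hb, map_sum]
      refine Finset.sum_congr rfl fun j _ => ?_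
      rw [show b j • ((1 : K) ⊗ₜ[S] ((1 : S) ⊗ₜ[k] D ℤ k (c j))) = b j ⊗ₜ[S] ((1 : S) ⊗ₜ[k] D ℤ k (c j)) by
          rw [smul_tmul', smul_eq_mul, mul_one],
        LinearMap.lTensor_tmul, mapBaseChange_tmul, one_smul, map_D, smul_tmul', smul_eq_mul, mul_one]
    have h0 : η = 0 := hS (by rw [hη, map_zero])
    let φ : Ω[k⁄ℤ] →ₗ[k] k := (d i).liftKaehlerDifferential
    let Ψ : K ⊗[S] (S ⊗[k] Ω[k⁄ℤ]) →ₗ[K] K :=
      LinearMap.liftBaseChange K (LinearMap.liftBaseChange S ((Algebra.linearMap k K).comp φ))
    have h1 : Ψ η = b i := by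
      rw [map_sum, Finset.sum_eq_single i]
      · simp [Ψ, φ, hd]
      · intro j _ hji
        simp [Ψ, φ, hd, Ne.symm hji]
      · simp
    rw [← h1, h0, map_zero]
  obtain ⟨g, hg⟩ := LinearMap.exists_leftInverse_of_injective (Fintype.linearCombination K x)
    (LinearMap.ker_eq_bot.mpr hx.fintypeLinearCombination_injective)
  let φ : M →ₗ[K] K := (LinearMap.proj l) ∘ₗ g
  -- the identification of residue fields
  haveI : IsDomain (A ⧸ P) := inferInstance
  let θ₀ : (A ⧸ P) →+* K := Ideal.Quotient.lift P (algebraMap A K) fun a ha => (hker a).mpr ha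
  have hθ₀ : Function.Injective θ₀ := RingHom.lift_injective_of_ker_le_ideal P _ fun a ha => (hker a).mp ha
  let θ : P.ResidueField →+* K := IsFractionRing.lift hθ₀
  have hθA : ∀ a, θ (algebraMap A P.ResidueField a) = algebraMap A K a := fun a => by
    rw [IsScalarTower.algebraMap_apply A (A ⧸ P) P.ResidueField]
    exact IsFractionRing.lift_algebraMap hθ₀ _
  have hθs : Function.Surjective θ := fun z => by
    obtain ⟨a, t, ht, h⟩ := hsurj z
    have ht0 : algebraMap A K t ≠ 0 := fun h => ht ((hker t).mp h)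
    exact ⟨algebraMap A _ a / algebraMap A _ t, by rw [map_div₀, hθA, hθA, div_eq_iff ht0, h]⟩
  let e := RingEquiv.ofBijective θ ⟨θ.injective, hθs⟩
  let δ : A →+ P.ResidueField := AddMonoidHom.mk' (fun a => e.symm (φ ((1 : K) ⊗ₜ[S] D ℤ S (algebraMap A S a))))
    fun a b => by simp [TensorProduct.tmul_add]
  refine ⟨Derivation.mk' δ.toIntLinearMap fun a b => ?_, fun j => ?_, fun a ha => ?_⟩
  · show δ (a * b) = a • δ b + b • δ a
    apply e.injective
    simp only [δ, AddMonoidHom.mk'_apply, Algebra.smul_def, map_add, map_mul, RingEquiv.apply_symm_apply,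
      Derivation.leibniz, TensorProduct.tmul_add]
    rw [show e (algebraMap A P.ResidueField a) = algebraMap A K a from hθA a,
      show e (algebraMap A P.ResidueField b) = algebraMap A K b from hθA b]
    simp only [TensorProduct.tmul_smul, ← algebraMap_smul K (algebraMap A S a), ← algebraMap_smul K (algebraMap A S b),
      map_smul, smul_eq_mul, IsScalarTower.algebraMap_apply A S K]
  · show e.symm (φ ((1 : K) ⊗ₜ[S] D ℤ S (algebraMap A S (algebraMap k A (c j))))) = _
    rw [← IsScalarTower.algebraMap_apply k A S]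
    have := congrFun (DFunLike.congr_fun hg (Pi.single j 1)) l
    rw [LinearMap.comp_apply, Fintype.linearCombination_apply_single, one_smul, LinearMap.id_apply,
      Pi.single_apply] at this
    rw [show φ ((1 : K) ⊗ₜ[S] D ℤ S (algebraMap k S (c j))) = _ from this]
    split_ifs <;> simp
  · show e.symm (φ ((1 : K) ⊗ₜ[S] D ℤ S (algebraMap A S a))) = 0
    rw [ha, map_zero, tmul_zero, map_zero, map_zero]

end Residue

section CharP

variable (p : ℕ) [hp : Fact p.Prime] {k A : Type u} [Field k] [CharP k p] [CommRing A] [IsRegularLocalRing A]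
  [IsAdicComplete (maximalIdeal A) A] [Algebra k A]

/-- The subfield of `p`-th powers. -/
abbrev kp : Subfield k := (frobenius k p).fieldRange

include hp in
omit [IsAdicComplete (maximalIdeal A) A] in
theorem kills_kp (E : Derivation ℤ A A) {c : k} (hc : c ∈ kp p (k := k)) : E (algebraMap k A c) = 0 := by
  obtain ⟨y, rfl⟩ := hc
  haveI : Nontrivial A := inferInstance
  haveI : CharP A p := (RingHom.charP_iff (algebraMap k A) (algebraMap k A).injective p).mp inferInstance
  rw [frobenius_def, map_pow, Derivation.leibniz_pow, ← Nat.cast_smul_eq_nsmul A, CharP.cast_eq_zero, zero_smul]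

variable [Module.Finite (kp p (k := k)) k]

include hp in
omit [IsAdicComplete (maximalIdeal A) A] in
theorem eq_on_k (B : FrobDer.Coord (kp p (k := k))) (E : Derivation ℤ A A) (d : k →+ k)
    (hd : ∀ a b, d (a * b) = a * d b + b * d a) (hdk : ∀ c ∈ kp p (k := k), d c = 0)
    (hb : ∀ m, E (algebraMap k A (B.b m)) = algebraMap k A (d (B.b m))) (c : k) :
    E (algebraMap k A c) = algebraMap k A (d c) := by
  have hc : c ∈ Algebra.adjoin (kp p (k := k)) (Set.range B.b) := by rw [B.adjoin]; trivial
  induction hc using Algebra.adjoin_induction with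
  | mem y hy => obtain ⟨m, rfl⟩ := hy; exact hb m
  | algebraMap s =>
    show E (algebraMap k A (s : k)) = algebraMap k A (d (s : k))
    rw [kills_kp p E s.2, hdk _ s.2, map_zero]
  | add a b _ _ ha hb => simp only [map_add, ha, hb]
  | mul a b _ _ ha hb => simp [ha, hb, hd]

variable {K : Type u} [Field K] [CharP K p] [Algebra K A] {r : ℕ} (e : A ≃ₐ[K] MvPowerSeries (Fin r) K)

include hp e in
theorem exists_ext_der (hA : Function.Injective ((mapBaseChange ℤ k A).lTensor (ResidueField A)))
    (d : k →+ k) (hd : ∀ a b, d (a * b) = a * d b + b * d a) :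
    ∃ δ : A →+ A, (∀ a b, δ (a * b) = a * δ b + b * δ a) ∧ ∀ c, δ (algebraMap k A c) = algebraMap k A (d c) := by
  classical
  obtain ⟨B⟩ := FrobDer.exists_coord p (kp p (k := k)) fun c => ⟨c, rfl⟩
  let m := maximalIdeal A
  let L := m.ResidueField
  let db : Fin B.δ → Derivation ℤ k k := fun i => Derivation.mk' (B.d i).toIntLinearMap (B.leib i)
  have hfun := exists_functionals (S := A) m B.b db B.dual hA
    (fun a => residue_eq_zero_iff a)
    (fun z => by
      obtain ⟨a, rfl⟩ := residue_surjective z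
      exact ⟨a, 1, fun h => (maximalIdeal.isMaximal A).ne_top ((Ideal.eq_top_iff_one _).mpr h), by simp⟩)
  choose E hE _ using hfun
  let x : ULift.{u} (Fin B.δ) → A := fun i => algebraMap k A (B.b i.down)
  have hx : LinearIndependent L (SepDer.dW m ∘ x) := by
    rw [Fintype.linearIndependent_iff]
    intro b hb i
    have h1 := congrArg (SepDer.ev m (E i.down)) hb
    simp only [map_sum, map_smul, Function.comp_apply, SepDer.ev_dW, x, hE, map_zero] at h1
    rw [Finset.sum_eq_single i] at h1
    · simpa using h1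
    · intro j _ hj
      rw [if_neg (fun h => hj (ULift.ext _ _ h.symm)), smul_zero]
    · simp
  haveI : IsRegularLocalRing (Localization.AtPrime m) := RegLoc.Homological.isRegularLocalRing_localization m
  obtain ⟨Δ, hΔ, D', hD'⟩ := SepDer.exists_dual_derivations m (SepDer.eq_zero_of_forall_evD p e m) x hx
  obtain ⟨u, hu⟩ : ∃ u, u * Δ = 1 := by
    have h : IsUnit Δ := by_contra fun h => hΔ ((mem_maximalIdeal Δ).mpr h)
    exact h.exists_left_inv
  let δ : Derivation ℤ A A := ∑ i, (algebraMap k A (d (B.b i.down)) * u) • D' i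
  refine ⟨δ.toLinearMap.toAddMonoidHom, δ.leibniz, eq_on_k p B δ d hd (fun c hc => ?_) fun n => ?_⟩
  · obtain ⟨y, rfl⟩ := hc
    let dd : Derivation ℤ k k := Derivation.mk' d.toIntLinearMap hd
    show dd (frobenius k p y) = 0
    rw [frobenius_def, Derivation.leibniz_pow, ← Nat.cast_smul_eq_nsmul k, CharP.cast_eq_zero, zero_smul]
  · show Derivation.coeFnAddMonoidHom δ (algebraMap k A (B.b n)) = _
    simp only [δ, map_sum, Finset.sum_apply, Derivation.coeFnAddMonoidHom_apply, Derivation.coe_smul, Pi.smul_apply]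
    rw [Finset.sum_eq_single ⟨n⟩]
    · rw [show D' ⟨n⟩ (algebraMap k A (B.b n)) = Δ from (hD' ⟨n⟩ ⟨n⟩).trans (if_pos rfl), smul_eq_mul, mul_assoc, hu,
        mul_one]
    · intro j _ hj
      rw [show D' j (algebraMap k A (B.b n)) = 0 from (hD' j ⟨n⟩).trans (if_neg hj), smul_zero]
    · simp

include hp e in
theorem JC_of_smooth (q P : Ideal A) [P.IsPrime] [(P.map (Ideal.Quotient.mk q)).IsPrime] (hqp : q ≤ P)
    (h : CAlgX.IsAdicFormallySmooth k (Localization.AtPrime (P.map (Ideal.Quotient.mk q)))
      (maximalIdeal (Localization.AtPrime (P.map (Ideal.Quotient.mk q))))) : NagataCrit.JC k q P := by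
  classical
  obtain ⟨B⟩ := FrobDer.exists_coord p (kp p (k := k)) fun c => ⟨c, rfl⟩
  let L := P.ResidueField
  let Ap := Localization.AtPrime P
  let Bp := Localization.AtPrime (P.map (Ideal.Quotient.mk q))
  obtain ⟨hreg, hinj⟩ := S2471.result.mp h
  haveI : IsRegularLocalRing Ap := RegLoc.Homological.isRegularLocalRing_localization P
  haveI : IsRegularLocalRing (Ap ⧸ q.map (algebraMap A Ap)) := NagataCrit.isRegularLocalRing_quotient hqp hreg
  obtain ⟨n, hn, -⟩ := RegLoc.exists_natCast_eq_ringKrullDim Ap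
  obtain ⟨S, T, hS, hST, hcard⟩ := RegLoc.exists_finset_span_eq_of_quotient hn (q.map (algebraMap A Ap))
  have hSq : ∀ z : S, ∃ (a : A) (u : P.primeCompl), a ∈ q ∧ (z : Ap) * algebraMap A Ap u = algebraMap A Ap a := by
    intro z
    obtain ⟨⟨a, u⟩, hau⟩ := (IsLocalization.mem_map_algebraMap_iff P.primeCompl Ap).mp
      (show (z : Ap) ∈ q.map (algebraMap A Ap) by rw [← hS]; exact Ideal.subset_span z.2)
    exact ⟨a, u, a.2, hau⟩
  have hTp : ∀ z : T, ∃ (a : A) (u : P.primeCompl), a ∈ P ∧ (z : Ap) * algebraMap A Ap u = algebraMap A Ap a := by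
    intro z
    obtain ⟨⟨a, u⟩, hau⟩ := (IsLocalization.mem_map_algebraMap_iff P.primeCompl Ap).mp
      (show (z : Ap) ∈ P.map (algebraMap A Ap) by
        rw [Localization.AtPrime.map_eq_maximalIdeal, ← hST]
        exact Ideal.mem_sup_right (Ideal.subset_span z.2))
    exact ⟨a, u, a.2, hau⟩
  choose a us haq hau using hSq
  choose b ut hbp hbu using hTp
  let c : S ⊕ T → A := Sum.elim a b
  have hcp : ∀ i, c i ∈ P := fun i => by
    rcases i with i | i
    · exact hqp (haq i)
    · exact hbp i
  have hgenS : Ideal.span (Set.range fun z : S => algebraMap A Ap (a z)) = q.map (algebraMap A Ap) := by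
    rw [← hS]
    refine le_antisymm (Ideal.span_le.mpr ?_) (Ideal.span_le.mpr ?_)
    · rintro _ ⟨z, rfl⟩
      show algebraMap A Ap (a z) ∈ _
      rw [← hau z]
      exact Ideal.mul_mem_right _ _ (Ideal.subset_span z.2)
    · intro z hz
      refine (Ideal.mul_unit_mem_iff_mem _ (IsLocalization.map_units Ap (us ⟨z, hz⟩))).mp ?_
      rw [hau ⟨z, hz⟩]
      exact Ideal.subset_span ⟨⟨z, hz⟩, rfl⟩
  have hgen : P.map (algebraMap A Ap) ≤ (Ideal.span (Set.range c)).map (algebraMap A Ap) := by
    rw [Localization.AtPrime.map_eq_maximalIdeal, ← hST, hS, ← hgenS, sup_le_iff, Ideal.span_le, Ideal.span_le]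
    refine ⟨?_, fun z hz => ?_⟩
    · rintro _ ⟨z, rfl⟩
      exact Ideal.mem_map_of_mem _ (Ideal.subset_span ⟨Sum.inl z, rfl⟩)
    · refine (Ideal.mul_unit_mem_iff_mem _ (IsLocalization.map_units Ap (ut ⟨z, hz⟩))).mp ?_
      rw [hbu ⟨z, hz⟩]
      exact Ideal.mem_map_of_mem _ (Ideal.subset_span ⟨Sum.inr ⟨z, hz⟩, rfl⟩)
  have hli := SepDer.linearIndependent_dW p e P c hcp hgen (by
    rw [hn, Fintype.card_sum, Fintype.card_coe, Fintype.card_coe, hcard])
  -- the constants
  have hAB : ∀ x : A, algebraMap A Bp x = algebraMap (A ⧸ q) Bp (Ideal.Quotient.mk q x) := fun x =>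
    IsScalarTower.algebraMap_apply A (A ⧸ q) Bp x
  have hker : ∀ x, algebraMap A (ResidueField Bp) x = 0 ↔ x ∈ P := fun x => by
    rw [IsScalarTower.algebraMap_apply A Bp (ResidueField Bp), show algebraMap Bp (ResidueField Bp) = residue Bp from rfl,
      residue_eq_zero_iff, hAB, IsLocalization.AtPrime.to_map_mem_maximal_iff Bp (P.map (Ideal.Quotient.mk q)),
      ← Ideal.mem_comap, NagataCrit.comap_map hqp]
  have hsurj : ∀ z : ResidueField Bp, ∃ a t, t ∉ P ∧
      z * algebraMap A (ResidueField Bp) t = algebraMap A (ResidueField Bp) a := fun z => by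
    obtain ⟨z, rfl⟩ := residue_surjective z
    obtain ⟨y, t, rfl⟩ := IsLocalization.exists_mk'_eq (P.map (Ideal.Quotient.mk q)).primeCompl z
    obtain ⟨y, rfl⟩ := Ideal.Quotient.mk_surjective y
    obtain ⟨t', ht'⟩ := Ideal.Quotient.mk_surjective (t : A ⧸ q)
    refine ⟨y, t', fun ht => t.2 (ht' ▸ Ideal.mem_map_of_mem _ ht), ?_⟩
    rw [IsScalarTower.algebraMap_apply A Bp (ResidueField Bp), IsScalarTower.algebraMap_apply A Bp (ResidueField Bp),
      hAB, hAB, ht', show algebraMap Bp (ResidueField Bp) = residue Bp from rfl, ← map_mul, IsLocalization.mk'_spec]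
  let db : Fin B.δ → Derivation ℤ k k := fun i => Derivation.mk' (B.d i).toIntLinearMap (B.leib i)
  have hfun := exists_functionals (A := A) (S := Bp) P B.b db B.dual hinj hker hsurj
  choose E hE hEq using hfun
  let x : S ⊕ ULift.{u} (Fin B.δ) → A := Sum.elim a fun i => algebraMap k A (B.b i.down)
  have hx : LinearIndependent L (SepDer.dW P ∘ x) := by
    rw [Fintype.linearIndependent_iff]
    intro g hg
    have hr : ∀ l, g (Sum.inr l) = 0 := fun l => by
      have h1 := congrArg (SepDer.ev P (E l.down)) hg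
      rw [map_sum, map_zero, Fintype.sum_sum_type] at h1
      have h2 : ∀ i : S, E l.down (a i) = 0 := fun i => hEq _ _ (by
        rw [hAB, Ideal.Quotient.eq_zero_iff_mem.mpr (haq i), map_zero])
      simp only [map_smul, Function.comp_apply, SepDer.ev_dW, x, Sum.elim_inl, Sum.elim_inr, h2, smul_zero,
        Finset.sum_const_zero, zero_add, hE] at h1
      rw [Finset.sum_eq_single l] at h1
      · simpa using h1
      · intro j _ hj
        rw [if_neg (fun h => hj (ULift.ext _ _ h.symm)), smul_zero]
      · simp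
    rintro (i | l)
    · rw [Fintype.sum_sum_type, Finset.sum_eq_zero (s := (Finset.univ : Finset (ULift.{u} (Fin B.δ)))) (fun j _ => by
        rw [hr j, zero_smul]), add_zero] at hg
      refine Fintype.linearIndependent_iff.mp (hli.comp Sum.inl Sum.inl_injective) (fun i => g (Sum.inl i)) ?_ i
      rw [← hg]
      exact Finset.sum_congr rfl fun j _ => by simp [x, c]
    · exact hr l
  obtain ⟨Δ, hΔ, D', hD'⟩ := SepDer.exists_dual_derivations P (SepDer.eq_zero_of_forall_evD p e P) x hx
  let eS := S.equivFin.symm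
  let f : Fin S.card → A := fun i => a (eS i)
  have hk : ∀ (i : S) (c : k), D' (Sum.inl i) (algebraMap k A c) = 0 := fun i c => by
    have := eq_on_k p B (D' (Sum.inl i)) 0 (fun _ _ => by simp) (fun _ _ => rfl) (fun m => by
      rw [AddMonoidHom.zero_apply, map_zero]
      exact (hD' (Sum.inl i) (Sum.inr ⟨m⟩)).trans (if_neg Sum.inl_ne_inr)) c
    simpa using this
  let D : Fin S.card → Derivation k A A := fun i => Derivation.mk'
    { toFun := D' (Sum.inl (eS i))
      map_add' := fun a b => map_add _ a b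
      map_smul' := fun c z => by
        simp only [RingHom.id_apply, Algebra.smul_def, Derivation.leibniz, hk, smul_eq_mul, mul_zero, add_zero, Algebra.algebraMap_self, RingHom.id_apply] }
    fun a b => (D' (Sum.inl (eS i))).leibniz a b
  refine ⟨S.card, D, f, fun i => haq _, ?_, fun hdet => ?_⟩
  · rw [← hgenS]
    congr 1
    exact (eS.surjective.range_comp fun z : S => algebraMap A Ap (a z)).symm
  · have hM : (Matrix.of fun i j => D i (f j)) = Matrix.diagonal fun _ => Δ := by
      ext i j
      rw [Matrix.of_apply, Matrix.diagonal_apply]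
      refine (hD' (Sum.inl (eS i)) (Sum.inl (eS j))).trans ?_
      simp
    rw [hM, Matrix.det_diagonal, Finset.prod_const] at hdet
    exact hΔ (Ideal.IsPrime.mem_of_pow_mem ‹_› _ hdet)

end CharP

section CharZero

variable {k A K : Type u} [Field k] [CharZero k] [CommRing A] [IsRegularLocalRing A] [Field K] [Algebra k A]
  [Algebra k K] [Algebra K A] [IsScalarTower k K A] {r : ℕ} (e : A ≃ₐ[K] MvPowerSeries (Fin r) K)

include e in
omit [IsRegularLocalRing A] in
theorem exists_ext_der_charZero (d : k →+ k) (hd : ∀ a b, d (a * b) = a * d b + b * d a) :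
    ∃ δ : A →+ A, (∀ a b, δ (a * b) = a * δ b + b * δ a) ∧ ∀ c, δ (algebraMap k A c) = algebraMap k A (d c) := by
  haveI : Algebra.FormallySmooth k K := FieldSep.Cartier.formallySmooth_of_perfectField k K
  obtain ⟨g, hg⟩ := LinearMap.exists_leftInverse_of_injective (mapBaseChange ℤ k K)
    (LinearMap.ker_eq_bot.mpr FieldSep.MacLane.injective_of_formallySmooth)
  let dd : Derivation ℤ k k := Derivation.mk' d.toIntLinearMap hd
  let ψ : K ⊗[k] Ω[k⁄ℤ] →ₗ[K] K := LinearMap.liftBaseChange K ((Algebra.linearMap k K).comp dd.liftKaehlerDifferential)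
  let δK : Derivation ℤ K K := (ψ ∘ₗ g).compDer (KaehlerDifferential.D ℤ K)
  have hδK : ∀ c, δK (algebraMap k K c) = algebraMap k K (d c) := fun c => by
    show ψ (g (D ℤ K (algebraMap k K c))) = _
    have h1 : g (mapBaseChange ℤ k K (1 ⊗ₜ[k] D ℤ k c)) = 1 ⊗ₜ[k] D ℤ k c := DFunLike.congr_fun hg _
    rw [mapBaseChange_tmul, one_smul, map_D] at h1
    rw [h1]
    simp [ψ, dd] <;> rfl
  let δP := PSJacobian.coeffDer (σ := Fin r) δK.toLinearMap.toAddMonoidHom δK.leibniz
  have hδP : ∀ z : K, δP (MvPowerSeries.C z) = MvPowerSeries.C (δK z) := fun z => PSJacobian.coeffDer_C _ δK.leibniz z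
  refine ⟨AddMonoidHom.mk' (fun a => e.symm (δP (e a))) fun a b => by simp, fun a b => ?_, fun c => ?_⟩
  · simp [Derivation.leibniz]
  · show e.symm (δP (e (algebraMap k A c))) = _
    rw [IsScalarTower.algebraMap_apply k K A, AlgEquiv.commutes, MvPowerSeries.algebraMap_apply,
      Algebra.algebraMap_self, RingHom.id_apply, hδP]
    rw [hδK, IsScalarTower.algebraMap_apply k K A, ← AlgEquiv.commutes e.symm, MvPowerSeries.algebraMap_apply,
      Algebra.algebraMap_self, RingHom.id_apply]

include e in
theorem JC_of_smooth_charZero [IsAdicComplete (maximalIdeal A) A] (q P : Ideal A) [P.IsPrime]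
    [(P.map (Ideal.Quotient.mk q)).IsPrime] (hqp : q ≤ P)
    (h : IsRegularLocalRing (Localization.AtPrime (P.map (Ideal.Quotient.mk q)))) : NagataCrit.JC k q P := by
  classical
  let E := MvPowerSeries (Fin r) K
  let q' : Ideal E := q.map e.toRingEquiv.toRingHom
  let P' : Ideal E := P.map e.toRingEquiv.toRingHom
  haveI : P'.IsPrime := Ideal.map_isPrime_of_equiv e.toRingEquiv
  have hqp' : q' ≤ P' := Ideal.map_mono hqp
  let eq₁ : (A ⧸ q) ≃+* (E ⧸ q') := Ideal.quotientEquiv q q' e.toRingEquiv rfl
  have hmap : P'.map (Ideal.Quotient.mk q') = (P.map (Ideal.Quotient.mk q)).map eq₁.toRingHom := by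
    rw [Ideal.map_map, Ideal.map_map]
    congr 1
  haveI : (P'.map (Ideal.Quotient.mk q')).IsPrime := hmap ▸ Ideal.map_isPrime_of_equiv eq₁
  have hreg : IsRegularLocalRing (Localization.AtPrime (P'.map (Ideal.Quotient.mk q'))) := by
    refine IsRegularLocalRing.of_ringEquiv (R := Localization.AtPrime (P.map (Ideal.Quotient.mk q)))
      (IsLocalization.ringEquivOfRingEquiv (M := (P.map (Ideal.Quotient.mk q)).primeCompl)
        (T := (P'.map (Ideal.Quotient.mk q')).primeCompl) (Localization.AtPrime (P.map (Ideal.Quotient.mk q)))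
        (Localization.AtPrime (P'.map (Ideal.Quotient.mk q'))) eq₁ ?_)
    ext z
    simp only [Submonoid.mem_map, Ideal.mem_primeCompl_iff, hmap]
    constructor
    · rintro ⟨y, hy, rfl⟩
      intro h
      obtain ⟨y', hy', hyy⟩ := (Ideal.mem_map_iff_of_surjective eq₁.toRingHom eq₁.surjective).mp h
      exact hy (eq₁.injective hyy ▸ hy')
    · intro hz
      refine ⟨eq₁.symm z, fun h => hz ?_, eq₁.apply_symm_apply z⟩
      have := Ideal.mem_map_of_mem eq₁.toRingHom h
      simpa using this
  -- normalisation over the coefficient field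
  haveI : IsNoetherianRing E := isNoetherianRing_of_ringEquiv A e.toRingEquiv
  haveI : IsLocalRing (E ⧸ P') := IsLocalRing.of_surjective' (Ideal.Quotient.mk P') Ideal.Quotient.mk_surjective
  haveI : IsAdicComplete (maximalIdeal E) E := by
    have := PSLoc.maximalIdeal_eq (σ := Fin r) K
    rw [this]; infer_instance
  haveI : IsAdicComplete (maximalIdeal (E ⧸ P')) (E ⧸ P') := by
    have h := Adic.Rig.isAdicComplete_quotient (I := maximalIdeal E) P'
    haveI : IsLocalHom (Ideal.Quotient.mk P') := IsLocalHom.of_surjective _ Ideal.Quotient.mk_surjective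
    rwa [show (maximalIdeal E).map (Ideal.Quotient.mk P') = maximalIdeal (E ⧸ P') from
      IsLocalRing.eq_maximalIdeal ((Ideal.map_eq_top_or_isMaximal_of_surjective _ Ideal.Quotient.mk_surjective
        (maximalIdeal.isMaximal E)).resolve_left fun h =>
          (maximalIdeal.isMaximal (E ⧸ P')).ne_top (top_le_iff.mp (h ▸ Ideal.map_le_iff_le_comap.mpr fun a ha =>
            map_nonunit (Ideal.Quotient.mk P') a ha)))] at h
  haveI : Module.Finite K (ResidueField (E ⧸ P')) := by
    refine Module.Finite.of_surjective (Algebra.linearMap K (ResidueField (E ⧸ P'))) fun z => ?_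
    obtain ⟨ā, rfl⟩ := residue_surjective z
    obtain ⟨a, rfl⟩ := Ideal.Quotient.mk_surjective ā
    refine ⟨MvPowerSeries.constantCoeff a, ?_⟩
    rw [Algebra.linearMap_apply, IsScalarTower.algebraMap_apply K (E ⧸ P') (ResidueField (E ⧸ P')), eq_comm,
      show algebraMap (E ⧸ P') (ResidueField (E ⧸ P')) = residue (E ⧸ P') from rfl, ← sub_eq_zero, ← map_sub,
      residue_eq_zero_iff, show algebraMap K (E ⧸ P') _ = Ideal.Quotient.mk P' (algebraMap K E _) from rfl, ← map_sub]
    haveI : IsLocalHom (Ideal.Quotient.mk P') := IsLocalHom.of_surjective _ Ideal.Quotient.mk_surjective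
    refine map_nonunit (Ideal.Quotient.mk P') _ ?_
    rw [mem_maximalIdeal, mem_nonunits_iff, MvPowerSeries.isUnit_iff_constantCoeff, MvPowerSeries.algebraMap_apply]; simp
  obtain ⟨s, w, hwinj, -, hwfin⟩ := AdicFS.CompleteNoether.exists_finite_injective (k₀ := K) (A := E ⧸ P')
  letI : Algebra (MvPowerSeries (Fin s) K) (E ⧸ P') := w.toRingHom.toAlgebra
  haveI : IsScalarTower K (MvPowerSeries (Fin s) K) (E ⧸ P') :=
    IsScalarTower.of_algebraMap_eq fun c => (w.commutes c).symm
  haveI : Module.Finite (MvPowerSeries (Fin s) K) (E ⧸ P') := hwfin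
  let L' := FractionRing (MvPowerSeries (Fin s) K)
  let L := P'.ResidueField
  have hgL : Function.Injective ((algebraMap (E ⧸ P') L).comp w.toRingHom) :=
    (IsFractionRing.injective (E ⧸ P') L).comp hwinj
  letI : Algebra L' L := (IsFractionRing.lift (A := MvPowerSeries (Fin s) K) (K := L') hgL).toAlgebra
  letI : Algebra (MvPowerSeries (Fin s) K) L := ((algebraMap (E ⧸ P') L).comp w.toRingHom).toAlgebra
  haveI : IsScalarTower (MvPowerSeries (Fin s) K) (E ⧸ P') L := IsScalarTower.of_algebraMap_eq fun _ => rfl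
  haveI : IsScalarTower (MvPowerSeries (Fin s) K) L' L :=
    IsScalarTower.of_algebraMap_eq fun c => (IsFractionRing.lift_algebraMap hgL c).symm
  haveI : CharZero K := charZero_of_injective_algebraMap (algebraMap k K).injective
  haveI : CharZero L' := charZero_of_injective_algebraMap (algebraMap K L').injective
  haveI : Algebra.IsAlgebraic L' L := by
    haveI : Algebra.IsIntegral (MvPowerSeries (Fin s) K) (E ⧸ P') := Algebra.IsIntegral.of_finite _ _
    constructor
    intro z
    obtain ⟨a, b, -, rfl⟩ := IsFractionRing.div_surjective (A := E ⧸ P') z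
    have hint : ∀ a : E ⧸ P', IsIntegral L' (algebraMap (E ⧸ P') L a) := fun a =>
      ((Algebra.IsIntegral.isIntegral (R := MvPowerSeries (Fin s) K) a).map
        (IsScalarTower.toAlgHom (MvPowerSeries (Fin s) K) (E ⧸ P') L)).tower_top
    rw [div_eq_mul_inv]
    exact ((hint a).mul (hint b).inv).isAlgebraic
  haveI : Algebra.IsSeparable L' L := Algebra.IsAlgebraic.isSeparable_of_perfectField
  obtain ⟨m, D, f, hfq, hgen, hdet⟩ := NagataCrit.JC_of_isRegular (L' := L') (L := L) hqp' s hwinj hreg
  refine ⟨m, fun i => (conj e (D i)).restrictScalars k, fun i => e.symm (f i), fun i => ?_, ?_, ?_⟩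
  · have h1 : f i ∈ q.map e.toRingEquiv.toRingHom := hfq i
    obtain ⟨y, hy, hyf⟩ := (Ideal.mem_map_iff_of_surjective _ e.toRingEquiv.surjective).mp h1
    show e.symm (f i) ∈ q
    rw [← hyf]
    simpa using hy
  · refine le_antisymm (Ideal.map_le_iff_le_comap.mpr fun x hx => ?_) (Ideal.span_le.mpr ?_)
    · have h1 : algebraMap E (Localization.AtPrime P') (e x) ∈
          (Ideal.span (Set.range f)).map (algebraMap E (Localization.AtPrime P')) := by
        rw [Ideal.map_span, ← Set.range_comp]
        exact hgen ▸ Ideal.mem_map_of_mem _ (Ideal.mem_map_of_mem e.toRingEquiv.toRingHom hx)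
      obtain ⟨u, hu, hux⟩ := (IsLocalization.algebraMap_mem_map_algebraMap_iff P'.primeCompl _ _ _).mp h1
      have h2 := Ideal.mem_map_of_mem e.symm.toRingEquiv.toRingHom hux
      rw [Ideal.map_span, ← Set.range_comp] at h2
      rw [Ideal.mem_comap]
      rw [show (Set.range fun i => algebraMap A (Localization.AtPrime P) (e.symm (f i))) =
          algebraMap A (Localization.AtPrime P) '' Set.range (fun i => e.symm (f i)) by rw [← Set.range_comp]; rfl,
        ← Ideal.map_span, IsLocalization.algebraMap_mem_map_algebraMap_iff P.primeCompl]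
      refine ⟨e.symm u, fun h => hu ?_, ?_⟩
      · have := Ideal.mem_map_of_mem e.toRingEquiv.toRingHom h
        rwa [show e.toRingEquiv.toRingHom (e.symm u) = u from e.apply_symm_apply u] at this
      · simpa [Function.comp_def] using h2
    · rintro _ ⟨i, rfl⟩
      refine Ideal.mem_map_of_mem _ ?_
      obtain ⟨y, hy, hyf⟩ := (Ideal.mem_map_iff_of_surjective _ e.toRingEquiv.surjective).mp (hfq i)
      show e.symm (f i) ∈ q
      rw [← hyf]
      simpa using hy
  · intro h1
    apply hdet
    have h2 := Ideal.mem_map_of_mem e.toRingEquiv.toRingHom h1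
    rw [RingHom.map_det, RingHom.mapMatrix_apply] at h2
    convert h2 using 2
    ext i j
    simp [conj_apply, Derivation.restrictScalars_apply]

end CharZero

end Groth.Agent.DerExt61.NagataDer
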