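import Groth.Agent.DerExt61.Field
import Groth.Agent.AdicFS.CompleteNoether
import Groth.Agent.AdicFS.Completed
import Groth.Agent.LocAlgCx.NIT
import Groth.Agent.Adic.Basic
import Mathlib

/-!
# The rank of completed differentials is at least the dimension
-/

set_option autoImplicit false

noncomputable section

universe u

open IsLocalRing TensorProduct

namespace Groth.Agent.DerExt61.Rank

/-- Elements whose classes span the fibre generate near the prime. -/
theorem exists_smul_mem_of_span {A : Type u} [CommRing A] {M : Type u} [AddCommGroup M] [Module A M]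
    [Module.Finite A M] (p : Ideal A) [p.IsPrime] {ι : Type*} (y : ι → M)
    (hy : Submodule.span p.ResidueField (Set.range fun i => (1 : p.ResidueField) ⊗ₜ[A] y i) = ⊤) (m : M) :
    ∃ t ∉ p, t • m ∈ Submodule.span A (Set.range y) := by
  set K := p.ResidueField
  let N := Submodule.span A (Set.range y)
  have hsub : Subsingleton (K ⊗[A] (M ⧸ N)) := by
    have h1 : ∀ w : K ⊗[A] M, (N.mkQ.baseChange K) w = 0 := by
      intro w
      have hw : w ∈ Submodule.span K (Set.range fun i => (1 : K) ⊗ₜ[A] y i) := by rw [hy]; trivial
      induction hw using Submodule.span_induction with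
      | mem z hz =>
        obtain ⟨i, rfl⟩ := hz
        rw [LinearMap.baseChange_tmul, Submodule.mkQ_apply,
          (Submodule.Quotient.mk_eq_zero N).mpr (Submodule.subset_span ⟨i, rfl⟩), tmul_zero]
      | zero => rw [map_zero]
      | add a b _ _ ha hb => rw [map_add, ha, hb, add_zero]
      | smul c a _ ha => rw [map_smul, ha, smul_zero]
    have h2 : ∀ z : K ⊗[A] (M ⧸ N), z = 0 := by
      intro z
      obtain ⟨w, rfl⟩ : ∃ w, N.mkQ.lTensor K w = z :=
        LinearMap.lTensor_surjective K N.mkQ_surjective z
      exact h1 w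
    exact ⟨fun a b => by rw [h2 a, h2 b]⟩
  have hns : (⟨p, ‹_›⟩ : PrimeSpectrum A) ∉ Module.support A (M ⧸ N) := by
    rw [Module.mem_support_iff_nontrivial_residueField_tensorProduct, not_nontrivial_iff_subsingleton]
    exact hsub
  obtain ⟨t, ht, htm⟩ := Module.notMem_support_iff'.mp hns (N.mkQ m)
  exact ⟨t, ht, (Submodule.Quotient.mk_eq_zero N).mp (by rw [Submodule.Quotient.mk_smul]; exact htm)⟩

theorem span_one_tmul_eq_top {A : Type u} [CommRing A] (M : Type u) [AddCommGroup M] [Module A M]
    (p : Ideal A) [p.IsPrime] :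
    Submodule.span p.ResidueField (Set.range fun m : M => (1 : p.ResidueField) ⊗ₜ[A] m) = ⊤ := by
  rw [eq_top_iff]
  intro z hz'
  clear hz'
  induction z with
  | zero => exact zero_mem _
  | add a b ha hb => exact add_mem ha hb
  | tmul c m =>
    have : c ⊗ₜ[A] m = c • ((1 : p.ResidueField) ⊗ₜ[A] m) := by
      rw [TensorProduct.smul_tmul', smul_eq_mul, mul_one]
    rw [this]
    exact Submodule.smul_mem _ _ (Submodule.subset_span ⟨m, rfl⟩)

/-- Spanning vectors of a finite module near a prime, as many as the fibre rank. -/
theorem exists_gens {A : Type u} [CommRing A] (M : Type u) [AddCommGroup M] [Module A M] [Module.Finite A M]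
    (p : Ideal A) [p.IsPrime] :
    ∃ y : Fin (Module.finrank p.ResidueField (p.ResidueField ⊗[A] M)) → M,
      ∀ m, ∃ t ∉ p, t • m ∈ Submodule.span A (Set.range y) := by
  classical
  set K := p.ResidueField
  obtain ⟨b, hb, hspan, hind⟩ := exists_linearIndependent K (Set.range fun m : M => (1 : K) ⊗ₜ[A] m)
  rw [span_one_tmul_eq_top] at hspan
  let B := Module.Basis.mk hind (by rw [Subtype.range_coe, hspan])
  let B' := B.reindex (B.indexEquiv (Module.finBasis K (K ⊗[A] M)))
  have hB' : ∀ i, ∃ m : M, (1 : K) ⊗ₜ[A] m = B' i := fun i => by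
    rw [Module.Basis.reindex_apply, Module.Basis.mk_apply]
    exact hb (Subtype.coe_prop _)
  choose y hy using hB'
  exact ⟨y, exists_smul_mem_of_span p y (by
    rw [show (fun i => (1 : K) ⊗ₜ[A] y i) = B' from funext hy]
    exact B'.span_eq)⟩

/-- Derivations extend to localisations. -/
theorem exists_extension {k B S K : Type u} [CommRing k] [CommRing B] [Algebra k B] [CommRing S] [Algebra B S]
    [Algebra k S] [IsScalarTower k B S] (M : Submonoid B) [IsLocalization M S] [CommRing K] [Algebra k K]
    [Algebra B K] [Algebra S K] [IsScalarTower B S K] [IsScalarTower k B K] [IsScalarTower k S K]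
    (δ : Derivation k B K) :
    ∃ E : Derivation k S K, ∀ b, E (algebraMap B S b) = δ b := by
  have : Algebra.FormallyEtale B S := Algebra.FormallyEtale.of_isLocalization M
  let e := KaehlerDifferential.tensorKaehlerEquivOfFormallyEtale k B S
  let Φ : TensorProduct B S (KaehlerDifferential k B) →ₗ[S] K :=
    LinearMap.liftBaseChange S δ.liftKaehlerDifferential
  refine ⟨(Φ ∘ₗ e.symm.toLinearMap).compDer (KaehlerDifferential.D k S), fun b => ?_⟩
  show Φ (e.symm (KaehlerDifferential.D k S (algebraMap B S b))) = _
  rw [show e.symm (KaehlerDifferential.D k S (algebraMap B S b)) =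
      TensorProduct.tmul B (1 : S) (KaehlerDifferential.D k B b) from
    (LinearEquiv.symm_apply_eq e).mpr (by simp [e, KaehlerDifferential.tensorKaehlerEquivOfFormallyEtale_apply])]
  rw [LinearMap.liftBaseChange_tmul, one_smul, Derivation.liftKaehlerDifferential_comp_D]

variable {k A : Type u} [Field k] [CommRing A] [IsLocalRing A] [IsNoetherianRing A] [Algebra k A]
  [IsAdicComplete (maximalIdeal A) A]

/-- A derivation with values in a finitely generated submodule extends to completed differentials. -/
theorem exists_functional {E : Type u} [AddCommGroup E] [Module A E] [Module k E] [IsScalarTower k A E]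
    (D : Derivation k A E) (N : Submodule A E) (hN : N.FG) (hD : ∀ a, D a ∈ N) :
    ∃ G : AdicCompletion (maximalIdeal A) (KaehlerDifferential k A) →ₗ[A] E,
      ∀ a, G (AdicCompletion.of (maximalIdeal A) _ (KaehlerDifferential.D k A a)) = D a := by
  set m := maximalIdeal A
  have : Module.Finite A N := Module.Finite.iff_fg.mpr hN
  have : IsAdicComplete m N := Adic.isAdicComplete_of_finite m
  let d : Derivation k A N := Derivation.mk'
    { toFun := fun a => ⟨D a, hD a⟩
      map_add' := fun a b => Subtype.ext (map_add D a b)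
      map_smul' := fun c a => Subtype.ext (by
        show D (c • a) = c • D a
        rw [Derivation.map_smul]) }
    (fun a b => Subtype.ext (D.leibniz a b))
  refine ⟨N.subtype ∘ₗ (AdicCompletion.ofLinearEquiv m N).symm.toLinearMap ∘ₗ
    (AdicCompletion.map m d.liftKaehlerDifferential).restrictScalars A, fun a => ?_⟩
  show ((AdicCompletion.ofLinearEquiv m N).symm (AdicCompletion.map m _ (AdicCompletion.of m _ _)) : E) = _
  rw [AdicCompletion.map_of, AdicCompletion.ofLinearEquiv_symm_of, Derivation.liftKaehlerDifferential_comp_D]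
  rfl

theorem finite_and_surjective [Module.Finite k (ResidueField A)] :
    Module.Finite A (AdicCompletion (maximalIdeal A) (KaehlerDifferential k A)) ∧
      Function.Surjective (AdicCompletion.of (maximalIdeal A) (KaehlerDifferential k A)) := by
  classical
  set m := maximalIdeal A
  obtain ⟨s, hs⟩ := IsNoetherian.noetherian m
  obtain ⟨t, ht⟩ := (Module.Finite.fg_top : (⊤ : Submodule k (ResidueField A)).FG)
  let g : (s ⊕ t) → A := Sum.elim (fun i => (i : A))
    (fun j => Function.surjInv residue_surjective (j : ResidueField A))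
  let f : ((s ⊕ t) → A) →ₗ[A] KaehlerDifferential k A :=
    Fintype.linearCombination A (fun i => KaehlerDifferential.D k A (g i))
  have hr : ∀ i, KaehlerDifferential.D k A (g i) ∈ LinearMap.range f := fun i =>
    ⟨Pi.single i 1, by simp [f, Fintype.linearCombination_apply_single]⟩
  have hμ : ∀ μ ∈ m, KaehlerDifferential.D k A μ ∈ LinearMap.range f ⊔ m • ⊤ := by
    intro μ hμ
    rw [← hs] at hμ
    induction hμ using Submodule.span_induction with
    | mem z hz => exact Submodule.mem_sup_left (hr (Sum.inl ⟨z, hz⟩))
    | zero => simp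
    | add y z _ _ hy hz => rw [map_add]; exact add_mem hy hz
    | smul r z hz ihz =>
      rw [smul_eq_mul, Derivation.leibniz]
      exact add_mem (Submodule.smul_mem _ _ ihz)
        (Submodule.mem_sup_right (Submodule.smul_mem_smul (hs ▸ hz) trivial))
  have hall : ∀ z ∈ Submodule.span k (t : Set (ResidueField A)), ∀ a, residue A a = z →
      KaehlerDifferential.D k A a ∈ LinearMap.range f ⊔ m • ⊤ := by
    intro z hz
    induction hz using Submodule.span_induction with
    | mem z hz =>
      intro a ha
      have h := hμ (a - g (Sum.inr ⟨z, hz⟩)) ((residue_eq_zero_iff _).mp (by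
        rw [map_sub, ha]; simp [g, Function.surjInv_eq]))
      rw [map_sub] at h
      have := add_mem h (Submodule.mem_sup_left (hr (Sum.inr ⟨z, hz⟩)) :
        KaehlerDifferential.D k A (g (Sum.inr ⟨z, hz⟩)) ∈ LinearMap.range f ⊔ m • ⊤)
      simpa using this
    | zero => intro a ha; exact hμ a ((residue_eq_zero_iff _).mp ha)
    | add y z _ _ hy hz =>
      intro a ha
      obtain ⟨b, hb⟩ := residue_surjective y
      have hc : residue A (a - b) = z := by rw [map_sub, ha, hb]; abel
      have := add_mem (hy b hb) (hz (a - b) hc)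
      rwa [← map_add, add_sub_cancel] at this
    | smul r z _ ihz =>
      intro a ha
      obtain ⟨b, hb⟩ := residue_surjective z
      have hc := hμ (a - r • b) ((residue_eq_zero_iff _).mp (by
        rw [map_sub, ha, Algebra.smul_def, Algebra.smul_def, map_mul, hb, sub_eq_zero]; rfl))
      have := add_mem hc (Submodule.smul_of_tower_mem _ r (ihz b hb))
      rwa [map_sub, Derivation.map_smul, sub_add_cancel] at this
  have hle : Submodule.span A (Set.range (KaehlerDifferential.D k A)) ≤ LinearMap.range f ⊔ m • ⊤ := by
    rw [Submodule.span_le]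
    rintro _ ⟨a, rfl⟩
    exact hall (residue A a) (by rw [ht]; trivial) a rfl
  rw [KaehlerDifferential.span_range_derivation] at hle
  have h := AdicFS.Completed.surjective_of_sup_eq_top m f (top_le_iff.mp hle)
  exact ⟨Module.Finite.of_surjective _ h, fun x => by
    obtain ⟨a, ha⟩ := h x
    exact ⟨f a, ha⟩⟩

theorem finite_completedKaehler [Module.Finite k (ResidueField A)] :
    Module.Finite A (AdicCompletion (maximalIdeal A) (KaehlerDifferential k A)) :=
  finite_and_surjective.1

/-- Independent functionals on completed differentials with values in the fraction field of a quotient. -/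
theorem exists_functionals [Module.Finite k (ResidueField A)] (q : Ideal A) [q.IsPrime] (n' : ℕ)
    (hn' : ringKrullDim (A ⧸ q) = (n' : WithBot ℕ∞)) :
    ∃ G : Fin n' → (AdicCompletion (maximalIdeal A) (KaehlerDifferential k A) →ₗ[A] FractionRing (A ⧸ q)),
      ∀ μ : Fin n' → FractionRing (A ⧸ q), ∑ j, μ j • G j = 0 → μ = 0 := by
  classical
  let B := A ⧸ q
  have : IsLocalRing B := IsLocalRing.of_surjective' (Ideal.Quotient.mk q) Ideal.Quotient.mk_surjective
  have : IsLocalHom (Ideal.Quotient.mk q) := IsLocalHom.of_surjective _ Ideal.Quotient.mk_surjective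
  have : IsAdicComplete (maximalIdeal B) B := LocAlgCx.isAdicComplete_quotient q
  have : Module.Finite k (ResidueField B) :=
    Module.Finite.of_surjective
      ({ toFun := ResidueField.map (Ideal.Quotient.mk q)
         map_add' := map_add _
         map_smul' := fun c x => by
          rw [Algebra.smul_def, map_mul, RingHom.id_apply, Algebra.smul_def]
          rfl } : ResidueField A →ₗ[k] ResidueField B)
      (fun x => by
        obtain ⟨b, rfl⟩ := residue_surjective x
        obtain ⟨a, rfl⟩ := Ideal.Quotient.mk_surjective b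
        exact ⟨residue A a, rfl⟩)
  obtain ⟨n, w, hwinj, hwloc, hwfin⟩ := AdicFS.CompleteNoether.exists_finite_injective (k₀ := k) (A := B)
  let P := MvPowerSeries (Fin n) k
  let _ : Algebra P B := w.toRingHom.toAlgebra
  have : IsScalarTower k P B := IsScalarTower.of_algebraMap_eq fun c => (w.commutes c).symm
  have : Module.Finite P B := hwfin
  have : Algebra.IsIntegral P B := Algebra.IsIntegral.of_finite P B
  have hdim : ringKrullDim B = (n : WithBot ℕ∞) := by
    rw [InvQLib.FiniteFree.ringKrullDim_eq_of_integral P B hwinj, PSLoc.ringKrullDim_eq k n]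
    try rfl
  obtain rfl : n' = n := by
    rw [hdim] at hn'
    exact_mod_cast hn'.symm
  let E := FractionRing B
  let L₀ := FractionRing P
  have : FaithfulSMul P B := (faithfulSMul_iff_algebraMap_injective _ _).mpr hwinj
  have : FaithfulSMul P E := (faithfulSMul_iff_algebraMap_injective _ _).mpr (by
    rw [IsScalarTower.algebraMap_eq P B E]; exact (IsFractionRing.injective B E).comp hwinj)
  let _ : Algebra L₀ E := FractionRing.liftAlgebra P E
  have : IsScalarTower P L₀ E := FractionRing.isScalarTower_liftAlgebra P E
  have : IsScalarTower k L₀ E := IsScalarTower.of_algebraMap_eq fun c => by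
    rw [IsScalarTower.algebraMap_apply k P L₀, ← IsScalarTower.algebraMap_apply P L₀ E,
      IsScalarTower.algebraMap_apply P B E, ← IsScalarTower.algebraMap_apply k P B,
      ← IsScalarTower.algebraMap_apply k B E]
  obtain ⟨N, b, hb⟩ := Module.Finite.exists_fin (R := P) (M := B)
  have : FiniteDimensional L₀ E := by
    let S := Set.range fun j => algebraMap B E (b j)
    have hint : ∀ x ∈ S, IsIntegral L₀ x := by
      rintro _ ⟨j, rfl⟩
      exact ((Algebra.IsIntegral.isIntegral (R := P) (b j)).map (IsScalarTower.toAlgHom P B E)).tower_top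
    have := IntermediateField.finiteDimensional_adjoin (K := L₀) (S := S) hint
    have htop : IntermediateField.adjoin L₀ S = ⊤ := by
      rw [eq_top_iff]
      intro x _
      have hB : ∀ y : B, algebraMap B E y ∈ IntermediateField.adjoin L₀ S := fun y => by
        obtain ⟨c, rfl⟩ := (Submodule.mem_span_range_iff_exists_fun P).mp (hb.ge (Submodule.mem_top (x := y)))
        rw [map_sum]
        refine sum_mem fun j _ => ?_
        rw [Algebra.smul_def, map_mul, ← IsScalarTower.algebraMap_apply P B E, IsScalarTower.algebraMap_apply P L₀ E]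
        exact mul_mem (IntermediateField.algebraMap_mem _ _) (IntermediateField.subset_adjoin _ _ ⟨j, rfl⟩)
      obtain ⟨a, s, -, rfl⟩ := IsFractionRing.div_surjective (A := B) x
      exact div_mem (hB a) (hB s)
    rw [htop] at this
    exact Module.Finite.equiv (IntermediateField.topEquiv (F := L₀) (E := E)).toLinearEquiv
  -- the partial derivatives on `L₀`
  have hd : ∀ i : Fin n', ∃ d : Derivation k L₀ E,
      ∀ c : P, d (algebraMap P L₀ c) = algebraMap P E (MvPowerSeries.pderiv k i c) := by
    intro i
    let δ : Derivation k P E := (Algebra.linearMap P E).compDer (MvPowerSeries.pderiv k i)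
    exact exists_extension (S := L₀) (nonZeroDivisors P) δ
  choose d hd using hd
  have hdi : LinearIndependent E d := by
    rw [Fintype.linearIndependent_iff]
    intro g hg j
    have h1 := congrArg (fun D => D (algebraMap P L₀ (MvPowerSeries.X j))) hg
    rw [← Derivation.coeFnAddMonoidHom_apply, map_sum, Finset.sum_apply] at h1
    simpa [hd, MvPowerSeries.pderiv_X, Pi.single_apply, apply_ite (algebraMap P E)] using h1
  obtain ⟨D, hDi, hDd⟩ := Field.exists_derivations d hdi
  choose e he using fun j => (Submodule.mem_span_range_iff_exists_fun E).mp (hDd j)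
  have hDP : ∀ j (c : P), D j (algebraMap P E c) = ∑ i, algebraMap P E (MvPowerSeries.pderiv k i c) * e j i := by
    intro j c
    rw [IsScalarTower.algebraMap_apply P L₀ E]
    show (D j).compAlgebraMap L₀ (algebraMap P L₀ c) = _
    rw [← he, ← Derivation.coeFnAddMonoidHom_apply, map_sum, Finset.sum_apply]
    simp [hd, mul_comm, ← IsScalarTower.algebraMap_apply P L₀ E]
  have hG : ∀ j, ∃ G : AdicCompletion (maximalIdeal A) (KaehlerDifferential k A) →ₗ[A] E,
      ∀ a, G (AdicCompletion.of (maximalIdeal A) _ (KaehlerDifferential.D k A a)) = D j (algebraMap A E a) := by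
    intro j
    let gen : Finset E := Finset.univ.image (fun l => D j (algebraMap B E (b l))) ∪ Finset.univ.image (e j)
    refine exists_functional ((D j).compAlgebraMap A) (Submodule.span A (gen : Set E)) ⟨gen, rfl⟩ ?_
    intro a
    show D j (algebraMap B E (Ideal.Quotient.mk q a)) ∈ _
    obtain ⟨c, hc⟩ := (Submodule.mem_span_range_iff_exists_fun P).mp
      (hb.ge (Submodule.mem_top (x := Ideal.Quotient.mk q a)))
    rw [← hc, map_sum, map_sum]
    have hBmul : ∀ (y : B) (z : E), z ∈ Submodule.span A (gen : Set E) →
        algebraMap B E y * z ∈ Submodule.span A (gen : Set E) := by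
      intro y z hz
      obtain ⟨a', rfl⟩ := Ideal.Quotient.mk_surjective y
      have : algebraMap B E (Ideal.Quotient.mk q a') * z = a' • z := by rw [Algebra.smul_def]; rfl
      rw [this]
      exact Submodule.smul_mem _ _ hz
    refine sum_mem fun l _ => ?_
    rw [Algebra.smul_def, map_mul, ← IsScalarTower.algebraMap_apply P B E, Derivation.leibniz, smul_eq_mul,
      smul_eq_mul, hDP, IsScalarTower.algebraMap_apply P B E]
    refine add_mem (hBmul _ _ (Submodule.subset_span ?_)) (hBmul _ _ (sum_mem fun i _ => ?_))
    · exact Finset.mem_coe.mpr (Finset.mem_union_left _ (Finset.mem_image_of_mem _ (Finset.mem_univ l)))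
    · rw [IsScalarTower.algebraMap_apply P B E]
      exact hBmul _ _ (Submodule.subset_span (Finset.mem_coe.mpr
        (Finset.mem_union_right _ (Finset.mem_image_of_mem _ (Finset.mem_univ i)))))
  choose G hG using hG
  refine ⟨G, fun μ hμ => ?_⟩
  have hA : ∀ a, (∑ j, μ j • D j) (algebraMap A E a) = 0 := by
    intro a
    have := LinearMap.congr_fun hμ (AdicCompletion.of (maximalIdeal A) _ (KaehlerDifferential.D k A a))
    rw [← Derivation.coeFnAddMonoidHom_apply, map_sum, Finset.sum_apply]
    simpa [LinearMap.sum_apply, hG] using this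
  have hzero : (∑ j, μ j • D j) = 0 := by
    ext x
    obtain ⟨a, s, hs, rfl⟩ := IsFractionRing.div_surjective (A := B) x
    obtain ⟨a, rfl⟩ := Ideal.Quotient.mk_surjective a
    obtain ⟨s, rfl⟩ := Ideal.Quotient.mk_surjective s
    rw [div_eq_mul_inv, Derivation.leibniz, Derivation.leibniz_inv]
    rw [show algebraMap B E (Ideal.Quotient.mk q a) = algebraMap A E a from rfl,
      show algebraMap B E (Ideal.Quotient.mk q s) = algebraMap A E s from rfl, hA, hA]
    simp
  exact funext (Fintype.linearIndependent_iff.mp hDi μ hzero)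

/-- Evaluation of independent functionals on elements generating near `p` is injective. -/
theorem eval_injective {M : Type u} [AddCommGroup M] [Module A M] (p q : Ideal A) [p.IsPrime] [q.IsPrime]
    (hqp : q ≤ p) {n s : ℕ} (G : Fin n → (M →ₗ[A] FractionRing (A ⧸ q)))
    (hG : ∀ μ : Fin n → FractionRing (A ⧸ q), ∑ j, μ j • G j = 0 → μ = 0)
    (y : Fin s → M) (hy : ∀ m, ∃ t ∉ p, t • m ∈ Submodule.span A (Set.range y)) :
    Function.Injective
      (Fintype.linearCombination (FractionRing (A ⧸ q)) (fun j l => G j (y l))) := by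
  classical
  rw [injective_iff_map_eq_zero]
  intro μ hμ
  refine hG μ (LinearMap.ext fun m => ?_)
  obtain ⟨t, ht, htm⟩ := hy m
  have h0 : ∀ l, (∑ j, μ j • G j) (y l) = 0 := fun l => by
    have := congrFun hμ l
    simpa [Fintype.linearCombination_apply, Finset.sum_apply, LinearMap.sum_apply] using this
  have h1 : (∑ j, μ j • G j) (t • m) = 0 := by
    have hker : Submodule.span A (Set.range y) ≤ LinearMap.ker (∑ j, μ j • G j) := by
      rw [Submodule.span_le]
      rintro _ ⟨l, rfl⟩
      exact h0 l
    exact hker htm
  rw [map_smul, Algebra.smul_def, mul_eq_zero] at h1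
  refine h1.resolve_left fun h => ht (hqp ?_)
  rw [show algebraMap A (FractionRing (A ⧸ q)) t = algebraMap (A ⧸ q) _ (Ideal.Quotient.mk q t) from rfl,
    map_eq_zero_iff _ (IsFractionRing.injective (A ⧸ q) _), Ideal.Quotient.eq_zero_iff_mem] at h
  exact h

theorem exists_natCast_eq_ringKrullDim_quotient (q : Ideal A) [q.IsPrime] :
    ∃ n : ℕ, ringKrullDim (A ⧸ q) = (n : WithBot ℕ∞) := by
  have : IsLocalRing (A ⧸ q) := IsLocalRing.of_surjective' (Ideal.Quotient.mk q) Ideal.Quotient.mk_surjective
  obtain ⟨n, hn, -⟩ := RegLoc.exists_natCast_eq_ringKrullDim (A ⧸ q)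
  exact ⟨n, by simpa using hn⟩

/-- Elements generating near `p` are at least as many as the dimension. -/
theorem le_of_gens [Module.Finite k (ResidueField A)] (p q : Ideal A) [p.IsPrime] [q.IsPrime] (hqp : q ≤ p)
    {n s : ℕ} (hn : ringKrullDim (A ⧸ q) = (n : WithBot ℕ∞))
    (y : Fin s → AdicCompletion (maximalIdeal A) (KaehlerDifferential k A))
    (hy : ∀ m, ∃ t ∉ p, t • m ∈ Submodule.span A (Set.range y)) : n ≤ s := by
  obtain ⟨G, hG⟩ := exists_functionals (k := k) q n hn
  have h := LinearMap.finrank_le_finrank_of_injective (eval_injective p q hqp G hG y hy)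
  rwa [Module.finrank_fin_fun, Module.finrank_fin_fun] at h

theorem ringKrullDim_quotient_le [Module.Finite k (ResidueField A)] (p q : Ideal A) [p.IsPrime] [q.IsPrime]
    (hqp : q ≤ p) :
    ringKrullDim (A ⧸ q) ≤ (Module.finrank p.ResidueField
      (p.ResidueField ⊗[A] AdicCompletion (maximalIdeal A) (KaehlerDifferential k A)) : WithBot ℕ∞) := by
  obtain ⟨n, hn⟩ := exists_natCast_eq_ringKrullDim_quotient q
  have := finite_completedKaehler (k := k) (A := A)
  obtain ⟨y, hy⟩ := exists_gens (AdicCompletion (maximalIdeal A) (KaehlerDifferential k A)) p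
  rw [hn]
  exact_mod_cast le_of_gens p q hqp hn y hy

end Groth.Agent.DerExt61.Rank
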