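import Groth.Agent.Hens.SemiLocal
import Groth.Agent.Adic.Basic
import Groth.Agent.CAlg48.AdicPow
import Mathlib.RingTheory.Henselian
import Mathlib.RingTheory.AdicCompletion.LocalRing

/-!
# A Noetherian ring complete along an ideal with Artinian quotient is a product of complete local rings
-/

set_option autoImplicit false
set_option linter.style.haveILetI false

universe u

open IsLocalRing

namespace Groth.Agent.DerExt61.SemiLocal

variable {C : Type u} [CommRing C] (J : Ideal C) [IsAdicComplete J C] [IsArtinianRing (C ⧸ J)]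

omit [IsArtinianRing (C ⧸ J)] in
theorem le_of_isMaximal (M : Ideal C) [M.IsMaximal] : J ≤ M :=
  (IsAdicComplete.le_jacobson_bot J).trans (sInf_le ⟨bot_le, ‹_›⟩)

include J in
/-- There are only finitely many maximal ideals. -/
theorem finite_maximalSpectrum : Finite (MaximalSpectrum C) := by
  refine Finite.of_injective (fun M => (⟨M.asIdeal.map (Ideal.Quotient.mk J),
    Ideal.IsMaximal.map_of_surjective_of_ker_le Ideal.Quotient.mk_surjective
      (by rw [Ideal.mk_ker]; haveI := M.isMaximal; exact le_of_isMaximal J _)⟩ : MaximalSpectrum (C ⧸ J)))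
    fun M M' h => MaximalSpectrum.ext ?_
  haveI := M.isMaximal
  haveI := M'.isMaximal
  have := congrArg (fun x => x.asIdeal.comap (Ideal.Quotient.mk J)) h
  simp only [Ideal.comap_map_of_surjective _ Ideal.Quotient.mk_surjective] at this
  rwa [← RingHom.ker_eq_comap_bot, Ideal.mk_ker, sup_eq_left.2 (le_of_isMaximal J M.asIdeal),
    sup_eq_left.2 (le_of_isMaximal J M'.asIdeal)] at this

omit [IsArtinianRing (C ⧸ J)] in
/-- Idempotents lift along a complete ideal. -/
theorem exists_idempotent_lift {x : C} (hx : x * x - x ∈ J) : ∃ e : C, IsIdempotentElem e ∧ e - x ∈ J := by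
  have hu : IsUnit (Ideal.Quotient.mk J ((Polynomial.derivative (Polynomial.X ^ 2 - Polynomial.X : Polynomial C)).eval x)) := by
    refine IsUnit.of_mul_eq_one (Ideal.Quotient.mk J (2 * x - 1)) ?_
    rw [← map_mul, ← map_one (Ideal.Quotient.mk J), Ideal.Quotient.eq]
    simp
    rw [show ((1 + 1) * x - 1) * (2 * x - 1) - 1 = 4 * (x * x - x) by ring]
    exact J.mul_mem_left _ hx
  obtain ⟨e, he, hex⟩ := HenselianRing.is_henselian (I := J) (Polynomial.X ^ 2 - Polynomial.X)
    (Polynomial.monic_X_pow_sub (lt_of_le_of_lt Polynomial.degree_X_le (by norm_num))) x (by simpa [pow_two] using hx) hu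
  exact ⟨e, show e * e = e by simpa [Polynomial.IsRoot, pow_two, sub_eq_zero] using he, hex⟩

include J in
/-- Separating idempotents. -/
theorem exists_idempotent (n : MaximalSpectrum C) :
    ∃ e : C, IsIdempotentElem e ∧ e ∉ n.asIdeal ∧
      ∀ n' : MaximalSpectrum C, n' ≠ n → e ∈ n'.asIdeal := by
  classical
  haveI := finite_maximalSpectrum J
  obtain ⟨b, hb⟩ := Ideal.exists_forall_sub_mem_ideal
    (I := fun m : MaximalSpectrum C => m.asIdeal)
    (fun i j hij => Ideal.isCoprime_iff_sup_eq.2 (i.isMaximal.coprime_of_ne j.isMaximal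
      fun h => hij (MaximalSpectrum.ext h))) fun m => if m = n then (1 : C) else 0
  have hnil : IsNilpotent (Ideal.Quotient.mk J (b * b - b)) := by
    rw [← mem_nilradical, nilradical_eq_sInf, Ideal.mem_sInf]
    intro P hP
    haveI : P.IsPrime := hP
    haveI : P.IsMaximal := inferInstance
    let m : MaximalSpectrum C :=
      ⟨P.comap (Ideal.Quotient.mk J), Ideal.comap_isMaximal_of_surjective _ Ideal.Quotient.mk_surjective⟩
    show b * b - b ∈ m.asIdeal
    have hm := hb m
    split_ifs at hm
    · rw [show b * b - b = b * (b - 1) by ring]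
      exact m.asIdeal.mul_mem_left _ hm
    · rw [sub_zero] at hm
      rw [show b * b - b = (b - 1) * b by ring]
      exact m.asIdeal.mul_mem_left _ hm
  obtain ⟨e₀, he₀, he₀'⟩ := exists_isIdempotentElem_eq_of_ker_isNilpotent
    (Ideal.Quotient.mk (nilradical (C ⧸ J)))
    (fun x hx => mem_nilradical.1 (by rwa [Ideal.mk_ker] at hx))
    (Ideal.Quotient.mk _ (Ideal.Quotient.mk J b)) ⟨_, rfl⟩
    (by
      show _ * _ = _
      rw [← map_mul, Ideal.Quotient.eq, mem_nilradical, ← map_mul, ← map_sub]
      exact hnil)
  obtain ⟨x, rfl⟩ := Ideal.Quotient.mk_surjective e₀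
  obtain ⟨e, he, hex⟩ := exists_idempotent_lift J (x := x)
    (Ideal.Quotient.eq.mp (by rw [map_mul]; exact he₀))
  have key : ∀ m : MaximalSpectrum C, e - b ∈ m.asIdeal := fun m => by
    haveI := m.isMaximal
    have hJ := le_of_isMaximal J m.asIdeal
    have h1 : Ideal.Quotient.mk J (x - b) ∈ nilradical (C ⧸ J) := by
      rw [map_sub, ← Ideal.Quotient.eq]; exact he₀'
    obtain ⟨k, hk⟩ := mem_nilradical.1 h1
    rw [← map_pow, Ideal.Quotient.eq_zero_iff_mem] at hk
    rw [show e - b = (e - x) + (x - b) by ring]
    exact Ideal.add_mem _ (hJ hex) (m.isMaximal.isPrime.mem_of_pow_mem k (hJ hk))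
  refine ⟨e, he, fun hn => ?_, fun m hm => ?_⟩
  · have := hb n
    simp only [if_true] at this
    exact n.isMaximal.isPrime.ne_top ((Ideal.eq_top_iff_one _).2 (by
      rw [show (1 : C) = e - (e - b) - (b - 1) by ring]
      exact Ideal.sub_mem _ (Ideal.sub_mem _ hn (key n)) this))
  · have := hb m
    simp only [hm, if_false, sub_zero] at this
    rw [show e = (e - b) + b by ring]
    exact Ideal.add_mem _ (key m) this

include J in
/-- The localization at a maximal ideal is a quotient. -/
theorem surjective_localization (M : Ideal C) [M.IsMaximal] :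
    Function.Surjective (algebraMap C (Localization.AtPrime M)) := fun y => by
  classical
  haveI := finite_maximalSpectrum J
  obtain ⟨b, hb⟩ := (Hens.bijective_pi_localization (exists_idempotent J)).2
    (Function.update 0 (⟨M, ‹_›⟩ : MaximalSpectrum C) y)
  refine ⟨b, ?_⟩
  have := congrFun hb (⟨M, ‹_›⟩ : MaximalSpectrum C)
  rwa [Function.update_self] at this

include J in
/-- The local factors are complete. -/
theorem isAdicComplete_localization [IsNoetherianRing C] (M : Ideal C) [M.IsMaximal] :
    IsAdicComplete (maximalIdeal (Localization.AtPrime M)) (Localization.AtPrime M) := by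
  let L := Localization.AtPrime M
  have hs := surjective_localization J M
  haveI : Module.Finite C L := Module.Finite.of_surjective (Algebra.linearMap C L) hs
  haveI : IsAdicComplete (J.map (algebraMap C L)) L :=
    (IsAdicComplete.map_algebraMap_iff _ _).mpr (Adic.isAdicComplete_of_finite _)
  have hle : J.map (algebraMap C L) ≤ maximalIdeal L := by
    rw [← IsLocalization.AtPrime.map_eq_maximalIdeal M L]
    exact Ideal.map_mono (le_of_isMaximal J M)
  obtain ⟨d, hd⟩ : ∃ d, maximalIdeal L ^ d ≤ J.map (algebraMap C L) := by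
    refine Ideal.exists_pow_le_of_le_radical_of_fg ?_ (IsNoetherian.noetherian _)
    rw [Ideal.radical_eq_sInf]
    refine le_sInf fun P hP => ?_
    haveI := hP.2
    have hJ : J ≤ P.comap (algebraMap C L) := Ideal.map_le_iff_le_comap.mp hP.1
    haveI : ((P.comap (algebraMap C L)).map (Ideal.Quotient.mk J)).IsPrime :=
      Ideal.map_isPrime_of_surjective Ideal.Quotient.mk_surjective (by rw [Ideal.mk_ker]; exact hJ)
    haveI : ((P.comap (algebraMap C L)).map (Ideal.Quotient.mk J)).IsMaximal := inferInstance
    have hcm : (P.comap (algebraMap C L)).IsMaximal := by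
      have := Ideal.comap_isMaximal_of_surjective (Ideal.Quotient.mk J) Ideal.Quotient.mk_surjective
        (K := (P.comap (algebraMap C L)).map (Ideal.Quotient.mk J))
      rwa [Ideal.comap_map_of_surjective _ Ideal.Quotient.mk_surjective, ← RingHom.ker_eq_comap_bot,
        Ideal.mk_ker, sup_eq_left.2 hJ] at this
    have hPm : P.IsMaximal := by
      have := Ideal.IsMaximal.map_of_surjective_of_ker_le (m := P.comap (algebraMap C L)) hs
        (Ideal.comap_mono bot_le)
      rwa [Ideal.map_comap_of_surjective _ hs] at this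
    exact (eq_maximalIdeal hPm).ge
  exact CAlg48.AdicPow.isAdicComplete_of_pow_le (I := J.map (algebraMap C L))
    (c := 1) (d := d + 1) Nat.one_pos d.succ_pos (by simpa using hle)
    ((Ideal.pow_le_pow_right d.le_succ).trans hd)

end Groth.Agent.DerExt61.SemiLocal
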