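import Groth.Agent.DerExt61.FrobDer
import Groth.Agent.EGA41Lib.NagataCrit
import Groth.Agent.AdicFS.CompleteNoether
import Groth.Agent.Adic.Rig.Core
import Groth.Agent.PBasis.Family
import Mathlib

/-!
# Derivations of a formal power series ring separate differentials at a prime
-/

set_option autoImplicit false
set_option linter.style.haveILetI false
universe u

open IsLocalRing TensorProduct KaehlerDifferential

noncomputable section

attribute [local instance 10000] Ring.toIntAlgebra

namespace Groth.Agent.DerExt61.SepDer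

section Generic

variable {A : Type u} [CommRing A] (P : Ideal A) [P.IsPrime]

/-- `κ(P) ⊗ Ω_{A/ℤ}`. -/
abbrev W : Type u := P.ResidueField ⊗[A] Ω[A⁄ℤ]

/-- The image of `dx`. -/
def dW (x : A) : W P := 1 ⊗ₜ[A] D ℤ A x

theorem dW_add (x y : A) : dW P (x + y) = dW P x + dW P y := by
  simp [dW, TensorProduct.tmul_add]

theorem dW_zero : dW P (0 : A) = 0 := by simp [dW]

theorem dW_mul (x y : A) :
    dW P (x * y) = algebraMap A P.ResidueField x • dW P y + algebraMap A P.ResidueField y • dW P x := by
  rw [algebraMap_smul, algebraMap_smul, dW, dW, dW, Derivation.leibniz, TensorProduct.tmul_add,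
    TensorProduct.tmul_smul, TensorProduct.tmul_smul]

theorem span_dW : Submodule.span P.ResidueField (Set.range (dW P)) = ⊤ := by
  refine eq_top_iff.mpr fun t htop => ?_
  clear htop
  induction t using TensorProduct.induction_on with
  | zero => exact zero_mem _
  | add a b ha hb => exact add_mem ha hb
  | tmul c ω =>
    have hω : ω ∈ Submodule.span A (Set.range (D ℤ A)) := by rw [span_range_derivation]; trivial
    rw [show c ⊗ₜ[A] ω = c • ((1 : P.ResidueField) ⊗ₜ[A] ω) by rw [smul_tmul', smul_eq_mul, mul_one]]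
    refine Submodule.smul_mem _ _ ?_
    induction hω using Submodule.span_induction with
    | mem y hy => obtain ⟨x, rfl⟩ := hy; exact Submodule.subset_span ⟨x, rfl⟩
    | zero => rw [tmul_zero]; exact zero_mem _
    | add a b _ _ ha hb => rw [tmul_add]; exact add_mem ha hb
    | smul a y _ hy =>
      rw [tmul_smul, ← algebraMap_smul P.ResidueField a]
      exact Submodule.smul_mem _ _ hy

/-- The functional attached to a derivation into `κ(P)`. -/
def ev (δ : Derivation ℤ A P.ResidueField) : W P →ₗ[P.ResidueField] P.ResidueField :=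
  LinearMap.liftBaseChange P.ResidueField δ.liftKaehlerDifferential

theorem ev_dW (δ : Derivation ℤ A P.ResidueField) (x : A) : ev P δ (dW P x) = δ x := by
  simp [ev, dW]

/-- The functional attached to a derivation of `A`. -/
def evD (d : Derivation ℤ A A) : W P →ₗ[P.ResidueField] P.ResidueField :=
  ev P ((Algebra.linearMap A P.ResidueField).compDer d)

theorem evD_dW (d : Derivation ℤ A A) (x : A) : evD P d (dW P x) = algebraMap A P.ResidueField (d x) :=
  ev_dW P _ x

/-- The map to `Ω_{κ(P)}`. -/
def pi : W P →ₗ[P.ResidueField] Ω[P.ResidueField⁄ℤ] :=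
  LinearMap.liftBaseChange P.ResidueField (KaehlerDifferential.map ℤ ℤ A P.ResidueField)

theorem pi_dW (x : A) : pi P (dW P x) = D ℤ P.ResidueField (algebraMap A P.ResidueField x) := by
  simp [pi, dW]

/-- Differentials of elements of `P`. -/
def N : Submodule P.ResidueField (W P) := Submodule.span P.ResidueField (dW P '' P)

theorem mem_N_of_pi_eq_zero {ω : W P} (h : pi P ω = 0) : ω ∈ N P := by
  classical
  let L := P.ResidueField
  by_contra hω
  obtain ⟨φ, hφ, hφN⟩ := Submodule.exists_dual_map_eq_bot_of_notMem hω inferInstance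
  let δ : Derivation ℤ A L := Derivation.mk'
    (AddMonoidHom.mk' (fun x => φ (dW P x)) fun x y => by rw [dW_add, map_add]).toIntLinearMap fun x y => by
      show φ (dW P (x * y)) = x • φ (dW P y) + y • φ (dW P x)
      rw [dW_mul, map_add, map_smul, map_smul, algebraMap_smul, algebraMap_smul]
  have hδP : ∀ x ∈ P, δ x = 0 := fun x hx =>
    (Submodule.mem_bot L).mp (hφN ▸ Submodule.mem_map_of_mem (Submodule.subset_span ⟨x, hx, rfl⟩))
  let l : (A ⧸ P) →ₗ[ℤ] L :=
    (QuotientAddGroup.lift P.toAddSubgroup δ.toLinearMap.toAddMonoidHom (fun x hx => hδP x hx) :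
      A ⧸ P →+ L).toIntLinearMap
  let δ' : Derivation ℤ (A ⧸ P) L := Derivation.mk' l fun x y => by
    obtain ⟨x, rfl⟩ := Ideal.Quotient.mk_surjective x
    obtain ⟨y, rfl⟩ := Ideal.Quotient.mk_surjective y
    have hs : ∀ (x : A) (z : L), (Ideal.Quotient.mk P x : A ⧸ P) • z = x • z := fun x z =>
      algebraMap_smul (A ⧸ P) x z
    rw [hs, hs, ← map_mul]
    exact δ.leibniz x y
  obtain ⟨E, hE⟩ := EGA41Lib.NagataCrit.exists_extension_localization (nonZeroDivisors (A ⧸ P)) (S := L) δ'
  have hfac : φ = E.liftKaehlerDifferential ∘ₗ pi P := by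
    refine LinearMap.ext_on (span_dW P) ?_
    rintro _ ⟨x, rfl⟩
    rw [LinearMap.comp_apply, pi_dW, Derivation.liftKaehlerDifferential_comp_D,
      IsScalarTower.algebraMap_apply A (A ⧸ P) L, hE]
    rfl
  exact hφ (by rw [hfac, LinearMap.comp_apply, h, map_zero])

/-- Generators of `P A_P` span the differentials of `P`. -/
theorem N_le_span {σ : Type*} (c : σ → A) (hc : ∀ i, c i ∈ P)
    (hgen : P.map (algebraMap A (Localization.AtPrime P)) ≤
      (Ideal.span (Set.range c)).map (algebraMap A (Localization.AtPrime P))) :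
    N P ≤ Submodule.span P.ResidueField (Set.range (dW P ∘ c)) := by
  refine Submodule.span_le.mpr ?_
  rintro _ ⟨x, hx, rfl⟩
  obtain ⟨u, hu, hux⟩ := (IsLocalization.algebraMap_mem_map_algebraMap_iff P.primeCompl
    (Localization.AtPrime P) _ _).mp (hgen (Ideal.mem_map_of_mem _ hx))
  have h0 : ∀ y ∈ P, algebraMap A P.ResidueField y = 0 := fun y hy => Ideal.algebraMap_residueField_eq_zero.mpr hy
  have hy : ∀ y ∈ Ideal.span (Set.range c),
      dW P y ∈ Submodule.span P.ResidueField (Set.range (dW P ∘ c)) ∧ y ∈ P := by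
    intro y hy
    induction hy using Submodule.span_induction with
    | mem y hy => obtain ⟨i, rfl⟩ := hy; exact ⟨Submodule.subset_span ⟨i, rfl⟩, hc i⟩
    | zero => exact ⟨by rw [dW_zero]; exact zero_mem _, P.zero_mem⟩
    | add y z _ _ hy hz => exact ⟨by rw [dW_add]; exact add_mem hy.1 hz.1, P.add_mem hy.2 hz.2⟩
    | smul t y _ hy =>
      refine ⟨?_, P.mul_mem_left t hy.2⟩
      rw [smul_eq_mul, dW_mul, h0 y hy.2, zero_smul, add_zero]
      exact Submodule.smul_mem _ _ hy.1
  have h1 := (hy _ hux).1
  rw [dW_mul, h0 x hx, zero_smul, add_zero] at h1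
  exact (Submodule.smul_mem_iff _ fun h => hu (Ideal.algebraMap_residueField_eq_zero.mp h)).mp h1

end Generic

section PS

/-- Ring maps out of power series sending the variables into the maximal ideal respect powers of it. -/
theorem map_pow_le {K R : Type u} [Field K] [CommRing R] [IsLocalRing R] {n : ℕ}
    (f : MvPowerSeries (Fin n) K →+* R) (hf : ∀ i, f (MvPowerSeries.X i) ∈ maximalIdeal R) (N : ℕ)
    {g : MvPowerSeries (Fin n) K} (hg : g ∈ maximalIdeal (MvPowerSeries (Fin n) K) ^ N) :
    f g ∈ maximalIdeal R ^ N := by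
  have h : (maximalIdeal (MvPowerSeries (Fin n) K)).map f ≤ maximalIdeal R := by
    rw [PSLoc.maximalIdeal_eq K, Ideal.map_span, Ideal.span_le]
    rintro _ ⟨_, ⟨i, rfl⟩, rfl⟩
    exact hf i
  exact Ideal.pow_right_mono h N (by rw [← Ideal.map_pow]; exact Ideal.mem_map_of_mem f hg)

/-- A subring containing the constants and the variables contains the polynomials. -/
theorem coe_poly_mem {K : Type u} [Field K] {n : ℕ} (T : Subring (MvPowerSeries (Fin n) K))
    (hC : ∀ c, MvPowerSeries.C c ∈ T) (hX : ∀ i, MvPowerSeries.X i ∈ T) (q : MvPolynomial (Fin n) K) :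
    (q : MvPowerSeries (Fin n) K) ∈ T := by
  induction q using MvPolynomial.induction_on with
  | C a => rw [MvPolynomial.coe_C]; exact hC a
  | add a b ha hb => rw [MvPolynomial.coe_add]; exact T.add_mem ha hb
  | mul_X a i ha => rw [MvPolynomial.coe_mul, MvPolynomial.coe_X]; exact T.mul_mem ha (hX i)

/-- Ring maps out of power series are determined by constants and variables. -/
theorem hom_ext {K R : Type u} [Field K] [CommRing R] [IsLocalRing R] [IsNoetherianRing R] {n : ℕ}
    (f g : MvPowerSeries (Fin n) K →+* R) (hf : ∀ i, f (MvPowerSeries.X i) ∈ maximalIdeal R)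
    (hC : ∀ c, f (MvPowerSeries.C c) = g (MvPowerSeries.C c))
    (hX : ∀ i, f (MvPowerSeries.X i) = g (MvPowerSeries.X i)) : f = g := by
  refine RingHom.ext fun x => sub_eq_zero.mp ((Submodule.mem_bot R).mp ?_)
  rw [← Ideal.iInf_pow_eq_bot_of_isLocalRing (maximalIdeal R) (maximalIdeal.isMaximal R).ne_top,
    Submodule.mem_iInf]
  intro N
  obtain ⟨q, hq⟩ := EGA41Lib.PSJacobian.exists_poly_sub_mem N x
  have hqe : f q = g q := coe_poly_mem (f.eqLocus g) hC hX q
  have h1 := sub_mem (map_pow_le f hf N hq) (map_pow_le g (fun i => hX i ▸ hf i) N hq)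
  rwa [map_sub, map_sub, hqe, sub_sub_sub_cancel_right] at h1

end PS

section Main

variable (p : ℕ) [hp : Fact p.Prime] {K A : Type u} [Field K] [CharP K p] [CommRing A] [IsLocalRing A]
  [IsNoetherianRing A] [IsAdicComplete (maximalIdeal A) A] [Algebra K A] {r : ℕ}
  (e : A ≃ₐ[K] MvPowerSeries (Fin r) K) (P : Ideal A) [P.IsPrime]

set_option maxHeartbeats 4000000 in
include p e in
theorem core : ∃ (s : ℕ) (M : ℕ) (Φ : W P →ₗ[P.ResidueField] (Fin M → P.ResidueField)),
    ringKrullDim (A ⧸ P) = s ∧ r ≤ Module.finrank P.ResidueField ((N P).map Φ) + s ∧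
    ∀ ω, (∀ d : Derivation ℤ A A, evD P d ω = 0) → Φ ω = 0 ∧ pi P ω = 0 := by
  classical
  haveI : ExpChar K p := ExpChar.prime hp.out
  let L := P.ResidueField
  let Ā := A ⧸ P
  -- the residue extension
  haveI : IsLocalRing Ā := IsLocalRing.of_surjective' (Ideal.Quotient.mk P) Ideal.Quotient.mk_surjective
  have hmax : ∀ a ∈ maximalIdeal A, Ideal.Quotient.mk P a ∈ maximalIdeal Ā := fun a ha => by
    haveI : IsLocalHom (Ideal.Quotient.mk P) := IsLocalHom.of_surjective _ Ideal.Quotient.mk_surjective
    exact map_nonunit (Ideal.Quotient.mk P) a ha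
  haveI : IsAdicComplete (maximalIdeal Ā) Ā := by
    have h := Adic.Rig.isAdicComplete_quotient (I := maximalIdeal A) P
    rwa [show (maximalIdeal A).map (Ideal.Quotient.mk P) = maximalIdeal Ā from
      IsLocalRing.eq_maximalIdeal ((Ideal.map_eq_top_or_isMaximal_of_surjective _ Ideal.Quotient.mk_surjective
        (maximalIdeal.isMaximal A)).resolve_left fun h =>
          (maximalIdeal.isMaximal Ā).ne_top (top_le_iff.mp (h ▸ Ideal.map_le_iff_le_comap.mpr hmax)))] at h
  have heX : ∀ i, e.symm (MvPowerSeries.X i) ∈ maximalIdeal A := fun i hu => by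
    have h := hu.map e
    rw [AlgEquiv.apply_symm_apply, MvPowerSeries.isUnit_iff_constantCoeff] at h
    simp at h
  have heC : ∀ c : K, e.symm (MvPowerSeries.C c) = algebraMap K A c := fun c => by
    rw [← AlgEquiv.commutes e.symm c, MvPowerSeries.algebraMap_apply, Algebra.algebraMap_self, RingHom.id_apply]
  haveI : Module.Finite K (ResidueField Ā) := by
    refine Module.Finite.of_surjective (Algebra.linearMap K (ResidueField Ā)) fun z => ?_
    obtain ⟨ā, rfl⟩ := residue_surjective z
    obtain ⟨a, rfl⟩ := Ideal.Quotient.mk_surjective ā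
    refine ⟨MvPowerSeries.constantCoeff (e a), ?_⟩
    rw [Algebra.linearMap_apply, IsScalarTower.algebraMap_apply K Ā (ResidueField Ā), eq_comm,
      show algebraMap Ā (ResidueField Ā) = residue Ā from rfl, ← sub_eq_zero, ← map_sub, residue_eq_zero_iff,
      show algebraMap K Ā _ = Ideal.Quotient.mk P (algebraMap K A _) from rfl, ← map_sub]
    refine hmax _ ?_
    have h1 : e a - MvPowerSeries.C (MvPowerSeries.constantCoeff (e a)) ∈ maximalIdeal (MvPowerSeries (Fin r) K) := by
      rw [mem_maximalIdeal, mem_nonunits_iff, MvPowerSeries.isUnit_iff_constantCoeff]; simp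
    have h2 := map_pow_le (e.symm : MvPowerSeries (Fin r) K ≃ₐ[K] A).toRingEquiv.toRingHom heX 1
      (g := e a - MvPowerSeries.C (MvPowerSeries.constantCoeff (e a))) (by rwa [pow_one])
    rw [pow_one] at h2
    simpa [map_sub, heC] using h2
  -- normalisation
  obtain ⟨s, w, hwinj, hwloc, hwfin⟩ := AdicFS.CompleteNoether.exists_finite_injective (k₀ := K) (A := Ā)
  let PS := MvPowerSeries (Fin s) K
  have hwX : ∀ i, w (MvPowerSeries.X i) ∈ maximalIdeal Ā := fun i hu => by
    haveI := hwloc
    have h := isUnit_of_map_unit w.toRingHom _ hu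
    rw [MvPowerSeries.isUnit_iff_constantCoeff] at h
    simp at h
  choose x hx using fun i => Ideal.Quotient.mk_surjective (w (MvPowerSeries.X i))
  have hxm : ∀ i, x i ∈ maximalIdeal A := fun i hu => hwX i (hx i ▸ hu.map (Ideal.Quotient.mk P))
  obtain ⟨ψ, hψC, hψX⟩ := Nagata.CohenLift.exists_eval K (algebraMap K A) x hxm
  have hψw : ∀ c, Ideal.Quotient.mk P (ψ c) = w c := fun c => RingHom.congr_fun
    (hom_ext ((Ideal.Quotient.mk P).comp ψ) w.toRingHom (fun i => by rw [RingHom.comp_apply, hψX]; exact hmax _ (hxm i))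
      (fun c => by
        show Ideal.Quotient.mk P (ψ (MvPowerSeries.C c)) = w (MvPowerSeries.C c)
        rw [hψC, show (MvPowerSeries.C c : PS) = algebraMap K PS c from rfl, AlgHom.commutes]
        rfl)
      (fun i => by simp [hψX, hx])) c
  -- fields
  let F := FractionRing PS
  have hgL : Function.Injective ((algebraMap Ā L).comp w.toRingHom) :=
    (IsFractionRing.injective Ā L).comp hwinj
  letI algFL : Algebra F L := (IsFractionRing.lift (A := PS) (K := F) hgL).toAlgebra
  have hFL : ∀ c : PS, algebraMap F L (algebraMap PS F c) = algebraMap Ā L (w c) := fun c =>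
    IsFractionRing.lift_algebraMap hgL c
  haveI : Module.Finite F L := by
    letI : Algebra PS Ā := w.toRingHom.toAlgebra
    haveI : Module.Finite PS Ā := hwfin
    haveI : Algebra.IsIntegral PS Ā := Algebra.IsIntegral.of_finite _ _
    letI : Algebra PS L := ((algebraMap Ā L).comp w.toRingHom).toAlgebra
    haveI : IsScalarTower PS Ā L := IsScalarTower.of_algebraMap_eq fun _ => rfl
    haveI : IsScalarTower PS F L := IsScalarTower.of_algebraMap_eq fun c => (hFL c).symm
    obtain ⟨t, ht⟩ := Module.Finite.fg_top (R := PS) (M := Ā)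
    have hint : ∀ a : Ā, IsIntegral F (algebraMap Ā L a) := fun a =>
      ((Algebra.IsIntegral.isIntegral (R := PS) a).map (IsScalarTower.toAlgHom PS Ā L)).tower_top
    let E : IntermediateField F L := IntermediateField.adjoin F (algebraMap Ā L '' (t : Set Ā))
    haveI : Finite (algebraMap Ā L '' (t : Set Ā)) := (t.finite_toSet.image _).to_subtype
    haveI : FiniteDimensional F E := IntermediateField.finiteDimensional_adjoin (by rintro _ ⟨a, -, rfl⟩; exact hint a)
    have hmem : ∀ a : Ā, algebraMap Ā L a ∈ E := fun a => by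
      have ha : a ∈ Submodule.span PS (t : Set Ā) := ht.ge trivial
      induction ha using Submodule.span_induction with
      | mem y hy => exact IntermediateField.subset_adjoin F _ ⟨y, hy, rfl⟩
      | zero => rw [map_zero]; exact zero_mem _
      | add y z _ _ hy hz => rw [map_add]; exact add_mem hy hz
      | smul c y _ hy =>
        rw [Algebra.smul_def, map_mul]
        exact mul_mem (by rw [show algebraMap PS Ā c = w c from rfl, ← hFL]; exact E.algebraMap_mem _) hy
    have htop : E = ⊤ := eq_top_iff.mpr fun z _ => by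
      obtain ⟨a, b, -, rfl⟩ := IsFractionRing.div_surjective (A := Ā) z
      exact div_mem (hmem a) (hmem b)
    exact Module.Finite.equiv ((IntermediateField.equivOfEq htop).trans IntermediateField.topEquiv).toLinearEquiv
  haveI : CharP PS p :=
    (RingHom.charP_iff (algebraMap K PS) (algebraMap K PS).injective p).mp inferInstance
  haveI : CharP F p := charP_of_injective_algebraMap (IsFractionRing.injective PS F) p
  haveI : CharP L p := charP_of_injective_algebraMap (algebraMap F L).injective p
  haveI : Algebra.EssFiniteType F L := inferInstance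
  -- the family
  haveI hint : ∀ (R : Type u) [CommRing R] [Algebra R L], IsScalarTower ℤ R L := fun R _ _ =>
    ⟨fun n a b => by rw [← Int.cast_smul_eq_zsmul R n a, smul_eq_mul, mul_smul, Int.cast_smul_eq_zsmul]⟩
  obtain ⟨J, _, _, _, κ, hκ, hcap, hprop⟩ :=
    PBasis.Family.exists_cofinite_family p (k₀ := (⊥ : Subfield K)) (K := K)
  let κf : J → Subfield K := fun j => (κ j).toSubfield
  have hκp : ∀ j, ∀ c : K, c ^ p ∈ κf j := fun j c => (hprop j).1 c
  have hcap' : ∀ c : K, (∀ j, c ∈ κf j) → ∃ b, b ^ p = c := fun c hc => by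
    have h1 : c ∈ ⨅ j, κ j ⊔ PBasis.Family.PF p (⊥ : Subfield K) K := by
      rw [← SetLike.mem_coe, IntermediateField.coe_iInf, Set.mem_iInter]
      exact fun j => (le_sup_left : κ j ≤ _) (hc j)
    rw [show (⨅ j, κ j ⊔ PBasis.Family.PF p (⊥ : Subfield K) K) = _ from hcap] at h1
    have h2 : PBasis.Family.PF p (⊥ : Subfield K) K ≤
        (Subfield.toIntermediateField (K := (⊥ : Subfield K)) (frobenius K p).fieldRange fun y =>
          (bot_le : (⊥ : Subfield K) ≤ (frobenius K p).fieldRange) y.2) :=
      IntermediateField.adjoin_le_iff.mpr fun z ⟨y, hy⟩ => ⟨y, by rw [frobenius_def]; exact hy⟩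
    obtain ⟨b, hb⟩ := h2 h1
    exact ⟨b, by rw [← frobenius_def]; exact hb⟩
  let P₀ := (⊥ : Subfield F)
  let Fs : J → Subfield F := fun j =>
    Subfield.closure (algebraMap PS F '' (CohenStruct16.FrobSubring.sub p (κf j) s))
  let kF : J → IntermediateField P₀ F := fun j =>
    (Fs j).toIntermediateField fun y => (bot_le : P₀ ≤ Fs j) y.2
  have hanti : Antitone kF := fun i j hij z hz =>
    (Subfield.closure_mono (Set.image_mono fun f hf =>
      (CohenStruct16.FrobSubring.mem_sub p).mpr
        ⟨fun n => hκ hij (((CohenStruct16.FrobSubring.mem_sub p).mp hf).1 n),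
          ((CohenStruct16.FrobSubring.mem_sub p).mp hf).2⟩) : Fs j ≤ Fs i) hz
  have hkpow : ∀ j (z : F), z ^ p ∈ kF j := fun j z => by
    have h1 : ∀ f : PS, algebraMap PS F (f ^ p) ∈ Fs j := fun f =>
      Subfield.subset_closure ⟨_, FrobDer.pow_mem_sub p (hκp j) f, rfl⟩
    obtain ⟨f, g, -, rfl⟩ := IsFractionRing.div_surjective (A := PS) z
    rw [div_pow, ← map_pow, ← map_pow]
    exact (Fs j).div_mem (h1 f) (h1 g)
  have hcapF : PBasis.Family.Cap p kF := by
    refine le_antisymm (fun y hy => ?_) (le_iInf fun i => le_sup_right)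
    rw [← SetLike.mem_coe, IntermediateField.coe_iInf, Set.mem_iInter] at hy
    obtain ⟨z, rfl⟩ := FrobDer.exists_pow_eq p κf hκp hcap' y fun j =>
      (sup_le le_rfl (IntermediateField.adjoin_le_iff.mpr fun _ ⟨z, hz⟩ => hz ▸ hkpow j z) :
        kF j ⊔ PBasis.Family.PF p P₀ F ≤ kF j) (hy j)
    exact IntermediateField.subset_adjoin P₀ _ ⟨z, rfl⟩
  haveI : Module.Finite L (EGA41.imperfection P₀ F L) := PBasis.Family.finite_imperfection L
  obtain ⟨j₀, hadm⟩ := PBasis.Family.exists_admissible p kF L hanti hcapF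
  haveI hκfin : ∀ j, Module.Finite (κf j) K := fun j => (hprop j).2
  let B : ∀ j, FrobDer.Coord (κf j) := fun j => Classical.choice (FrobDer.exists_coord p (κf j) (hκp j))
  let ι : J → Type := fun j => Fin r ⊕ Fin (B j).δ
  let dA : ∀ j, ι j → Derivation ℤ A A := fun j y => Derivation.mk'
    (AddMonoidHom.mk' (fun a => e.symm (FrobDer.der (B j) y (e a))) fun a b => by simp).toIntLinearMap
    fun a b => by
      show e.symm (FrobDer.der (B j) y (e (a * b))) = _
      simp [Derivation.leibniz]
  let Φ : ∀ j, W P →ₗ[L] (ι j → L) := fun j => LinearMap.pi fun y => evD P (dA j y)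
  let g : ∀ j, ι j → A := fun j y => e.symm (FrobDer.gen (B j) y)
  have hΦg : ∀ j y, Φ j (dW P (g j y)) = Pi.single y 1 := fun j y => by
    funext z
    show evD P (dA j z) (dW P (g j y)) = _
    rw [evD_dW]
    show algebraMap A L (e.symm (FrobDer.der (B j) z (e (e.symm (FrobDer.gen (B j) y))))) = _
    rw [AlgEquiv.apply_symm_apply, FrobDer.der_gen, Pi.single_apply]
    split_ifs <;> simp
  have hΦsub : ∀ j (a : A), e a ∈ CohenStruct16.FrobSubring.sub p (κf j) r → Φ j (dW P a) = 0 := fun j a ha => by
    funext z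
    show evD P (dA j z) (dW P a) = _
    rw [evD_dW]
    show algebraMap A L (e.symm (FrobDer.der (B j) z (e a))) = 0
    rw [FrobDer.der_sub p (B j) z ha, map_zero, map_zero]
  let πj : ∀ j, W P →ₗ[L] Ω[L⁄(kF j)] := fun j => (KaehlerDifferential.map ℤ (kF j) L L) ∘ₗ pi P
  have hπj : ∀ j (a : A), πj j (dW P a) = D (kF j) L (algebraMap A L a) := fun j a => by
    show KaehlerDifferential.map ℤ (kF j) L L (pi P (dW P a)) = _
    rw [pi_dW]
    exact map_D _ _ _ _ _
  -- images of `κ[[y^p]]` lie in `F_j(L^p)`
  have hπsub : ∀ j (a : A), e a ∈ CohenStruct16.FrobSubring.sub p (κf j) r → πj j (dW P a) = 0 := by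
    intro j a ha
    rw [hπj, PBasis.Field.D_eq_zero_iff p]
    haveI : IsNoetherianRing (MvPowerSeries (Fin s) (κf j)) :=
      haveI := PSLoc.isRegularLocalRing (k := κf j) s
      inferInstance
    let R₀ := MvPowerSeries (Fin s) (κf j)
    letI : Algebra R₀ Ā := (w.toRingHom.comp (CohenStruct16.FrobSubring.incl p (κf j) s)).toAlgebra
    haveI : Module.Finite R₀ Ā := by
      haveI : Module.Finite (CohenStruct16.FrobSubring.sub p (κf j) s) PS :=
        (CohenStruct16.FrobSubring.exists_basis p (κf j)).2
      have h1 : (CohenStruct16.FrobSubring.incl p (κf j) s).Finite := by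
        refine RingHom.Finite.comp (g := (CohenStruct16.FrobSubring.sub p (κf j) s).subtype)
          (f := (CohenStruct16.FrobSubring.incl p (κf j) s).rangeRestrict) ?_
          (RingHom.Finite.of_surjective _ (RingHom.rangeRestrict_surjective _))
        exact RingHom.finite_algebraMap.mpr ‹_›
      exact hwfin.comp h1
    let G : Subalgebra R₀ Ā := Algebra.adjoin R₀ (Set.range fun z : Ā => z ^ p)
    have hG : ∀ z ∈ G, algebraMap Ā L z ∈ PBasis.Field.pField p (kF j) L := fun z hz => by
      induction hz using Algebra.adjoin_induction with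
      | mem z hz => obtain ⟨y, rfl⟩ := hz; rw [map_pow]; exact PBasis.Field.pow_mem_pField p _
      | algebraMap c =>
        show algebraMap Ā L (w (CohenStruct16.FrobSubring.incl p (κf j) s c)) ∈ _
        rw [← hFL]
        exact (PBasis.Field.pField p (kF j) L).algebraMap_mem ⟨_, Subfield.subset_closure ⟨_, ⟨c, rfl⟩, rfl⟩⟩
      | add y z _ _ hy hz => rw [map_add]; exact add_mem hy hz
      | mul y z _ _ hy hz => rw [map_mul]; exact mul_mem hy hz
    obtain ⟨c, hc⟩ := ha
    let φ : MvPowerSeries (Fin r) (κf j) →+* Ā :=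
      ((Ideal.Quotient.mk P).comp e.symm.toAlgHom.toRingHom).comp (CohenStruct16.FrobSubring.incl p (κf j) r)
    have hinclC : ∀ (n : ℕ) (d : κf j), CohenStruct16.FrobSubring.incl p (κf j) n (MvPowerSeries.C d) =
        MvPowerSeries.C (d : K) := fun n d => by
      simp [CohenStruct16.FrobSubring.incl, MvPowerSeries.expand_C]
    have hinclX : ∀ (n : ℕ) (i : Fin n), CohenStruct16.FrobSubring.incl p (κf j) n (MvPowerSeries.X i) =
        MvPowerSeries.X i ^ p := fun n i => by
      simp [CohenStruct16.FrobSubring.incl]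
    have hφC : ∀ d, φ (MvPowerSeries.C d) ∈ G := fun d => by
      have h1 : φ (MvPowerSeries.C d) = algebraMap R₀ Ā (MvPowerSeries.C d) := by
        show Ideal.Quotient.mk P (e.symm (CohenStruct16.FrobSubring.incl p (κf j) r (MvPowerSeries.C d))) =
          w (CohenStruct16.FrobSubring.incl p (κf j) s (MvPowerSeries.C d))
        rw [hinclC, hinclC, heC, ← hψw, hψC]
      rw [h1]; exact G.algebraMap_mem _
    have hφX : ∀ i, φ (MvPowerSeries.X i) = Ideal.Quotient.mk P (e.symm (MvPowerSeries.X i)) ^ p := fun i => by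
      show Ideal.Quotient.mk P (e.symm (CohenStruct16.FrobSubring.incl p (κf j) r (MvPowerSeries.X i))) = _
      rw [hinclX, map_pow, map_pow]
    have hmem : φ c ∈ G := by
      haveI : IsLocalRing R₀ := inferInstance
      haveI : Algebra.IsIntegral R₀ Ā := Algebra.IsIntegral.of_finite _ _
      have hrad : maximalIdeal Ā ≤ ((maximalIdeal R₀).map (algebraMap R₀ Ā)).radical := by
        rw [Ideal.radical_eq_sInf]
        refine le_sInf fun Q ⟨hQ, hQp⟩ => ?_
        haveI := hQp
        have h1 : Q.comap (algebraMap R₀ Ā) = maximalIdeal R₀ :=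
          le_antisymm (le_maximalIdeal (Ideal.comap_ne_top _ hQp.ne_top)) (Ideal.map_le_iff_le_comap.mp hQ)
        haveI : (Q.comap (algebraMap R₀ Ā)).IsMaximal := h1 ▸ maximalIdeal.isMaximal R₀
        exact (IsLocalRing.eq_maximalIdeal (Ideal.isMaximal_of_isIntegral_of_isMaximal_comap Q ‹_›)).ge
      obtain ⟨k, hk⟩ := Ideal.exists_pow_le_of_le_radical_of_fg hrad (IsNoetherian.noetherian _)
      haveI : IsHausdorff (maximalIdeal R₀) (Ā ⧸ Subalgebra.toSubmodule G) :=
        IsHausdorff.of_le_jacobson _ _ (maximalIdeal_le_jacobson _)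
      refine (Submodule.Quotient.mk_eq_zero (Subalgebra.toSubmodule G)).mp
        (IsHausdorff.haus ‹_› _ fun n => ?_)
      rw [SModEq.zero]
      obtain ⟨q, hq⟩ := EGA41Lib.PSJacobian.exists_poly_sub_mem (k * n) c
      have h1 : φ q ∈ G := coe_poly_mem (G.toSubring.comap φ) hφC (fun i => by
        show φ (MvPowerSeries.X i) ∈ G
        rw [hφX]; exact Algebra.subset_adjoin ⟨_, rfl⟩) q
      have h2 : φ (c - q) ∈ (maximalIdeal R₀ ^ n • ⊤ : Submodule R₀ Ā) := by
        rw [Ideal.smul_top_eq_map, Submodule.restrictScalars_mem, Ideal.map_pow]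
        refine Ideal.pow_right_mono hk n ?_
        rw [← pow_mul]
        exact map_pow_le φ (fun i => by
          rw [hφX]; exact Ideal.pow_mem_of_mem _ (hmax _ (heX i)) p hp.out.pos) _ hq
      have h3 : (Submodule.Quotient.mk (φ c) : Ā ⧸ Subalgebra.toSubmodule G) =
          Submodule.Quotient.mk (φ (c - q)) := by
        rw [Submodule.Quotient.eq, map_sub, sub_sub_cancel]; exact h1
      rw [h3]
      have h4 := Submodule.mem_map_of_mem (f := (Subalgebra.toSubmodule G).mkQ) h2
      rw [Submodule.map_smul''] at h4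
      exact (Submodule.smul_mono le_rfl le_top) h4
    have h5 := hG _ hmem
    rw [show φ c = Ideal.Quotient.mk P a by
      show Ideal.Quotient.mk P (e.symm _) = _
      rw [hc, AlgEquiv.symm_apply_apply]] at h5
    rwa [IsScalarTower.algebraMap_apply A Ā L]
  -- the map `Ψ`
  let Ψ : ∀ j, (ι j → L) →ₗ[L] Ω[L⁄(kF j)] := fun j =>
    Fintype.linearCombination L fun y => πj j (dW P (g j y))
  have hΨΦ : ∀ j, Ψ j ∘ₗ Φ j = πj j := by
    intro j
    refine LinearMap.ext_on (span_dW P) ?_
    rintro _ ⟨a, rfl⟩
    let T : Subring (MvPowerSeries (Fin r) K) :=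
      { carrier := {f | Ψ j (Φ j (dW P (e.symm f))) = πj j (dW P (e.symm f))}
        one_mem' := by simp [dW]
        mul_mem' := fun {f f'} hf hf' => by
          simp only [Set.mem_setOf_eq, map_mul, dW_mul, map_add, map_smul] at hf hf' ⊢
          rw [hf, hf']
        zero_mem' := by simp [dW]
        add_mem' := fun {f f'} hf hf' => by
          simp only [Set.mem_setOf_eq, map_add, dW_add] at hf hf' ⊢
          rw [hf, hf']
        neg_mem' := fun {f} hf => by
          simp only [Set.mem_setOf_eq, map_neg, dW, tmul_neg] at hf ⊢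
          simp [hf] }
    have h := FrobDer.mem_of_gen p (B j) T (fun f hf => by
        have h1 : e (e.symm f) ∈ CohenStruct16.FrobSubring.sub p (κf j) r := by rwa [AlgEquiv.apply_symm_apply]
        show Ψ j (Φ j (dW P (e.symm f))) = πj j (dW P (e.symm f))
        rw [hΦsub j _ h1, hπsub j _ h1, map_zero])
      (fun y => by
        show Ψ j (Φ j (dW P (g j y))) = πj j (dW P (g j y))
        rw [hΦg, Fintype.linearCombination_apply_single, one_smul]) (e a)
    have h' : Ψ j (Φ j (dW P (e.symm (e a)))) = πj j (dW P (e.symm (e a))) := h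
    rwa [AlgEquiv.symm_apply_apply] at h'
  -- `ker Ψ = Φ(N)`
  have hkerΨ : ∀ j, LinearMap.ker (Ψ j) ≤ (N P).map (Φ j) := by
    intro j v hv
    have hsurj : ∀ v, ∃ ω, Φ j ω = v := fun v => ⟨∑ y, v y • dW P (g j y), by
      rw [map_sum]
      simp only [map_smul, hΦg]
      exact (pi_eq_sum_univ' v).symm⟩
    obtain ⟨ω, rfl⟩ := hsurj v
    rw [LinearMap.mem_ker, ← LinearMap.comp_apply, hΨΦ] at hv
    let Z : Submodule L Ω[L⁄ℤ] := (LinearMap.ker (Φ j)).map (pi P)
    let S : Subfield F :=
    { carrier := {y | D ℤ L (algebraMap F L y) ∈ Z}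
      one_mem' := by simp
      zero_mem' := by simp
      add_mem' := fun {a b} ha hb => by simp only [Set.mem_setOf_eq, map_add]; exact add_mem ha hb
      neg_mem' := fun {a} ha => by simp only [Set.mem_setOf_eq, map_neg]; exact neg_mem ha
      mul_mem' := fun {a b} ha hb => by
        simp only [Set.mem_setOf_eq, map_mul, Derivation.leibniz]
        exact add_mem (Z.smul_mem _ hb) (Z.smul_mem _ ha)
      inv_mem' := fun a ha => by
        simp only [Set.mem_setOf_eq, map_inv₀, Derivation.leibniz_inv]
        exact Z.smul_mem _ ha }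
    have hS : Fs j ≤ S := Subfield.closure_le.mpr (by
      rintro _ ⟨f, ⟨c, rfl⟩, rfl⟩
      show D ℤ L (algebraMap F L (algebraMap PS F (CohenStruct16.FrobSubring.incl p (κf j) s c))) ∈ Z
      rw [hFL, ← hψw]
      refine ⟨dW P (ψ (CohenStruct16.FrobSubring.incl p (κf j) s c)), hΦsub j _ ?_, ?_⟩
      · refine FrobDer.mem_sub_of_approx p fun n => ?_
        obtain ⟨q, hq⟩ := EGA41Lib.PSJacobian.exists_poly_sub_mem n c
        let χ : MvPowerSeries (Fin s) (κf j) →+* MvPowerSeries (Fin r) K :=
          (e.toAlgHom.toRingHom.comp ψ).comp (CohenStruct16.FrobSubring.incl p (κf j) s)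
        have hχX : ∀ i, χ (MvPowerSeries.X i) = e (x i) ^ p := fun i => by
          show e (ψ (CohenStruct16.FrobSubring.incl p (κf j) s (MvPowerSeries.X i))) = _
          simp [CohenStruct16.FrobSubring.incl, hψX]
        refine ⟨χ q, coe_poly_mem ((CohenStruct16.FrobSubring.sub p (κf j) r).comap χ) (fun d => ?_) (fun i => ?_) q, ?_⟩
        · rw [Subring.mem_comap]
          show e (ψ (CohenStruct16.FrobSubring.incl p (κf j) s (MvPowerSeries.C d))) ∈ _
          rw [show CohenStruct16.FrobSubring.incl p (κf j) s (MvPowerSeries.C d) = MvPowerSeries.C (d : K) by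
            simp [CohenStruct16.FrobSubring.incl, MvPowerSeries.expand_C], hψC, AlgEquiv.commutes]
          exact FrobDer.C_mem_sub p d.2
        · rw [Subring.mem_comap]
          rw [hχX]; exact FrobDer.pow_mem_sub p (hκp j) _
        · have := map_pow_le χ (fun i => by
            rw [hχX]
            refine Ideal.pow_mem_of_mem _ ?_ p hp.out.pos
            intro hu
            exact hxm i (by simpa using hu.map e.symm)) n hq
          simpa [map_sub, χ] using this
      · rw [pi_dW, IsScalarTower.algebraMap_apply A Ā L]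
        rfl)
    obtain ⟨θ, hθ⟩ := (exact_mapBaseChange_map ℤ (kF j) L (pi P ω)).mp hv
    have hZ : pi P ω ∈ Z := by
      rw [← hθ]
      clear hθ
      induction θ using TensorProduct.induction_on with
      | zero => simp
      | add a b ha hb => rw [map_add]; exact add_mem ha hb
      | tmul c η =>
        rw [mapBaseChange_tmul]
        refine Z.smul_mem _ ?_
        have hη : η ∈ Submodule.span (kF j) (Set.range (D ℤ (kF j))) := by rw [span_range_derivation]; trivial
        induction hη using Submodule.span_induction with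
        | mem y hy => obtain ⟨y, rfl⟩ := hy; rw [map_D]; exact hS y.2
        | zero => simp
        | add a b _ _ ha hb => rw [map_add]; exact add_mem ha hb
        | smul a y _ hy =>
          rw [map_smul, ← algebraMap_smul L a]
          exact Z.smul_mem _ hy
    obtain ⟨ω', hω', hπω'⟩ := hZ
    refine ⟨ω - ω', mem_N_of_pi_eq_zero P (by rw [map_sub, hπω', sub_self]), ?_⟩
    rw [map_sub, LinearMap.mem_ker.mp hω', sub_zero]
  -- the bound
  have hrank : Module.finrank L (Ω[L⁄(kF j₀)]) ≤ s + (B j₀).δ ∧ Module.Finite L (Ω[L⁄(kF j₀)]) := by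
    let k₁ := kF j₀
    let gF : Fin s ⊕ Fin (B j₀).δ → Ω[F⁄k₁] := fun y => D k₁ F (algebraMap PS F (FrobDer.gen (B j₀) y))
    let V := Submodule.span F (Set.range gF)
    let T : Subring PS :=
      { carrier := {f | D k₁ F (algebraMap PS F f) ∈ V}
        one_mem' := by simp
        zero_mem' := by simp
        add_mem' := fun {a b} ha hb => by simp only [Set.mem_setOf_eq, map_add]; exact add_mem ha hb
        neg_mem' := fun {a} ha => by simp only [Set.mem_setOf_eq, map_neg]; exact neg_mem ha
        mul_mem' := fun {a b} ha hb => by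
          simp only [Set.mem_setOf_eq, map_mul, Derivation.leibniz]
          exact add_mem (V.smul_mem _ hb) (V.smul_mem _ ha) }
    have hV : ⊤ ≤ V := by
      rw [← span_range_derivation, Submodule.span_le]
      rintro _ ⟨z, rfl⟩
      have hPS : ∀ f, D k₁ F (algebraMap PS F f) ∈ V := FrobDer.mem_of_gen p (B j₀) T (fun f hf => by
          show D k₁ F (algebraMap PS F f) ∈ V
          rw [show algebraMap PS F f = algebraMap k₁ F ⟨_, Subfield.subset_closure ⟨f, hf, rfl⟩⟩ from rfl,
            Derivation.map_algebraMap]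
          exact zero_mem _) fun y => Submodule.subset_span ⟨y, rfl⟩
      obtain ⟨f, f', -, rfl⟩ := IsFractionRing.div_surjective (A := PS) z
      rw [div_eq_mul_inv, Derivation.leibniz, Derivation.leibniz_inv]
      exact add_mem (V.smul_mem _ (V.smul_mem _ (hPS f'))) (V.smul_mem _ (hPS f))
    haveI : Module.Finite F Ω[F⁄k₁] := ⟨by
      rw [← top_le_iff.mp hV]; exact Submodule.fg_span (Set.finite_range gF)⟩
    have hF : Module.finrank F Ω[F⁄k₁] ≤ s + (B j₀).δ := by
      have h1 := finrank_range_le_card (R := F) gF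
      rw [Set.finrank, show Submodule.span F (Set.range gF) = ⊤ from top_le_iff.mp hV, finrank_top,
        Fintype.card_sum, Fintype.card_fin, Fintype.card_fin] at h1
      exact h1
    let β₀ := mapBaseChange P₀ F L
    let β := mapBaseChange k₁ F L
    let μ := PBasis.Family.mu kF L j₀
    have hcomm : ∀ η, β₀ η = 0 → β (μ η) = 0 := fun η hη => by
      have h1 := DFunLike.congr_fun (FieldSep.Imperfection.map_comp_mapBaseChange P₀ k₁ F L) η
      rw [LinearMap.comp_apply, LinearMap.comp_apply] at h1
      exact h1.symm.trans (by rw [hη, map_zero])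
    let μ' : LinearMap.ker β₀ →ₗ[L] LinearMap.ker β :=
      LinearMap.codRestrict _ (μ.domRestrict _) fun η => hcomm η.1 η.2
    have hμ : Function.Injective μ' := fun a b h => Subtype.ext (sub_eq_zero.mp
      (hadm (a.1 - b.1) (Submodule.sub_mem _ a.2 b.2)
        (by rw [map_sub, sub_eq_zero]; exact congrArg Subtype.val h)))
    haveI : PerfectField P₀ := FieldSep.Cartier.perfectField_bot F
    obtain ⟨d, hd, hk, hc, hi⟩ := FieldSep.Cartier.cart_of_perfectField P₀ F L
    have hd0 : d = 0 := by
      have h0 : Algebra.trdeg F L = 0 := trdeg_eq_zero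
      rw [hd] at h0
      exact_mod_cast h0
    let e1 : (Ω[L⁄P₀] ⧸ (mapBaseChange P₀ F L).range) ≃ₗ[L] Ω[L⁄F] :=
      (Submodule.quotEquivOfEq _ ((KaehlerDifferential.map P₀ F L L).ker)
          (exact_mapBaseChange_map P₀ F L).linearMap_ker_eq.symm).trans
        (LinearMap.quotKerEquivOfSurjective _ (map_surjective P₀ F L))
    haveI : FiniteDimensional L (LinearMap.ker β) := inferInstance
    have hker : Module.finrank L Ω[L⁄F] ≤ Module.finrank L (LinearMap.ker β) := by
      haveI := hk
      rw [LinearMap.index_eq_finrank_sub, hd0] at hi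
      have h1 := LinearMap.finrank_le_finrank_of_injective hμ
      rw [← e1.finrank_eq]
      change Module.finrank L (LinearMap.ker (mapBaseChange P₀ F L)) ≤ _ at h1
      omega
    let e2 : (Ω[L⁄k₁] ⧸ LinearMap.range β) ≃ₗ[L] Ω[L⁄F] :=
      (Submodule.quotEquivOfEq _ ((KaehlerDifferential.map k₁ F L L).ker)
          (exact_mapBaseChange_map k₁ F L).linearMap_ker_eq.symm).trans
        (LinearMap.quotKerEquivOfSurjective _ (map_surjective k₁ F L))
    haveI := hc
    haveI : Module.Finite L Ω[L⁄F] := Module.Finite.equiv e1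
    haveI : Module.Finite L (Ω[L⁄k₁] ⧸ LinearMap.range β) := Module.Finite.equiv e2.symm
    haveI hfin : Module.Finite L Ω[L⁄k₁] := Module.Finite.of_submodule_quotient (LinearMap.range β)
    refine ⟨?_, hfin⟩
    have h1 := Submodule.finrank_quotient_add_finrank (LinearMap.range β)
    rw [e2.finrank_eq] at h1
    have h2 := LinearMap.finrank_range_add_finrank_ker β
    rw [Module.finrank_baseChange] at h2
    change Module.finrank L Ω[L⁄k₁] ≤ _
    omega
  obtain ⟨hrank, hfinΩ⟩ := hrank
  haveI := hfinΩ
  -- separation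
  have hsep : ∀ ω, (∀ d : Derivation ℤ A A, evD P d ω = 0) → pi P ω = 0 := by
    intro ω hω
    have hj : ∀ j, KaehlerDifferential.map P₀ (kF j) L L (KaehlerDifferential.map ℤ P₀ L L (pi P ω)) = 0 := by
      intro j
      have h0 : Φ j ω = 0 := funext fun y => hω _
      have h1 := DFunLike.congr_fun (hΨΦ j) ω
      rw [LinearMap.comp_apply, h0, map_zero] at h1
      have key : ∀ z : Ω[L⁄ℤ], KaehlerDifferential.map P₀ (kF j) L L (KaehlerDifferential.map ℤ P₀ L L z) =
          KaehlerDifferential.map ℤ (kF j) L L z := fun z => by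
        have hz : z ∈ Submodule.span L (Set.range (D ℤ L)) := by rw [span_range_derivation]; trivial
        induction hz using Submodule.span_induction with
        | mem y hy => obtain ⟨y, rfl⟩ := hy; simp [map_D]
        | zero => simp
        | add a b _ _ ha hb => simp only [map_add, ha, hb]
        | smul a y _ hy => simp only [map_smul, hy]
      rw [key]
      exact h1.symm
    set ξ := KaehlerDifferential.map ℤ P₀ L L (pi P ω)
    choose η hη1 hη2 using fun j => PBasis.Family.exists_preimage kF L j ξ (hj j)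
    have hη0 : η j₀ = 0 := by
      refine PBasis.Family.tensor_eq_zero_of_forall p kF L hanti hcapF _ fun j => ?_
      obtain ⟨l, hil, hjl⟩ := exists_ge_ge j₀ j
      have h2 : η l - η j₀ = 0 := hadm _
        (by rw [EGA41.imperfection, LinearMap.mem_ker, map_sub, hη2, hη2, sub_self])
        (by rw [map_sub, hη1, PBasis.Family.map_eq_zero_of_le kF L hanti hil (hη1 l), sub_zero])
      rw [← sub_eq_zero.mp h2]
      exact PBasis.Family.map_eq_zero_of_le kF L hanti hjl (hη1 l)
    have hξ : ξ = 0 := by rw [← hη2 j₀, hη0, map_zero]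
    haveI : Subsingleton Ω[P₀⁄ℤ] := FieldSep.Cartier.subsingleton_kaehler_bot F
    obtain ⟨t, ht⟩ := (exact_mapBaseChange_map ℤ P₀ L (pi P ω)).mp hξ
    rw [← ht, Subsingleton.elim t 0, map_zero]
  -- conclusion
  let σ := Fintype.equivFin (ι j₀)
  let Φ' : W P →ₗ[L] (Fin (Fintype.card (ι j₀)) → L) :=
    (LinearEquiv.funCongrLeft L L σ.symm).toLinearMap ∘ₗ Φ j₀
  refine ⟨s, _, Φ', ?_, ?_, fun ω hω => ⟨?_, hsep ω hω⟩⟩
  · letI : Algebra PS Ā := w.toRingHom.toAlgebra
    haveI : Module.Finite PS Ā := hwfin
    haveI : Algebra.IsIntegral PS Ā := Algebra.IsIntegral.of_finite _ _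
    haveI : FaithfulSMul PS Ā := (faithfulSMul_iff_algebraMap_injective _ _).mpr hwinj
    rw [VarDim.ringKrullDim_eq_of_isIntegral (R := PS) (S := Ā), PSLoc.ringKrullDim_eq]
  · rw [show (N P).map Φ' = ((N P).map (Φ j₀)).map (LinearEquiv.funCongrLeft L L σ.symm).toLinearMap from
      Submodule.map_comp _ _ _, LinearEquiv.finrank_map_eq]
    have h1 := Submodule.finrank_mono (hkerΨ j₀)
    have h2 := LinearMap.finrank_range_add_finrank_ker (Ψ j₀)
    have h3 := Submodule.finrank_le (LinearMap.range (Ψ j₀))
    rw [Module.finrank_fintype_fun_eq_card, Fintype.card_sum, Fintype.card_fin, Fintype.card_fin] at h2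
    show r ≤ Module.finrank L ((N P).map (Φ j₀)) + s
    omega
  · show (LinearEquiv.funCongrLeft L L σ.symm) (Φ j₀ ω) = 0
    rw [show Φ j₀ ω = 0 from funext fun y => hω _, map_zero]

theorem ringKrullDim_add_le {s n : ℕ} (hs : ringKrullDim (A ⧸ P) = s)
    (hn : ringKrullDim (Localization.AtPrime P) = n) (hr : ringKrullDim A = r) : n + s ≤ r := by
  have h := EGA41Lib.PSJacobian.height_add_dim_le P
  rw [hs, hn, hr] at h
  exact_mod_cast h

include p e in
/-- Regular parameters at `P` have independent differentials. -/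
theorem linearIndependent_dW {σ : Type*} [Fintype σ] (c : σ → A) (hc : ∀ i, c i ∈ P)
    (hgen : P.map (algebraMap A (Localization.AtPrime P)) ≤
      (Ideal.span (Set.range c)).map (algebraMap A (Localization.AtPrime P)))
    (hn : ringKrullDim (Localization.AtPrime P) = (Fintype.card σ : ℕ)) :
    LinearIndependent P.ResidueField (dW P ∘ c) := by
  classical
  obtain ⟨s, M, Φ, hs, hr, -⟩ := core p e P
  have hdim : ringKrullDim A = r := by rw [ringKrullDim_eq_of_ringEquiv e.toRingEquiv, PSLoc.ringKrullDim_eq]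
  have h1 := ringKrullDim_add_le P hs hn hdim
  haveI : Module.Finite P.ResidueField (Submodule.span P.ResidueField (Set.range (dW P ∘ c))) :=
    Module.Finite.span_of_finite _ (Set.finite_range _)
  have h2 := Submodule.finrank_mono (N_le_span P c hc hgen)
  haveI : Module.Finite P.ResidueField (N P) := Submodule.finiteDimensional_of_le (N_le_span P c hc hgen)
  have h3 := Submodule.finrank_map_le Φ (N P)
  rw [linearIndependent_iff_card_le_finrank_span, Set.finrank]
  omega

include p e in
/-- Derivations separate `κ(P) ⊗ Ω_{A/ℤ}`. -/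
theorem eq_zero_of_forall_evD [IsRegularLocalRing (Localization.AtPrime P)] (ω : W P)
    (h : ∀ d : Derivation ℤ A A, evD P d ω = 0) : ω = 0 := by
  classical
  obtain ⟨s, M, Φ, hs, hr, hsep⟩ := core p e P
  obtain ⟨hΦ, hπ⟩ := hsep ω h
  obtain ⟨T, hT, hTc⟩ := Submodule.FG.exists_span_finset_card_eq_spanFinrank
    (IsNoetherian.noetherian (maximalIdeal (Localization.AtPrime P)))
  have hn : ringKrullDim (Localization.AtPrime P) = (Fintype.card T : ℕ) := by
    rw [Fintype.card_coe, hT, IsRegularLocalRing.spanFinrank_maximalIdeal]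
  have hmem : ∀ z : T, ∃ (a : A) (u : P.primeCompl), a ∈ P ∧
      (z : Localization.AtPrime P) * algebraMap A _ u = algebraMap A _ a := by
    intro z
    obtain ⟨⟨a, u⟩, hau⟩ := (IsLocalization.mem_map_algebraMap_iff P.primeCompl (Localization.AtPrime P)).mp
      (show (z : Localization.AtPrime P) ∈ P.map (algebraMap A _) by
        rw [Localization.AtPrime.map_eq_maximalIdeal, ← hTc]
        exact Submodule.subset_span z.2)
    exact ⟨a, u, a.2, hau⟩
  choose c u hcP hcu using hmem
  have hgen : P.map (algebraMap A (Localization.AtPrime P)) ≤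
      (Ideal.span (Set.range c)).map (algebraMap A (Localization.AtPrime P)) := by
    rw [Localization.AtPrime.map_eq_maximalIdeal, ← hTc]
    refine Submodule.span_le.mpr fun z hz => ?_
    refine (Ideal.mul_unit_mem_iff_mem _ (IsLocalization.map_units _ (u ⟨z, hz⟩))).mp ?_
    rw [hcu ⟨z, hz⟩]
    exact Ideal.mem_map_of_mem _ (Ideal.subset_span ⟨⟨z, hz⟩, rfl⟩)
  have hdim : ringKrullDim A = r := by rw [ringKrullDim_eq_of_ringEquiv e.toRingEquiv, PSLoc.ringKrullDim_eq]
  have h1 := ringKrullDim_add_le P hs hn hdim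
  haveI : Module.Finite P.ResidueField (Submodule.span P.ResidueField (Set.range (dW P ∘ c))) :=
    Module.Finite.span_of_finite _ (Set.finite_range _)
  have h2 := Submodule.finrank_mono (N_le_span P c hcP hgen)
  have h3 : Module.finrank P.ResidueField (Submodule.span P.ResidueField (Set.range (dW P ∘ c))) ≤ Fintype.card T :=
    finrank_range_le_card _
  haveI : Module.Finite P.ResidueField (N P) := Submodule.finiteDimensional_of_le (N_le_span P c hcP hgen)
  letI : AddCommGroup (N P) := (N P).addCommGroup
  have h4 : Module.finrank P.ResidueField (LinearMap.range (Φ.domRestrict (N P))) +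
      Module.finrank P.ResidueField (LinearMap.ker (Φ.domRestrict (N P))) = Module.finrank P.ResidueField (N P) :=
    LinearMap.finrank_range_add_finrank_ker _
  rw [LinearMap.range_domRestrict] at h4
  have h5 : LinearMap.ker (Φ.domRestrict (N P)) = ⊥ := Submodule.finrank_eq_zero.mp (by omega)
  exact congrArg Subtype.val
    (show (⟨ω, mem_N_of_pi_eq_zero P hπ⟩ : N P) = 0 from
      LinearMap.ker_eq_bot'.mp h5 _ hΦ)

end Main

section Select

variable {A : Type u} [CommRing A] (P : Ideal A) [P.IsPrime]

/-- Independent differentials are dual to derivations up to a common denominator. -/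
theorem exists_dual_derivations (hsep : ∀ ω : W P, (∀ d : Derivation ℤ A A, evD P d ω = 0) → ω = 0)
    {σ : Type u} [Fintype σ] [DecidableEq σ] (x : σ → A) (hx : LinearIndependent P.ResidueField (dW P ∘ x)) :
    ∃ Δ : A, Δ ∉ P ∧ ∃ D : σ → Derivation ℤ A A, ∀ i j, D i (x j) = if i = j then Δ else 0 := by
  classical
  let L := P.ResidueField
  let Sset : Set (σ → L) := Set.range fun d : Derivation ℤ A A => fun j => algebraMap A L (d (x j))
  have htop : ⊤ ≤ Submodule.span L Sset := by
    intro v _
    by_contra hv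
    obtain ⟨φ, hφ, hφS⟩ := Submodule.exists_dual_map_eq_bot_of_notMem hv inferInstance
    have h0 : ∑ j, φ (Pi.single j 1) • dW P (x j) = 0 := hsep _ fun d => by
      rw [map_sum]
      simp only [map_smul, evD_dW]
      have h1 : φ (fun j => algebraMap A L (d (x j))) = 0 :=
        (Submodule.mem_bot L).mp (hφS ▸ Submodule.mem_map_of_mem (Submodule.subset_span ⟨d, rfl⟩))
      rw [pi_eq_sum_univ' (fun j => algebraMap A L (d (x j))), map_sum] at h1
      simp only [map_smul, smul_eq_mul] at h1 ⊢
      simpa [mul_comm] using h1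
    have h2 := Fintype.linearIndependent_iff.mp hx _ h0
    exact hφ (by rw [pi_eq_sum_univ' v, map_sum]; simp [h2])
  let b := Module.Basis.ofSpan htop
  have hb : ∀ i, ∃ d : Derivation ℤ A A, (fun j => algebraMap A L (d (x j))) = b i := fun i =>
    (Module.Basis.ofSpan_subset htop (Set.mem_range_self i))
  haveI := Module.Finite.finite_basis b
  let eσ := b.indexEquiv (Pi.basisFun L σ)
  choose d hd using hb
  let d' : σ → Derivation ℤ A A := fun i => d (eσ.symm i)
  let M : Matrix σ σ A := Matrix.of fun i j => d' i (x j)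
  have hM : M.det ∉ P := by
    intro hP
    have h0 : (M.map (algebraMap A L)).det = 0 := by
      rw [← RingHom.mapMatrix_apply, ← RingHom.map_det]
      exact Ideal.algebraMap_residueField_eq_zero.mpr hP
    have hli : LinearIndependent L (fun i => b (eσ.symm i)) := b.linearIndependent.comp _ eσ.symm.injective
    have hrow : LinearIndependent L (M.map (algebraMap A L)).row := by
      convert hli using 1
      funext i j
      exact congrFun (hd (eσ.symm i)) j
    exact (Matrix.isUnit_iff_isUnit_det _).mp (Matrix.linearIndependent_rows_iff_isUnit.mp hrow) |>.ne_zero h0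
  refine ⟨M.det, hM, fun i => ∑ a, M.adjugate i a • d' a, fun i j => ?_⟩
  rw [show (∑ a, M.adjugate i a • d' a) (x j) = ∑ a, M.adjugate i a * d' a (x j) from by
    show Derivation.coeFnAddMonoidHom (∑ a, M.adjugate i a • d' a) (x j) = _
    simp [map_sum, Finset.sum_apply, Derivation.coeFnAddMonoidHom_apply]]
  have := congrFun (congrFun M.adjugate_mul i) j
  rw [Matrix.mul_apply, Matrix.smul_apply, Matrix.one_apply] at this
  simpa [M] using this

end Select

end Groth.Agent.DerExt61.SepDer
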